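/-
Linear functionals on the roots given by a vector on the Cartan coordinates, and the triangular shape of the
root elements for the grading they define.
-/
import Cfsg.Agent.Lib.Chev.Relations
import Cfsg.Agent.Lib.Chev.Triangular

set_option autoImplicit false

namespace Cfsg.Agent.Chev

open Cfsg.Lie Matrix

variable {F : Type*} [Field F] {D : ChevalleyDatum}

/-- The functional `r ↦ Σ a j A_{j r}` on the roots. -/
def wt (D : ChevalleyDatum) (a : ℕ → ℤ) (r : ℕ) : ℤ :=
  ∑ j ∈ Finset.range D.rank, a j * D.cartan j r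

/-- The weight of a coordinate. -/
def idxWt (D : ChevalleyDatum) (a : ℕ → ℤ) : D.Idx → ℤ := Sum.elim (fun _ => 0) (fun s => wt D a s.val)

/-- An upper bound for the absolute values of the weights. -/
def wtBound (D : ChevalleyDatum) (a : ℕ → ℤ) : ℕ :=
  ∑ s ∈ Finset.range D.nroots, (wt D a s).natAbs

/-- The weight of a coordinate shifted to be a natural number. -/
def wtLevel (D : ChevalleyDatum) (a : ℕ → ℤ) (k : D.Idx) : ℕ :=
  (idxWt D a k + (wtBound D a : ℤ)).toNat

theorem wtLevel_cast (a : ℕ → ℤ) (k : D.Idx) :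
    (wtLevel D a k : ℤ) = idxWt D a k + (wtBound D a : ℤ) := by
  apply Int.toNat_of_nonneg
  rcases k with i | s
  · simp [idxWt]
  · have h : (wt D a s.val).natAbs ≤ wtBound D a :=
      Finset.single_le_sum (f := fun s => (wt D a s).natAbs) (fun _ _ => Nat.zero_le _) (Finset.mem_range.2 s.2)
    simp only [idxWt, Sum.elim_inr]
    omega

namespace Good

variable (hD : Good D)
include hD

theorem wt_neg (a : ℕ → ℤ) {r : ℕ} (hr : r < D.nroots) : wt D a (D.neg r) = - wt D a r := by
  obtain ⟨c, hV⟩ := hD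
  rw [wt, wt, ← Finset.sum_neg_distrib]
  refine Finset.sum_congr rfl fun j hj => ?_
  rw [Finset.mem_range] at hj
  rw [hV.ng_eq hr, hV.A_eq hj (hV.ng_lt hr), hV.A_eq hj hr, ((hV.base'.1 r hr).2.2.2.1 j hj).1]
  ring

theorem wt_chain (a : ℕ → ℤ) {r s : ℕ} (hr : r < D.nroots) (hs : s < D.nroots) {k : ℕ} {q : ℕ × ℤ}
    (h : (D.chainEntry r s)[k]? = some q) : wt D a q.1 = wt D a s + (k + 1 : ℕ) * wt D a r := by
  rw [wt, wt, wt, Finset.mul_sum, ← Finset.sum_add_distrib]
  refine Finset.sum_congr rfl fun j hj => ?_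
  rw [hD.cartan_chain hr h (Finset.mem_range.1 hj) hs]
  ring

theorem wt_chainRoot (a : ℕ → ℤ) {r s : ℕ} (hr : r < D.nroots) (hs : s < D.nroots) {i k : ℕ} (hi : 0 < i)
    (h : D.chainRoot r s i = some k) : k < D.nroots ∧ wt D a k = wt D a s + (i : ℤ) * wt D a r := by
  simp only [ChevalleyDatum.chainRoot, Option.map_eq_some_iff] at h
  obtain ⟨q, hq, rfl⟩ := h
  refine ⟨?_, ?_⟩
  · obtain ⟨c, hV⟩ := id hD
    rw [hV.ent_eq hr] at hq
    exact hV.ent_lt hr (List.mem_of_getElem? hq)
  · rw [hD.wt_chain a hr hs hq, Nat.sub_add_cancel hi]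

/-- The terms of the commutator formula have the weights `i r + j s` with `i, j ≥ 1`. -/
theorem wt_commTerms (a : ℕ → ℤ) {r s : ℕ} (hr : r < D.nroots) (hs : s < D.nroots) {x : ℕ × ℤ × ℕ × ℕ}
    (hx : x ∈ D.commTerms r s) :
    wt D a x.1 = (x.2.2.1 : ℤ) * wt D a r + (x.2.2.2 : ℤ) * wt D a s ∧ 0 < x.2.2.1 ∧ 0 < x.2.2.2 := by
  simp only [ChevalleyDatum.commTerms, List.mem_filterMap, List.mem_cons, List.not_mem_nil, or_false,
    Option.map_eq_some_iff] at hx
  obtain ⟨y, hy, k, hk, rfl⟩ := hx
  dsimp only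
  rcases hy with rfl | rfl | rfl | rfl | rfl | rfl | rfl <;> dsimp only at hk ⊢
  · refine ⟨?_, by norm_num, by norm_num⟩; rw [(hD.wt_chainRoot a hr hs one_pos hk).2]; push_cast; ring
  · refine ⟨?_, by norm_num, by norm_num⟩; rw [(hD.wt_chainRoot a hr hs two_pos hk).2]; push_cast; ring
  · refine ⟨?_, by norm_num, by norm_num⟩; rw [(hD.wt_chainRoot a hs hr two_pos hk).2]; push_cast; ring
  · refine ⟨?_, by norm_num, by norm_num⟩; rw [(hD.wt_chainRoot a hr hs three_pos hk).2]; push_cast; ring
  · refine ⟨?_, by norm_num, by norm_num⟩; rw [(hD.wt_chainRoot a hs hr three_pos hk).2]; push_cast; ring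
  · obtain ⟨m, hm, hk⟩ := Option.bind_eq_some_iff.1 hk
    obtain ⟨hml, hmw⟩ := hD.wt_chainRoot a hr hs three_pos hm
    refine ⟨?_, by norm_num, by norm_num⟩
    rw [(hD.wt_chainRoot a hml hs one_pos hk).2, hmw]; push_cast; ring
  · obtain ⟨m, hm, hk⟩ := Option.bind_eq_some_iff.1 hk
    obtain ⟨hml, hmw⟩ := hD.wt_chainRoot a hs hr three_pos hm
    refine ⟨?_, by norm_num, by norm_num⟩
    rw [(hD.wt_chainRoot a hml hr one_pos hk).2, hmw]; push_cast; ring

theorem wt_reflectRoot (a : ℕ → ℤ) {i s : ℕ} (hi : i < D.rank) (hs : s < D.nroots) :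
    wt D a (D.reflectRoot i s) =
      wt D (fun j => if j = i then a j - wt D a (D.simple i) else a j) s := by
  have h : ∀ j ∈ Finset.range D.rank, (if j = i then a j - wt D a (D.simple i) else a j) * D.cartan j s =
      a j * D.cartan j s - (if j = i then wt D a (D.simple i) * D.cartan i s else 0) := by
    intro j _; split_ifs with h
    · subst h; ring
    · ring
  rw [wt, wt, Finset.sum_congr rfl h, Finset.sum_sub_distrib, Finset.sum_ite_eq' (Finset.range D.rank) i,
    if_pos (Finset.mem_range.2 hi), wt, Finset.sum_mul, ← Finset.sum_sub_distrib]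
  refine Finset.sum_congr rfl fun j hj => ?_
  rw [hD.cartan_reflectRoot hi (Finset.mem_range.1 hj) hs]
  ring

/-- An element `x_r(t)` raises the weight by at least the weight of `r`. -/
theorem raises_x_sub_one (a : ℕ → ℤ) {r : ℕ} (hr : r < D.nroots) (hpos : 0 ≤ wt D a r) (t : F)
    {k : ℕ} (hk : (k : ℤ) ≤ wt D a r) :
    Raises (wtLevel D a) k (D.x F r t - 1) := by
  intro row col hlt
  have hlt' : idxWt D a row < idxWt D a col + (k : ℤ) := by
    have h1 := wtLevel_cast a row
    have h2 := wtLevel_cast a col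
    omega
  clear hlt
  rw [Matrix.sub_apply, sub_eq_zero, Matrix.one_apply]
  rcases col with i | s <;>
    simp only [ChevalleyDatum.x, dif_pos hr, ChevalleyDatum.xMat, Matrix.of_apply, Fin.ext_iff]
  · rcases row with i' | u
    · simp [Fin.ext_iff]
    · simp only [reduceCtorEq, if_false, idxWt, Sum.elim_inr, Sum.elim_inl] at hlt' ⊢
      rw [if_neg]
      intro h; rw [h] at hlt'; omega
  · by_cases hsr : s.val = r
    · rcases row with i' | u
      · simp [hsr]
      · simp only [Sum.inr.injEq, Fin.ext_iff, hsr, if_true]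
    rw [if_neg hsr]
    have hneg := hD.wt_neg a hr
    by_cases hsn : s.val = D.neg r
    · rw [if_pos (show s.val = D.negIdx.getD r 0 from hsn)]
      rcases row with i' | u
      · simp only [idxWt, Sum.elim_inr, Sum.elim_inl, hsn] at hlt'
        omega
      · simp only [Sum.inr.injEq, Fin.ext_iff]
        by_cases hus : u.val = s.val
        · simp [hus]
        · rw [if_neg hus, if_neg hus, if_neg]
          intro h
          simp only [idxWt, Sum.elim_inr, hsn, h] at hlt'
          omega
    · rw [if_neg (show ¬ s.val = D.negIdx.getD r 0 from hsn)]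
      rcases row with i' | u
      · simp
      · simp only [Sum.inr.injEq, Fin.ext_iff]
        rw [add_eq_left]
        refine List.sum_eq_zero fun z hz => ?_
        obtain ⟨km, hkm, rfl⟩ := List.mem_map.1 hz
        exfalso
        obtain ⟨c, hV⟩ := id hD
        rw [hV.chainCoeff_eq hr, List.mem_map] at hkm
        obtain ⟨q, hq, -⟩ := hkm
        rw [List.mem_filter, decide_eq_true_eq] at hq
        have hq' : (D.chainEntry r s.val)[q.2]? = some q.1 := by
          rw [hV.ent_eq hr, List.mem_zipIdx_iff_getElem?.1 hq.1]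
        have hw := hD.wt_chain a hr s.2 hq'
        rw [hq.2] at hw
        simp only [idxWt, Sum.elim_inr] at hlt'
        have : wt D a r ≤ (q.2 + 1 : ℕ) * wt D a r := le_mul_of_one_le_left hpos (by simp)
        omega

end Good

end Cfsg.Agent.Chev
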