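/-
Certificates for the seven data: a functional positive on the positive roots, and for every fundamental root p
a commutator formula in which x_p occurs linearly with coefficient ±1.
-/
import Cfsg.Agent.Lib.Chev.Steinberg.Weight
import Cfsg.Prelude.Def_ChevB2
import Cfsg.Prelude.Def_ChevD4
import Cfsg.Prelude.Def_ChevG2
import Cfsg.Prelude.Def_ChevF4
import Cfsg.Prelude.Def_ChevE6
import Cfsg.Prelude.Def_ChevE7
import Cfsg.Prelude.Def_ChevE8

set_option autoImplicit false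

namespace Cfsg.Agent.Chev

open Cfsg.Lie

variable (D : ChevalleyDatum)

/-- The functional given by a list on the Cartan coordinates. -/
def listFun (L : List ℤ) (j : ℕ) : ℤ := L.getD j 0

/-- The functional is positive on the roots of the second half of the list. -/
def PosFun (L : List ℤ) : Prop := ∀ r < D.nroots, D.nroots / 2 ≤ r → 0 < wt D (listFun L) r

instance decidablePosFun (L : List ℤ) : Decidable (PosFun D L) :=
  inferInstanceAs (Decidable (∀ _, _ → _))

/-- The pair (r, s) and the functional `b`, positive on r and s, witness the fundamental root `p_i` as a term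
linear in the second parameter. -/
def WitAt (i : ℕ) (w : ℕ × ℕ × List ℤ) : Prop :=
  w.1 < D.nroots ∧ w.2.1 < D.nroots ∧ w.2.1 ≠ w.1 ∧ w.2.1 ≠ D.neg w.1 ∧
    0 < wt D (listFun w.2.2) w.1 ∧ 0 < wt D (listFun w.2.2) w.2.1 ∧
    (((D.commTerms w.1 w.2.1).filter fun x => x.1 == D.simple i).map
      fun x => (x.2.1.natAbs, x.2.2.2)) = [(1, 1)]

instance decidableWitAt (i : ℕ) (w : ℕ × ℕ × List ℤ) : Decidable (WitAt D i w) :=
  inferInstanceAs (Decidable (_ ∧ _))

/-- All witnesses. -/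
def WitList (W : List (ℕ × ℕ × List ℤ)) : Prop := ∀ i < D.rank, WitAt D i (W.getD i (0, 0, []))

instance decidableWitList (W : List (ℕ × ℕ × List ℤ)) : Decidable (WitList D W) :=
  inferInstanceAs (Decidable (∀ _, _ → _))

/-- The certificate. -/
def StData : Prop := ∃ L W, PosFun D L ∧ WitList D W

theorem stData_chevG2 : StData chevG2 :=
  ⟨[6, 10], [(2, 10, [-1, -4]), (1, 11, [0, 1])], by decide +kernel, by decide +kernel⟩

theorem stData_chevB2 : StData chevB2 :=
  ⟨[3, 4], [(1, 7, [1, -1]), (2, 7, [1, 3])], by decide +kernel, by decide +kernel⟩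

theorem stData_chevD4 : StData chevD4 :=
  ⟨[6, 10, 6, 6], [(6, 22, [1, 0, 0, 0]), (1, 23, [0, 1, 0, 0]), (3, 22, [0, 0, 1, 0]), (2, 22, [0, 0, 0, 1])],
    by decide +kernel, by decide +kernel⟩

theorem stData_chevF4 : StData chevF4 :=
  ⟨[16, 30, 42, 22],
    [(7, 44, [1, 0, 0, 0]), (3, 45, [-1, 0, -2, -1]), (2, 46, [0, 0, 1, 0]), (1, 47, [0, 0, 0, 1])],
    by decide +kernel, by decide +kernel⟩

theorem stData_chevE6 : StData chevE6 :=
  ⟨[16, 22, 30, 42, 30, 16],
    [(16, 66, [1, 0, 0, 0, 0, 0]), (1, 71, [0, 1, 0, 0, 0, 0]), (5, 69, [0, 0, 1, 0, 0, 0]),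
      (2, 70, [0, 0, 0, 1, 0, 0]), (3, 69, [0, 0, 0, 0, 1, 0]), (4, 68, [0, 0, 0, 0, 0, 1])],
    by decide +kernel, by decide +kernel⟩

theorem stData_chevE7 : StData chevE7 :=
  ⟨[34, 49, 66, 96, 75, 52, 27],
    [(1, 125, [1, 0, 0, 0, 0, 0, 0]), (7, 122, [0, 1, 0, 0, 0, 0, 0]), (2, 124, [0, 0, 1, 0, 0, 0, 0]),
      (3, 123, [0, 0, 0, 1, 0, 0, 0]), (4, 122, [0, 0, 0, 0, 1, 0, 0]), (5, 121, [0, 0, 0, 0, 0, 1, 0]),
      (6, 120, [0, 0, 0, 0, 0, 0, 1])],
    by decide +kernel, by decide +kernel⟩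

theorem stData_chevE8 : StData chevE8 :=
  ⟨[92, 136, 182, 270, 220, 168, 114, 58],
    [(14, 233, [1, 0, 0, 0, 0, 0, 0, 0]), (7, 234, [0, 1, 0, 0, 0, 0, 0, 0]), (6, 234, [0, 0, 1, 0, 0, 0, 0, 0]),
      (5, 235, [0, 0, 0, 1, 0, 0, 0, 0]), (4, 236, [0, 0, 0, 0, 1, 0, 0, 0]), (3, 237, [0, 0, 0, 0, 0, 1, 0, 0]),
      (2, 238, [0, 0, 0, 0, 0, 0, 1, 0]), (1, 239, [0, 0, 0, 0, 0, 0, 0, 1])],
    by decide +kernel, by decide +kernel⟩

theorem stData_of_mem (hD : D ∈ [chevG2, chevB2, chevD4, chevF4, chevE6, chevE7, chevE8]) : StData D := by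
  simp only [List.mem_cons, List.not_mem_nil, or_false] at hD
  rcases hD with rfl | rfl | rfl | rfl | rfl | rfl | rfl
  exacts [stData_chevG2, stData_chevB2, stData_chevD4, stData_chevF4, stData_chevE6, stData_chevE7, stData_chevE8]

end Cfsg.Agent.Chev
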