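/-
Groups with root elements satisfying Steinberg's relations (R1), (R2) over a Chevalley group: on the subgroup
generated by the roots on which a linear functional is positive the map to the Chevalley group is injective.
-/
import Cfsg.Agent.Lib.Chev.Elements
import Cfsg.Agent.Lib.Chev.BN
import Cfsg.Agent.Lib.Chev.Steinberg.Witness

set_option autoImplicit false

namespace Cfsg.Agent.Chev

open Cfsg.Lie Matrix

/-- A group with elements satisfying (R1), (R2) that maps onto root elements of the Chevalley group. -/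
structure StModel (D : ChevalleyDatum) (F : Type*) [Field F] (M : Type*) [Group M] where
  /-- the generators -/
  x : ℕ → F → M
  /-- the map to the Chevalley group -/
  θ : M →* GL D.Idx F
  add : ∀ r < D.nroots, ∀ t u : F, x r t * x r u = x r (t + u)
  comm : ∀ r < D.nroots, ∀ s < D.nroots, s ≠ r → s ≠ D.neg r → ∀ t u : F,
    (x s u)⁻¹ * (x r t)⁻¹ * x s u * x r t = ((D.commWord F r s t u).map fun p => x p.1 p.2).prod
  map_x : ∀ r < D.nroots, ∀ t : F, θ (x r t) = xg D F r t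

variable {D : ChevalleyDatum} {F : Type*} [Field F] {M : Type*} [Group M]

namespace StModel

variable (S : StModel D F M)

theorem x_zero {r : ℕ} (hr : r < D.nroots) : S.x r 0 = 1 := by
  have := S.add r hr 0 0
  rwa [add_zero, mul_eq_left] at this

theorem x_inv {r : ℕ} (hr : r < D.nroots) (t : F) : (S.x r t)⁻¹ = S.x r (-t) :=
  inv_eq_of_mul_eq_one_right (by rw [S.add r hr, add_neg_cancel, S.x_zero hr])

/-- The subgroup generated by the roots of weight at least `k`. -/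
def Uf (a : ℕ → ℤ) (k : ℕ) : Subgroup M :=
  Subgroup.closure {g | ∃ r, r < D.nroots ∧ (k : ℤ) ≤ wt D a r ∧ ∃ t : F, g = S.x r t}

theorem x_mem_Uf {a : ℕ → ℤ} {k r : ℕ} (hr : r < D.nroots) (hk : (k : ℤ) ≤ wt D a r) (t : F) :
    S.x r t ∈ S.Uf a k := Subgroup.subset_closure ⟨r, hr, hk, t, rfl⟩

theorem Uf_anti (a : ℕ → ℤ) {k l : ℕ} (h : k ≤ l) : S.Uf a l ≤ S.Uf a k := by
  refine Subgroup.closure_mono ?_
  rintro g ⟨r, hr, hk, t, rfl⟩
  exact ⟨r, hr, by omega, t, rfl⟩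

theorem Uf_eq_bot (a : ℕ → ℤ) : S.Uf a (wtBound D a + 1) = ⊥ := by
  rw [Uf, Subgroup.closure_eq_bot_iff]
  rintro g ⟨r, hr, hk, -⟩
  have h : (wt D a r).natAbs ≤ wtBound D a :=
    Finset.single_le_sum (f := fun s => (wt D a s).natAbs) (fun _ _ => Nat.zero_le _) (Finset.mem_range.2 hr)
  omega

variable (hD : Good D)
include hD

/-- Conjugation by an element of non-negative weight changes a root element of weight ≥ k ≥ 1 by higher terms. -/
theorem conj_x (a : ℕ → ℤ) {r s : ℕ} (hr : r < D.nroots) (hs : s < D.nroots) (hr0 : 0 ≤ wt D a r) {k : ℕ}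
    (hk : 1 ≤ k) (hsk : (k : ℤ) ≤ wt D a s) (t u : F) :
    ∃ w ∈ S.Uf a (k + (wt D a r).toNat), S.x r t * S.x s u * (S.x r t)⁻¹ = S.x s u * w := by
  by_cases hsr : s = r
  · subst hsr
    refine ⟨1, Subgroup.one_mem _, ?_⟩
    rw [S.x_inv hs, S.add s hs, S.add s hs, mul_one]
    congr 1; ring
  have hsn : s ≠ D.neg r := by
    rintro rfl
    rw [hD.wt_neg a hr] at hsk
    omega
  have h := S.comm r hr s hs hsr hsn (-t) u
  refine ⟨_, ?_, (?_ : _ = S.x s u * ((D.commWord F r s (-t) u).map fun p => S.x p.1 p.2).prod)⟩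
  · refine Subgroup.list_prod_mem _ fun g hg => ?_
    simp only [ChevalleyDatum.commWord, List.map_map, List.mem_map, Function.comp_def] at hg
    obtain ⟨c, hc, rfl⟩ := hg
    obtain ⟨hw, hi, hj⟩ := hD.wt_commTerms a hr hs hc
    refine S.x_mem_Uf (hD.commTerms_lt hr hs hc) ?_ _
    have h1 : wt D a r ≤ (c.2.2.1 : ℤ) * wt D a r := le_mul_of_one_le_left hr0 (by omega)
    have h2 : wt D a s ≤ (c.2.2.2 : ℤ) * wt D a s := le_mul_of_one_le_left (by omega) (by omega)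
    rw [hw]
    omega
  · rw [← h, ← S.x_inv hr t]
    group

theorem x_normalizes (a : ℕ → ℤ) {r : ℕ} (hr : r < D.nroots) (hr0 : 0 ≤ wt D a r) {k : ℕ} (hk : 1 ≤ k) (t : F)
    {g : M} (hg : g ∈ S.Uf a k) : S.x r t * g * (S.x r t)⁻¹ ∈ S.Uf a k := by
  refine (show S.Uf a k ≤ (S.Uf a k).comap (MulAut.conj (S.x r t)).toMonoidHom from ?_) hg
  conv_lhs => rw [Uf]
  rw [Subgroup.closure_le]
  rintro y ⟨s, hs, hsk, u, rfl⟩
  obtain ⟨w, hw, e⟩ := S.conj_x hD a hr hs hr0 hk hsk t u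
  simp only [SetLike.mem_coe, Subgroup.mem_comap, MulEquiv.coe_toMonoidHom, MulAut.conj_apply, e]
  exact Subgroup.mul_mem _ (S.x_mem_Uf hs hsk u) (S.Uf_anti a (by omega) hw)

omit hD in
/-- The roots in the list and the roots of weight above `k`. -/
def Wl (a : ℕ → ℤ) (k : ℕ) (L : List ℕ) : Subgroup M :=
  Subgroup.closure {g | ∃ r, r < D.nroots ∧ ((k : ℤ) < wt D a r ∨ r ∈ L) ∧ ∃ t : F, g = S.x r t}

omit hD in
theorem Wl_le_Uf {a : ℕ → ℤ} {k : ℕ} {L : List ℕ} (hL : ∀ r ∈ L, wt D a r = k) : S.Wl a k L ≤ S.Uf a k := by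
  refine Subgroup.closure_mono ?_
  rintro g ⟨r, hr, h | h, t, rfl⟩
  · exact ⟨r, hr, h.le, t, rfl⟩
  · exact ⟨r, hr, (hL r h).ge, t, rfl⟩

omit hD in
theorem Uf_succ_le_Wl (a : ℕ → ℤ) (k : ℕ) (L : List ℕ) : S.Uf a (k + 1) ≤ S.Wl a k L := by
  refine Subgroup.closure_mono ?_
  rintro g ⟨r, hr, h, t, rfl⟩
  exact ⟨r, hr, Or.inl (by omega), t, rfl⟩

theorem Wl_cons {a : ℕ → ℤ} {k : ℕ} (hk : 1 ≤ k) {p : ℕ} {L : List ℕ} (hp : p < D.nroots)
    (hL : ∀ r ∈ p :: L, wt D a r = k) {g : M} (hg : g ∈ S.Wl a k (p :: L)) :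
    ∃ t : F, ∃ w ∈ S.Wl a k L, g = S.x p t * w := by
  have hwp := hL p List.mem_cons_self
  have conj : ∀ t : F, ∀ w ∈ S.Wl a k L, S.x p t * w * (S.x p t)⁻¹ ∈ S.Wl a k L := by
    intro t w hw
    refine (show S.Wl a k L ≤ (S.Wl a k L).comap (MulAut.conj (S.x p t)).toMonoidHom from ?_) hw
    conv_lhs => rw [Wl]
    rw [Subgroup.closure_le]
    rintro y ⟨s, hs, hsk, u, rfl⟩
    have hsk' : (k : ℤ) ≤ wt D a s := hsk.elim le_of_lt fun h => (hL s (List.mem_cons_of_mem _ h)).ge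
    obtain ⟨w, hw, e⟩ := S.conj_x hD a hp hs (by omega) hk hsk' t u
    simp only [SetLike.mem_coe, Subgroup.mem_comap, MulEquiv.coe_toMonoidHom, MulAut.conj_apply, e]
    exact Subgroup.mul_mem _ (Subgroup.subset_closure ⟨s, hs, hsk, u, rfl⟩)
      (S.Uf_succ_le_Wl a k L (S.Uf_anti a (by omega) hw))
  induction hg using Subgroup.closure_induction with
  | mem y hy =>
    obtain ⟨r, hr, h, t, rfl⟩ := hy
    rcases h with h | h
    · exact ⟨0, _, Subgroup.subset_closure ⟨r, hr, Or.inl h, t, rfl⟩, by rw [S.x_zero hp, one_mul]⟩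
    rcases List.mem_cons.1 h with rfl | h
    · exact ⟨t, 1, Subgroup.one_mem _, (mul_one _).symm⟩
    · exact ⟨0, _, Subgroup.subset_closure ⟨r, hr, Or.inr h, t, rfl⟩, by rw [S.x_zero hp, one_mul]⟩
  | one => exact ⟨0, 1, Subgroup.one_mem _, by rw [S.x_zero hp, one_mul]⟩
  | mul y z _ _ ihy ihz =>
    obtain ⟨t, v, hv, rfl⟩ := ihy
    obtain ⟨u, w, hw, rfl⟩ := ihz
    refine ⟨t + u, (S.x p u)⁻¹ * v * S.x p u * w, Subgroup.mul_mem _ ?_ hw, ?_⟩
    · have := conj (-u) v hv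
      rwa [← S.x_inv hp, inv_inv] at this
    · rw [← S.add p hp]; group
  | inv y _ ih =>
    obtain ⟨t, v, hv, rfl⟩ := ih
    refine ⟨-t, S.x p t * v⁻¹ * (S.x p t)⁻¹, conj t _ (Subgroup.inv_mem _ hv), ?_⟩
    rw [← S.x_inv hp]; group

theorem map_Uf_le_unitri (a : ℕ → ℤ) {k : ℕ} {g : M} (hg : g ∈ S.Uf a (k + 1)) :
    S.θ g ∈ unitri F (wtLevel D a) k := by
  refine (show S.Uf a (k + 1) ≤ (unitri F (wtLevel D a) k).comap S.θ from ?_) hg
  rw [Uf, Subgroup.closure_le]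
  rintro y ⟨r, hr, hk, t, rfl⟩
  rw [SetLike.mem_coe, Subgroup.mem_comap, S.map_x r hr, mem_unitri, hD.coe_xg]
  exact hD.raises_x_sub_one a hr (by omega) t hk

/-- The entry from e_{-p} to a coroot is additive above the weight of `p`. -/
theorem entry_mul (a : ℕ → ℤ) {k p : ℕ} (hp : p < D.nroots) (hwp : wt D a p = (k + 1 : ℕ)) {g g' : GL D.Idx F}
    (hg : g ∈ unitri F (wtLevel D a) k) (hg' : g' ∈ unitri F (wtLevel D a) k) (i : Fin D.rank) :
    ((g * g' : GL D.Idx F) : Matrix D.Idx D.Idx F) (Sum.inl i) (Sum.inr ⟨D.neg p, hD.neg_lt hp⟩) =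
      (g : Matrix D.Idx D.Idx F) (Sum.inl i) (Sum.inr ⟨D.neg p, hD.neg_lt hp⟩) +
        (g' : Matrix D.Idx D.Idx F) (Sum.inl i) (Sum.inr ⟨D.neg p, hD.neg_lt hp⟩) := by
  have h := (mem_unitri.1 hg).mul (mem_unitri.1 hg') (Sum.inl i) (Sum.inr ⟨D.neg p, hD.neg_lt hp⟩) (by
    have h1 := wtLevel_cast (D := D) a (Sum.inl i)
    have h2 := wtLevel_cast (D := D) a (Sum.inr ⟨D.neg p, hD.neg_lt hp⟩)
    simp only [idxWt, Sum.elim_inl, Sum.elim_inr, hD.wt_neg a hp, hwp] at h1 h2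
    omega)
  rw [sub_mul, mul_sub, mul_one, one_mul] at h
  simp only [Matrix.sub_apply, Matrix.one_apply_ne (Sum.inl_ne_inr), sub_zero] at h
  rw [Units.val_mul]
  linear_combination h

theorem entry_Wl (a : ℕ → ℤ) {k p : ℕ} (hp : p < D.nroots) (hwp : wt D a p = (k + 1 : ℕ)) {L : List ℕ}
    (hL : ∀ r ∈ L, wt D a r = (k + 1 : ℕ)) (hpL : p ∉ L) {g : M} (hg : g ∈ S.Wl a (k + 1) L) (i : Fin D.rank) :
    ((S.θ g : GL D.Idx F) : Matrix D.Idx D.Idx F) (Sum.inl i) (Sum.inr ⟨D.neg p, hD.neg_lt hp⟩) = 0 := by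
  suffices h : g ∈ S.Uf a (k + 1) ∧
      ((S.θ g : GL D.Idx F) : Matrix D.Idx D.Idx F) (Sum.inl i) (Sum.inr ⟨D.neg p, hD.neg_lt hp⟩) = 0 from h.2
  induction hg using Subgroup.closure_induction with
  | mem y hy =>
    obtain ⟨r, hr, h, t, rfl⟩ := hy
    have hk : ((k + 1 : ℕ) : ℤ) ≤ wt D a r := h.elim le_of_lt fun h => (hL r h).ge
    refine ⟨S.x_mem_Uf hr hk t, ?_⟩
    have hne : r ≠ p := by
      rintro rfl
      exact h.elim (fun h => by omega) hpL
    rw [S.map_x r hr, hD.coe_xg, BNSetup.x_entry_inl hr (hD.neg_lt hp)]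
    split_ifs with h1 h2
    · rfl
    · exact absurd (by rw [← hD.neg_neg hp, h2, hD.neg_neg hr]) hne
    · rfl
  | one => exact ⟨Subgroup.one_mem _, by simp⟩
  | mul y z _ _ ihy ihz =>
    refine ⟨Subgroup.mul_mem _ ihy.1 ihz.1, ?_⟩
    rw [map_mul, entry_mul hD a hp hwp (S.map_Uf_le_unitri hD a ihy.1) (S.map_Uf_le_unitri hD a ihz.1), ihy.2,
      ihz.2, add_zero]
  | inv y _ ih =>
    refine ⟨Subgroup.inv_mem _ ih.1, ?_⟩
    have h := entry_mul hD a hp hwp (S.map_Uf_le_unitri hD a ih.1)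
      (S.map_Uf_le_unitri hD a (Subgroup.inv_mem _ ih.1)) i
    rw [← map_mul, mul_inv_cancel, map_one, ih.2, zero_add, Units.val_one, Matrix.one_apply_ne Sum.inl_ne_inr] at h
    exact h.symm

variable {tabs simps : List ℕ} (hf : BNSetup.Facts D tabs simps)
include hf

theorem mem_succ_of_map_one (a : ℕ → ℤ) {k : ℕ} {g : M} (hg : g ∈ S.Uf a (k + 1)) (h1 : S.θ g = 1) :
    g ∈ S.Uf a (k + 2) := by
  classical
  have key : ∀ L : List ℕ, L.Nodup → (∀ r ∈ L, r < D.nroots ∧ wt D a r = (k + 1 : ℕ)) → ∀ g ∈ S.Wl a (k + 1) L,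
      S.θ g = 1 → g ∈ S.Uf a (k + 2) := by
    intro L
    induction L with
    | nil =>
      intro _ _ g hg _
      refine (show S.Wl a (k + 1) [] ≤ S.Uf a (k + 2) from Subgroup.closure_mono ?_) hg
      rintro y ⟨r, hr, h | h, t, rfl⟩
      · exact ⟨r, hr, by omega, t, rfl⟩
      · simp at h
    | cons p L ih =>
      intro hnd hL g hg h1
      obtain ⟨hp, hwp⟩ := hL p List.mem_cons_self
      obtain ⟨hpL, hnd'⟩ := List.nodup_cons.1 hnd
      obtain ⟨t, w, hw, rfl⟩ := S.Wl_cons hD (Nat.succ_pos k) hp (fun r hr => (hL r hr).2) hg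
      have hL' : ∀ r ∈ L, wt D a r = (k + 1 : ℕ) := fun r hr => (hL r (List.mem_cons_of_mem _ hr)).2
      obtain ⟨i, hi⟩ := BNSetup.exists_coroot_ne_zero (F := F) hf hp
      have h := entry_mul hD a hp hwp (g := S.θ (S.x p t)) (g' := S.θ w)
        (S.map_Uf_le_unitri hD a (S.x_mem_Uf hp hwp.ge t))
        (S.map_Uf_le_unitri hD a (S.Wl_le_Uf hL' hw)) i
      rw [← map_mul, h1, S.entry_Wl hD a hp hwp hL' hpL hw i, add_zero, Units.val_one,
        Matrix.one_apply_ne Sum.inl_ne_inr, S.map_x p hp, hD.coe_xg, BNSetup.x_entry_inl hp (hD.neg_lt hp),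
        if_neg (hD.neg_ne hp), if_pos rfl] at h
      obtain rfl : t = 0 := (mul_eq_zero.1 h.symm).resolve_left hi
      rw [S.x_zero hp, one_mul] at h1 ⊢
      exact ih hnd' (fun r hr => hL r (List.mem_cons_of_mem _ hr)) w hw h1
  refine key ((List.range D.nroots).filter fun r => decide (wt D a r = (k + 1 : ℕ)))
    (List.nodup_range.filter _) (fun r hr => ?_) g ?_ h1
  · rw [List.mem_filter, List.mem_range, decide_eq_true_eq] at hr
    exact hr
  · refine (show S.Uf a (k + 1) ≤ _ from Subgroup.closure_mono ?_) hg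
    rintro y ⟨r, hr, h, t, rfl⟩
    refine ⟨r, hr, ?_, t, rfl⟩
    rcases h.eq_or_lt with h | h
    · exact Or.inr (List.mem_filter.2 ⟨List.mem_range.2 hr, decide_eq_true h.symm⟩)
    · exact Or.inl h

/-- The map to the Chevalley group is injective on the roots of positive weight. -/
theorem eq_one_of_map_one (a : ℕ → ℤ) {g : M} (hg : g ∈ S.Uf a 1) (h1 : S.θ g = 1) : g = 1 := by
  have h : ∀ n, g ∈ S.Uf a (n + 1) := by
    intro n
    induction n with
    | zero => exact hg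
    | succ n ih => exact S.mem_succ_of_map_one hD hf a ih h1
  have := h (wtBound D a)
  rwa [S.Uf_eq_bot, Subgroup.mem_bot] at this

theorem eq_of_map_eq (a : ℕ → ℤ) {g g' : M} (hg : g ∈ S.Uf a 1) (hg' : g' ∈ S.Uf a 1) (h : S.θ g = S.θ g') :
    g = g' :=
  mul_inv_eq_one.1 (S.eq_one_of_map_one hD hf a (Subgroup.mul_mem _ hg (Subgroup.inv_mem _ hg'))
    (by rw [map_mul, map_inv, h, mul_inv_cancel]))

end StModel

end Cfsg.Agent.Chev
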