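/-
The elements n_p(t) of a model of Steinberg's relations permute the root subgroups as in the Chevalley group.
-/
import Cfsg.Agent.Lib.Chev.Steinberg.Unipotent

set_option autoImplicit false

namespace Cfsg.Agent.Chev

open Cfsg.Lie

variable {D : ChevalleyDatum} {F : Type*} [Field F] {M : Type*} [Group M]

/-- In the Chevalley group n_p(t) moves x_s to x_{w_p s}. -/
theorem Good.exists_nG_conj_xg (hD : Good D) {i : ℕ} (hi : i < D.rank) {s : ℕ} (hs : s < D.nroots) {t : F}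
    (ht : t ≠ 0) : ∃ e : F, e ≠ 0 ∧ ∀ u : F,
      nG D F (D.simple i) t * xg D F s u * (nG D F (D.simple i) t)⁻¹ = xg D F (D.reflectRoot i s) (e * u) := by
  obtain ⟨η, hη, hx⟩ := hD.exists_sign_xg (F := F) hi
  have hn : nG D F (D.simple i) t = hG D F (D.simple i) t * nG D F (D.simple i) 1 := by
    rw [hG_eq, ← hD.nG_inv (hD.simple_lt hi) one_ne_zero, inv_mul_cancel_right]
  refine ⟨t ^ D.cartan i (D.reflectRoot i s) * η s,
    mul_ne_zero (zpow_ne_zero _ ht) (left_ne_zero_of_mul (by rw [(hη s hs).1]; exact one_ne_zero)), fun u => ?_⟩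
  rw [hn, mul_inv_eq_iff_eq_mul, mul_assoc (hG D F _ t), hx s hs, ← mul_assoc, hD.hG_mul_xg hi
    (hD.reflectRoot_lt hi hs) ht, mul_assoc, mul_assoc (t ^ _)]

namespace StModel

variable (S : StModel D F M)

/-- The product x_r(t) x_{-r}(-t⁻¹) x_r(t). -/
def n (r : ℕ) (t : F) : M := S.x r t * S.x (D.neg r) (-t⁻¹) * S.x r t

/-- The product n_r(t) n_r(-1). -/
def h (r : ℕ) (t : F) : M := S.n r t * S.n r (-1)

variable (hD : Good D)
include hD

theorem map_n {r : ℕ} (hr : r < D.nroots) (t : F) : S.θ (S.n r t) = nG D F r t := by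
  rw [n, nG_eq, map_mul, map_mul, S.map_x r hr, S.map_x _ (hD.neg_lt hr)]

theorem map_h {r : ℕ} (hr : r < D.nroots) (t : F) : S.θ (S.h r t) = hG D F r t := by
  rw [h, hG_eq, map_mul, S.map_n hD hr, S.map_n hD hr]

theorem n_inv {r : ℕ} (hr : r < D.nroots) (t : F) : (S.n r t)⁻¹ = S.n r (-t) := by
  rw [n, n, mul_inv_rev, mul_inv_rev, S.x_inv hr, S.x_inv (hD.neg_lt hr), inv_neg, neg_neg, mul_assoc]

theorem n_normalizes (a : ℕ → ℤ) {p : ℕ} (hp : p < D.nroots) (ha : wt D a p = 0) (t : F) {g : M}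
    (hg : g ∈ S.Uf a 1) : S.n p t * g * (S.n p t)⁻¹ ∈ S.Uf a 1 := by
  have hn : wt D a (D.neg p) = 0 := by rw [hD.wt_neg a hp, ha, neg_zero]
  have h1 := S.x_normalizes hD a hp ha.ge le_rfl t
    (S.x_normalizes hD a (hD.neg_lt hp) hn.ge le_rfl (-t⁻¹) (S.x_normalizes hD a hp ha.ge le_rfl t hg))
  simpa [n, mul_assoc] using h1

variable {tabs simps : List ℕ} (hf : BNSetup.Facts D tabs simps) (hst : StData D)
include hf hst

/-- A functional vanishing on `p_i` and positive on `s`, for `s ≠ ± p_i`. -/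
theorem exists_sep {i s : ℕ} (hi : i < D.rank) (hs : s < D.nroots) (h1 : s ≠ D.simple i)
    (h2 : s ≠ D.neg (D.simple i)) :
    ∃ b : ℕ → ℤ, wt D b (D.simple i) = 0 ∧ 0 < wt D b s ∧ 0 < wt D b (D.reflectRoot i s) := by
  obtain ⟨L, -, hpos, -⟩ := hst
  set a := listFun L with ha
  obtain ⟨-, hsimp, -, hrefl, hrp⟩ := hf.2.2.2.2.1 i hi
  set a' : ℕ → ℤ := fun j => if j = i then a j - wt D a (D.simple i) else a j with ha'
  have hsum : ∀ c : ℤ, ∀ r, r < D.nroots →
      wt D (fun j => c * (a j + a' j)) r = c * (wt D a r + wt D a (D.reflectRoot i r)) := by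
    intro c r hr
    rw [hD.wt_reflectRoot a hi hr, wt, wt, wt, ← Finset.sum_add_distrib, Finset.mul_sum]
    exact Finset.sum_congr rfl fun j _ => by rw [ha']; ring
  have hwp : wt D a (D.simple i) + wt D a (D.reflectRoot i (D.simple i)) = 0 := by
    rw [hrp, hD.wt_neg a (hD.simple_lt hi), add_neg_cancel]
  have hwr : D.reflectRoot i (D.reflectRoot i s) = s := hD.reflectRoot_reflectRoot hi hs
  have hws := hD.reflectRoot_lt hi hs
  by_cases hsp : D.nroots / 2 ≤ s
  · refine ⟨fun j => 1 * (a j + a' j), ?_, ?_, ?_⟩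
    · rw [hsum 1 _ (hD.simple_lt hi), hwp, mul_zero]
    · rw [hsum 1 s hs, one_mul]
      exact add_pos (hpos s hs hsp) (hpos _ hws ((hrefl s hs).2 hsp h1))
    · rw [hsum 1 _ hws, one_mul, hwr]
      exact add_pos (hpos _ hws ((hrefl s hs).2 hsp h1)) (hpos s hs hsp)
  · have hns : D.nroots / 2 ≤ D.neg s := by
      rw [BNSetup.neg_eq hf hs]; have := hf.1; omega
    have hns1 : D.neg s ≠ D.simple i := fun h => h2 (by rw [← h, hD.neg_neg hs])
    have e1 := hpos _ (hD.neg_lt hs) hns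
    have e2 := hpos _ (hD.reflectRoot_lt hi (hD.neg_lt hs)) ((hrefl _ (hD.neg_lt hs)).2 hns hns1)
    rw [hD.wt_neg a hs] at e1
    rw [hD.reflectRoot_neg hi hs, hD.wt_neg a hws] at e2
    refine ⟨fun j => -1 * (a j + a' j), ?_, ?_, ?_⟩
    · rw [hsum _ _ (hD.simple_lt hi), hwp, mul_zero]
    · rw [hsum _ s hs]; linarith
    · rw [hsum _ _ hws, hwr]; linarith

theorem n_conj_ne {i s : ℕ} (hi : i < D.rank) (hs : s < D.nroots) (h1 : s ≠ D.simple i)
    (h2 : s ≠ D.neg (D.simple i)) {t : F} (ht : t ≠ 0) :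
    ∃ e : F, e ≠ 0 ∧ ∀ u : F,
      S.n (D.simple i) t * S.x s u * (S.n (D.simple i) t)⁻¹ = S.x (D.reflectRoot i s) (e * u) := by
  obtain ⟨e, he, hx⟩ := hD.exists_nG_conj_xg hi hs ht
  obtain ⟨b, hb0, hbs, hbw⟩ := exists_sep hD hf hst hi hs h1 h2
  refine ⟨e, he, fun u => S.eq_of_map_eq hD hf b
    (S.n_normalizes hD b (hD.simple_lt hi) hb0 t (S.x_mem_Uf hs hbs u))
    (S.x_mem_Uf (hD.reflectRoot_lt hi hs) hbw _) ?_⟩
  rw [map_mul, map_mul, map_inv, S.map_n hD (hD.simple_lt hi), S.map_x s hs,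
    S.map_x _ (hD.reflectRoot_lt hi hs), hx]

/-- The case `s = p`, through a commutator in which x_p occurs linearly. -/
theorem n_conj_self {i : ℕ} (hi : i < D.rank) {t : F} (ht : t ≠ 0) :
    ∃ e : F, e ≠ 0 ∧ ∀ u : F,
      S.n (D.simple i) t * S.x (D.simple i) u * (S.n (D.simple i) t)⁻¹ = S.x (D.neg (D.simple i)) (e * u) := by
  classical
  have hp := hD.simple_lt hi
  obtain ⟨e, he, hx⟩ := hD.exists_nG_conj_xg hi hp ht
  obtain ⟨L, W, -, hW⟩ := id hst
  have hw := hW i hi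
  set w := W.getD i (0, 0, []) with hwdef
  clear_value w
  clear hwdef hW
  obtain ⟨r, s, bl⟩ := w
  obtain ⟨hr, hs, hsr, hsn, hbr, hbs, hterm⟩ := hw
  dsimp only at hr hs hsr hsn hbr hbs hterm
  set b := listFun bl with hb
  rw [(hf.2.2.2.2.1 i hi).2.2.2.2] at hx
  refine ⟨e, he, fun τ => ?_⟩
  -- the functional moved by the reflection
  set b' : ℕ → ℤ := fun j => if j = i then b j - wt D b (D.simple i) else b j with hb'
  have hwt' : ∀ z, z < D.nroots → wt D b' (D.reflectRoot i z) = wt D b z := fun z hz => by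
    rw [← hD.wt_reflectRoot b hi (hD.reflectRoot_lt hi hz), hD.reflectRoot_reflectRoot hi hz]
  set T := D.commTerms r s with hT
  have hmemT : ∀ c ∈ T, 0 < wt D b c.1 := by
    intro c hc
    obtain ⟨hcw, hci, hcj⟩ := hD.wt_commTerms b hr hs hc
    rw [hcw]
    exact add_pos (mul_pos (by omega) hbr) (mul_pos (by omega) hbs)
  have hwp : 0 < wt D b (D.simple i) ∧
      ∃ pre c post, T = pre ++ c :: post ∧ c.1 = D.simple i ∧ c.2.1.natAbs = 1 ∧ c.2.2.2 = 1 ∧
        (∀ x ∈ pre, x.1 ≠ D.simple i) ∧ ∀ x ∈ post, x.1 ≠ D.simple i := by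
    cases hl : T.filter fun x => x.1 == D.simple i with
    | nil => simp [hl] at hterm
    | cons c l =>
      rw [hl, List.map_cons, List.cons.injEq, Prod.mk.injEq, List.map_eq_nil_iff] at hterm
      obtain ⟨⟨hc1, hc2⟩, rfl⟩ := hterm
      have hc := List.mem_filter.1 (hl ▸ List.mem_cons_self : c ∈ T.filter fun x => x.1 == D.simple i)
      rw [beq_iff_eq] at hc
      refine ⟨hc.2 ▸ hmemT c hc.1, ?_⟩
      obtain ⟨pre, post, hpp⟩ := List.append_of_mem hc.1
      refine ⟨pre, c, post, hpp, hc.2, hc1, hc2, ?_⟩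
      rw [hpp, List.filter_append, List.filter_cons, if_pos (beq_iff_eq.2 hc.2)] at hl
      have hlen := congrArg List.length hl
      simp only [List.length_append, List.length_cons, List.length_nil] at hlen
      have h1 : pre.filter (fun x => x.1 == D.simple i) = [] := List.eq_nil_of_length_eq_zero (by omega)
      have h2 : post.filter (fun x => x.1 == D.simple i) = [] := List.eq_nil_of_length_eq_zero (by omega)
      rw [List.filter_eq_nil_iff] at h1 h2
      exact ⟨fun x hx h => h1 x hx (beq_iff_eq.2 h), fun x hx h => h2 x hx (beq_iff_eq.2 h)⟩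
  obtain ⟨hwp, pre, c, post, hpp, hc1, hc2, hc3, hpre, hpost⟩ := hwp
  have hK : ∀ z, z < D.nroots → z ≠ D.simple i → z ≠ D.neg (D.simple i) → 0 < wt D b z → ∀ u : F,
      S.n (D.simple i) t * S.x z u * (S.n (D.simple i) t)⁻¹ ∈ S.Uf b' 1 := by
    intro z hz h1 h2 hpos u
    obtain ⟨ez, -, hz'⟩ := S.n_conj_ne hD hf hst hi hz h1 h2 ht
    rw [hz' u]
    exact S.x_mem_Uf (hD.reflectRoot_lt hi hz) (by rw [hwt' z hz]; omega) _
  have hrp : r ≠ D.simple i ∧ s ≠ D.simple i := by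
    have hcT : c ∈ T := by rw [hpp]; exact List.mem_append_right _ List.mem_cons_self
    obtain ⟨hcw, hci, hcj⟩ := hD.wt_commTerms b hr hs hcT
    rw [hc1, hc3, Nat.cast_one, one_mul] at hcw
    have : wt D b r ≤ (c.2.2.1 : ℤ) * wt D b r := le_mul_of_one_le_left hbr.le (by omega)
    refine ⟨fun h => ?_, fun h => ?_⟩
    · rw [h] at hcw this; omega
    · rw [h] at hcw; omega
  have hnp : ∀ z, 0 < wt D b z → z ≠ D.neg (D.simple i) := by
    intro z hz h
    rw [h, hD.wt_neg b hp] at hz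
    omega
  set coef : F := (c.2.1 : F) * (-1) ^ c.2.2.1 with hcoef
  have hcoef0 : coef ≠ 0 := by
    rw [hcoef]
    rcases Int.natAbs_eq c.2.1 with h | h <;> rw [h, hc2] <;> simp
  set u := τ / coef
  have hu : coef * u = τ := mul_div_cancel₀ _ hcoef0
  -- conjugation into the positive part for b'
  set V : Subgroup M := (S.Uf b' 1).comap (MulAut.conj (S.n (D.simple i) t)).toMonoidHom with hV
  have hxV : ∀ z, z < D.nroots → z ≠ D.simple i → 0 < wt D b z → ∀ v : F, S.x z v ∈ V := fun z hz h1 hpos v =>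
    hK z hz h1 (hnp z hpos) hpos v
  have hwordV : ∀ l : List (ℕ × ℤ × ℕ × ℕ), (∀ y ∈ l, y ∈ T ∧ y.1 ≠ D.simple i) →
      ((l.map fun y => S.x y.1 ((y.2.1 : F) * (-(1 : F)) ^ y.2.2.1 * u ^ y.2.2.2))).prod ∈ V := by
    intro l hl
    refine Subgroup.list_prod_mem _ fun g hg => ?_
    obtain ⟨y, hy, rfl⟩ := List.mem_map.1 hg
    exact hxV _ (hD.commTerms_lt hr hs (hl y hy).1) (hl y hy).2 (hmemT y (hl y hy).1) _
  have hcomm := S.comm r hr s hs hsr hsn 1 u
  simp only [ChevalleyDatum.commWord, List.map_map, Function.comp_def] at hcomm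
  rw [← hT, hpp, List.map_append, List.prod_append, List.map_cons, List.prod_cons, hc1, hc3, pow_one,
    ← hcoef, hu] at hcomm
  have hleft : (S.x s u)⁻¹ * (S.x r 1)⁻¹ * S.x s u * S.x r 1 ∈ V :=
    V.mul_mem (V.mul_mem (V.mul_mem (V.inv_mem (hxV s hs hrp.2 hbs u)) (V.inv_mem (hxV r hr hrp.1 hbr 1)))
      (hxV s hs hrp.2 hbs u)) (hxV r hr hrp.1 hbr 1)
  have hpreV := hwordV pre fun y hy => ⟨by rw [hpp]; exact List.mem_append_left _ hy, hpre y hy⟩
  have hpostV := hwordV post fun y hy =>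
    ⟨by rw [hpp]; exact List.mem_append_right _ (List.mem_cons_of_mem _ hy), hpost y hy⟩
  have hmem : S.x (D.simple i) τ ∈ V := by
    rw [hcomm] at hleft
    have := V.mul_mem (V.mul_mem (V.inv_mem hpreV) hleft) (V.inv_mem hpostV)
    simpa [mul_assoc] using this
  refine S.eq_of_map_eq hD hf b' hmem (S.x_mem_Uf (hD.neg_lt hp) ?_ _) ?_
  · have h := hwt' _ hp
    rw [(hf.2.2.2.2.1 i hi).2.2.2.2] at h
    rw [h]; omega
  · rw [map_mul, map_mul, map_inv, S.map_n hD hp, S.map_x _ hp, S.map_x _ (hD.neg_lt hp), hx]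

/-- `n_p(t)` maps X_s onto X_{w_p s}. -/
theorem n_conj {i s : ℕ} (hi : i < D.rank) (hs : s < D.nroots) {t : F} (ht : t ≠ 0) :
    ∃ e : F, e ≠ 0 ∧ ∀ u : F,
      S.n (D.simple i) t * S.x s u * (S.n (D.simple i) t)⁻¹ = S.x (D.reflectRoot i s) (e * u) := by
  have hp := hD.simple_lt hi
  have hwp := (hf.2.2.2.2.1 i hi).2.2.2.2
  by_cases h1 : s = D.simple i
  · subst h1
    obtain ⟨e, he, h⟩ := S.n_conj_self hD hf hst hi ht
    exact ⟨e, he, fun u => by rw [hwp]; exact h u⟩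
  by_cases h2 : s = D.neg (D.simple i)
  · subst h2
    obtain ⟨e, he, h⟩ := S.n_conj_self hD hf hst hi (neg_ne_zero.2 ht)
    refine ⟨e⁻¹, inv_ne_zero he, fun u => ?_⟩
    rw [hD.reflectRoot_neg hi hp, hwp, hD.neg_neg hp]
    have h' := h (e⁻¹ * u)
    rw [← mul_assoc, mul_inv_cancel₀ he, one_mul, ← S.n_inv hD hp, inv_inv] at h'
    rw [← h']
    group
  exact S.n_conj_ne hD hf hst hi hs h1 h2 ht

end StModel

end Cfsg.Agent.Chev
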