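/-
The subgroup generated by the h_{p}(t) of the fundamental roots in a model of Steinberg's relations.
-/
import Cfsg.Agent.Lib.Chev.Steinberg.Conjugation

set_option autoImplicit false

namespace Cfsg.Agent.Chev

open Cfsg.Lie

variable {D : ChevalleyDatum} {F : Type*} [Field F] {M : Type*} [Group M]

namespace Good

variable (hD : Good D)
include hD

theorem cartan_neg_root {j r : ℕ} (hj : j < D.rank) (hr : r < D.nroots) :
    D.cartan j (D.neg r) = - D.cartan j r := by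
  obtain ⟨c, hV⟩ := hD
  rw [hV.ng_eq hr, hV.A_eq hj (hV.ng_lt hr), hV.A_eq hj hr, ((hV.base'.1 r hr).2.2.2.1 j hj).1]

variable {tabs simps : List ℕ} (hf : BNSetup.Facts D tabs simps)
include hf

theorem xg_injective {r : ℕ} (hr : r < D.nroots) {t u : F} (h : xg D F r t = xg D F r u) : t = u := by
  obtain ⟨i, hi⟩ := BNSetup.exists_coroot_ne_zero (F := F) hf hr
  have h1 := congrArg (fun g : GL D.Idx F =>
    (g : Matrix D.Idx D.Idx F) (Sum.inl i) (Sum.inr ⟨D.neg r, hD.neg_lt hr⟩)) h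
  simp only [hD.coe_xg, BNSetup.x_entry_inl hr (hD.neg_lt hr), if_neg (hD.neg_ne hr), if_true] at h1
  exact mul_left_cancel₀ hi h1

/-- n_p(t) on x_{±p}. -/
theorem nG_conj_self {i : ℕ} (hi : i < D.rank) {t : F} (ht : t ≠ 0) (u : F) :
    nG D F (D.simple i) t * xg D F (D.simple i) u * (nG D F (D.simple i) t)⁻¹ =
        xg D F (D.neg (D.simple i)) (-((t ^ 2)⁻¹ * u)) ∧
      nG D F (D.simple i) t * xg D F (D.neg (D.simple i)) u * (nG D F (D.simple i) t)⁻¹ =
        xg D F (D.simple i) (-(t ^ 2 * u)) := by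
  have hp := hD.simple_lt hi
  obtain ⟨η, -, h1, h2, -, -, -, hx⟩ := hD.exists_sign (F := F) hi
  have hwp := (hf.2.2.2.2.1 i hi).2.2.2.2
  have hwn : D.reflectRoot i (D.neg (D.simple i)) = D.simple i := by
    rw [hD.reflectRoot_neg hi hp, hwp, hD.neg_neg hp]
  have hn : nG D F (D.simple i) t = hG D F (D.simple i) t * nG D F (D.simple i) 1 := by
    rw [hG_eq, ← hD.nG_inv hp one_ne_zero, inv_mul_cancel_right]
  have key : ∀ s, s < D.nroots → η s = -1 →
      nG D F (D.simple i) t * xg D F s u =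
        xg D F (D.reflectRoot i s) (-(t ^ D.cartan i (D.reflectRoot i s) * u)) * nG D F (D.simple i) t := by
    intro s hs hη
    have e : nG D F (D.simple i) 1 * xg D F s u = xg D F (D.reflectRoot i s) (-u) * nG D F (D.simple i) 1 :=
      Units.ext (by simp [hD.coe_nG, hD.coe_xg, hx s hs u, hη])
    rw [hn, mul_assoc, e, ← mul_assoc, hD.hG_mul_xg hi (hD.reflectRoot_lt hi hs) ht, mul_assoc, mul_neg]
  constructor
  · rw [mul_inv_eq_iff_eq_mul, key _ hp h1, hwp, hD.cartan_neg_root hi hp, hD.cartan_simple hi, zpow_neg,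
      zpow_ofNat]
  · rw [mul_inv_eq_iff_eq_mul, key _ (hD.neg_lt hp) h2, hwn, hD.cartan_simple hi, zpow_ofNat]

end Good

namespace StModel

variable (S : StModel D F M) (hD : Good D) {tabs simps : List ℕ} (hf : BNSetup.Facts D tabs simps)
  (hst : StData D)

/-- The subgroup generated by the h_p(t), p fundamental. -/
def Hbar : Subgroup M :=
  Subgroup.closure {g | ∃ (i : ℕ) (t : F), i < D.rank ∧ t ≠ 0 ∧ g = S.h (D.simple i) t}

theorem h_mem_Hbar {i : ℕ} (hi : i < D.rank) {t : F} (ht : t ≠ 0) : S.h (D.simple i) t ∈ S.Hbar :=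
  Subgroup.subset_closure ⟨i, t, hi, ht, rfl⟩

include hD hf hst

/-- A conjugation formula of the Chevalley group holds in the model. -/
theorem n_conj_eq {i s : ℕ} (hi : i < D.rank) (hs : s < D.nroots) {t : F} (ht : t ≠ 0) {u v : F}
    (h : nG D F (D.simple i) t * xg D F s u * (nG D F (D.simple i) t)⁻¹ = xg D F (D.reflectRoot i s) v) :
    S.n (D.simple i) t * S.x s u * (S.n (D.simple i) t)⁻¹ = S.x (D.reflectRoot i s) v := by
  obtain ⟨e, -, he⟩ := S.n_conj hD hf hst hi hs ht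
  have hws := hD.reflectRoot_lt hi hs
  have h' := congrArg S.θ (he u)
  rw [map_mul, map_mul, map_inv, S.map_n hD (hD.simple_lt hi), S.map_x s hs, S.map_x _ hws, h] at h'
  rw [he u, hD.xg_injective hf hws h']

theorem n_one_conj {i : ℕ} (hi : i < D.rank) :
    ∃ η : ℕ → F, (∀ s < D.nroots, η s * η s = 1 ∧ η (D.neg s) = η s) ∧
      ∀ s < D.nroots, ∀ u : F, S.n (D.simple i) 1 * S.x s u * (S.n (D.simple i) 1)⁻¹ =
        S.x (D.reflectRoot i s) (η s * u) := by
  obtain ⟨η, hη, hx⟩ := hD.exists_sign_xg (F := F) hi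
  exact ⟨η, hη, fun s hs u => S.n_conj_eq hD hf hst hi hs one_ne_zero (by rw [mul_inv_eq_iff_eq_mul, hx s hs u])⟩

theorem n_n_conj {i s : ℕ} (hi : i < D.rank) (hs : s < D.nroots) {a b : F} (ha : a ≠ 0) (hb : b ≠ 0) :
    ∃ χ : F, χ ≠ 0 ∧ ∀ u : F, S.n (D.simple i) a * S.n (D.simple i) b * S.x s u *
      (S.n (D.simple i) a * S.n (D.simple i) b)⁻¹ = S.x s (χ * u) := by
  obtain ⟨e, he, h1⟩ := S.n_conj hD hf hst hi hs hb
  obtain ⟨e', he', h2⟩ := S.n_conj hD hf hst hi (hD.reflectRoot_lt hi hs) ha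
  rw [hD.reflectRoot_reflectRoot hi hs] at h2
  refine ⟨e' * e, mul_ne_zero he' he, fun u => ?_⟩
  rw [mul_assoc e', ← h2, ← h1]
  group

theorem h_conj_eq {j s : ℕ} (hj : j < D.rank) (hs : s < D.nroots) {t : F} (ht : t ≠ 0) (u : F) :
    S.h (D.simple j) t * S.x s u * (S.h (D.simple j) t)⁻¹ = S.x s (t ^ D.cartan j s * u) := by
  obtain ⟨χ, -, h1⟩ := S.n_n_conj hD hf hst hj hs ht (neg_ne_zero.2 one_ne_zero)
  change ∀ u, S.h (D.simple j) t * S.x s u * (S.h (D.simple j) t)⁻¹ = S.x s (χ * u) at h1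
  have h := congrArg S.θ (h1 u)
  rw [map_mul, map_mul, map_inv, S.map_x s hs, S.map_h hD (hD.simple_lt hj), hD.hG_mul_xg hj hs ht,
    mul_inv_cancel_right, S.map_x s hs] at h
  exact (h1 u).trans (congrArg (S.x s) (hD.xg_injective hf hs h).symm)

theorem h_conj_n {i j : ℕ} (hi : i < D.rank) (hj : j < D.rank) {t : F} (ht : t ≠ 0) (c : F) :
    S.h (D.simple j) t * S.n (D.simple i) c * (S.h (D.simple j) t)⁻¹ =
      S.n (D.simple i) (t ^ D.cartan j (D.simple i) * c) := by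
  have hp := hD.simple_lt hi
  rw [n, ← conj_mul, ← conj_mul, S.h_conj_eq hD hf hst hj hp ht, S.h_conj_eq hD hf hst hj (hD.neg_lt hp) ht,
    hD.cartan_neg_root hj hp, zpow_neg, mul_neg, ← mul_inv, n]

theorem n_one_conj_n {i : ℕ} (hi : i < D.rank) {b : F} (hb : b ≠ 0) :
    S.n (D.simple i) 1 * S.n (D.simple i) b * (S.n (D.simple i) 1)⁻¹ = S.n (D.simple i) b⁻¹ := by
  have hp := hD.simple_lt hi
  have hwp := (hf.2.2.2.2.1 i hi).2.2.2.2
  have hwn : D.reflectRoot i (D.neg (D.simple i)) = D.simple i := by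
    rw [hD.reflectRoot_neg hi hp, hwp, hD.neg_neg hp]
  have key : ∀ a c : F, a ≠ 0 → S.n (D.simple i) a * S.n (D.simple i) c * (S.n (D.simple i) a)⁻¹ =
      S.x (D.neg (D.simple i)) (-((a ^ 2)⁻¹ * c)) * S.x (D.simple i) (-(a ^ 2 * -c⁻¹)) *
        S.x (D.neg (D.simple i)) (-((a ^ 2)⁻¹ * c)) := by
    intro a c ha
    have h1 : S.n (D.simple i) a * S.x (D.simple i) c * (S.n (D.simple i) a)⁻¹ =
        S.x (D.neg (D.simple i)) (-((a ^ 2)⁻¹ * c)) := by
      rw [← hwp]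
      exact S.n_conj_eq hD hf hst hi hp ha (by rw [hwp]; exact (hD.nG_conj_self hf hi ha c).1)
    have h2 : S.n (D.simple i) a * S.x (D.neg (D.simple i)) (-c⁻¹) * (S.n (D.simple i) a)⁻¹ =
        S.x (D.simple i) (-(a ^ 2 * -c⁻¹)) := by
      have := S.n_conj_eq hD hf hst hi (hD.neg_lt hp) ha (u := -c⁻¹) (v := -(a ^ 2 * -c⁻¹))
        (by rw [hwn]; exact (hD.nG_conj_self hf hi ha (-c⁻¹)).2)
      rwa [hwn] at this
    rw [← h1, ← h2]
    simp only [n]
    group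
  have hb' := key b⁻¹ b⁻¹ (inv_ne_zero hb)
  rw [mul_inv_cancel_right] at hb'
  rw [key 1 b one_ne_zero, hb']
  congr 1
  · congr 1
    · congr 1; field_simp
    · congr 1; field_simp
  · congr 1; field_simp

theorem n_one_mul_mem {i : ℕ} (hi : i < D.rank) {b : F} (hb : b ≠ 0) :
    S.n (D.simple i) 1 * S.n (D.simple i) b ∈ S.Hbar := by
  have hp := hD.simple_lt hi
  have hneg : S.n (D.simple i) (-1) = (S.n (D.simple i) 1)⁻¹ := (S.n_inv hD hp 1).symm
  have h1 : S.n (D.simple i) 1 * S.n (D.simple i) 1 = (S.h (D.simple i) (-1))⁻¹ := by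
    rw [h, hneg, mul_inv_rev, inv_inv]
  have h2 : S.n (D.simple i) 1 * S.n (D.simple i) b =
      (S.n (D.simple i) 1 * S.n (D.simple i) b * (S.n (D.simple i) 1)⁻¹ * S.n (D.simple i) (-1)) *
        (S.n (D.simple i) 1 * S.n (D.simple i) 1) := by
    rw [hneg]; group
  rw [h2, S.n_one_conj_n hD hf hst hi hb, h1]
  exact Subgroup.mul_mem _ (S.h_mem_Hbar hi (inv_ne_zero hb))
    (Subgroup.inv_mem _ (S.h_mem_Hbar hi (neg_ne_zero.2 one_ne_zero)))

theorem n_one_conj_Hbar {i : ℕ} (hi : i < D.rank) {g : M} (hg : g ∈ S.Hbar) :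
    S.n (D.simple i) 1 * g * (S.n (D.simple i) 1)⁻¹ ∈ S.Hbar := by
  refine (show S.Hbar ≤ (S.Hbar).comap (MulAut.conj (S.n (D.simple i) 1)).toMonoidHom from ?_) hg
  conv_lhs => rw [Hbar]
  rw [Subgroup.closure_le]
  rintro y ⟨j, t, hj, ht, rfl⟩
  simp only [SetLike.mem_coe, Subgroup.mem_comap, MulEquiv.coe_toMonoidHom, MulAut.conj_apply]
  rw [S.n_inv hD (hD.simple_lt hi), show S.n (D.simple i) 1 * S.h (D.simple j) t * S.n (D.simple i) (-1) =
    S.n (D.simple i) 1 * (S.h (D.simple j) t * S.n (D.simple i) (-1) * (S.h (D.simple j) t)⁻¹) *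
      S.h (D.simple j) t by group, S.h_conj_n hD hf hst hi hj ht]
  exact Subgroup.mul_mem _ (S.n_one_mul_mem hD hf hst hi
    (mul_ne_zero (zpow_ne_zero _ ht) (neg_ne_zero.2 one_ne_zero))) (S.h_mem_Hbar hj ht)

theorem n_mul_n_mem {r : ℕ} (hr : r < D.nroots) {a b : F} (ha : a ≠ 0) (hb : b ≠ 0) :
    S.n r a * S.n r b ∈ S.Hbar := by
  revert a b
  refine hD.root_induction (P := fun r => ∀ {a b : F}, a ≠ 0 → b ≠ 0 → S.n r a * S.n r b ∈ S.Hbar) ?_ ?_ hr
  · intro i hi a b ha hb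
    have h1 := Subgroup.mul_mem _ (Subgroup.inv_mem _ (S.n_one_mul_mem hD hf hst hi (neg_ne_zero.2 ha)))
      (S.n_one_mul_mem hD hf hst hi hb)
    rw [← S.n_inv hD (hD.simple_lt hi) a] at h1
    simpa [mul_assoc] using h1
  · intro i hi r hr ih a b ha hb
    obtain ⟨η, hη, hx⟩ := S.n_one_conj hD hf hst hi
    have hη0 : η r ≠ 0 := left_ne_zero_of_mul (by rw [(hη r hr).1]; exact one_ne_zero)
    have e : ∀ c : F, S.n (D.simple i) 1 * S.n r c * (S.n (D.simple i) 1)⁻¹ =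
        S.n (D.reflectRoot i r) (η r * c) := fun c => by
      rw [show S.n r c = S.x r c * S.x (D.neg r) (-c⁻¹) * S.x r c from rfl, ← conj_mul, ← conj_mul, hx r hr, hx _ (hD.neg_lt hr), hD.reflectRoot_neg hi hr, (hη r hr).2]
      simp only [n]
      rw [mul_inv, inv_eq_of_mul_eq_one_right (hη r hr).1, mul_neg]
    have h2 := S.n_one_conj_Hbar hD hf hst hi (ih (mul_ne_zero hη0 ha) (mul_ne_zero hη0 hb))
    rwa [← conj_mul, e, e, ← mul_assoc, (hη r hr).1, one_mul, ← mul_assoc, (hη r hr).1, one_mul] at h2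

end StModel

end Cfsg.Agent.Chev
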