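/-
A model of Steinberg's relations has the root-subgroup structure of the Chevalley group, and the kernel of its
map to the Chevalley group lies in the subgroup generated by the h_p(t).
-/
import Cfsg.Agent.Lib.Chev.Steinberg.Torus

set_option autoImplicit false

namespace Cfsg.Agent.Chev

open Cfsg.Lie

variable {D : ChevalleyDatum} {F : Type*} [Field F] {M : Type*} [Group M]

namespace StModel

variable (S : StModel D F M) (hD : Good D) {tabs simps : List ℕ} (hf : BNSetup.Facts D tabs simps)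
  (hst : StData D)

/-- The root subgroup of the model. -/
def X (r : ℕ) : Subgroup M := Subgroup.closure {g | ∃ t : F, g = S.x r t}

theorem x_mem_X (r : ℕ) (t : F) : S.x r t ∈ S.X r := Subgroup.subset_closure ⟨t, rfl⟩

theorem exists_of_mem_X {r : ℕ} (hr : r < D.nroots) {g : M} (hg : g ∈ S.X r) : ∃ t, g = S.x r t := by
  induction hg using Subgroup.closure_induction with
  | mem y hy => exact hy
  | one => exact ⟨0, (S.x_zero hr).symm⟩
  | mul y z _ _ ihy ihz =>
    obtain ⟨t, rfl⟩ := ihy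
    obtain ⟨u, rfl⟩ := ihz
    exact ⟨t + u, S.add r hr t u⟩
  | inv y _ ih =>
    obtain ⟨t, rfl⟩ := ih
    exact ⟨-t, S.x_inv hr t⟩

/-- The root-subgroup data of the model. -/
def data : RootBN.Data M (Fin D.nroots) (Fin D.rank) where
  X r := S.X r.val
  H := S.Hbar
  nn i := S.n (D.simple i.val) 1
  nroot r := S.n r.val 1
  refl := (BNSetup.data hD F).refl
  opp r := ⟨D.neg r.val, hD.neg_lt r.2⟩
  simp i := ⟨D.simple i.val, hD.simple_lt i.2⟩
  Pos r := D.nroots / 2 ≤ r.val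

include hD

theorem map_x' {r : ℕ} (hr : r < D.nroots) (t : F) : S.θ (S.x r t) = BNSetup.xe hD r t := by
  rw [S.map_x r hr]
  exact Units.ext (hD.coe_xg r t)

theorem map_mem_X {r : ℕ} (hr : r < D.nroots) {g : M} (hg : g ∈ S.X r) : S.θ g ∈ D.rootSubgroup F r := by
  obtain ⟨t, rfl⟩ := S.exists_of_mem_X hr hg
  rw [S.map_x r hr]
  exact hD.xg_mem_rootSubgroup r t

theorem map_mem_H {g : M} (hg : g ∈ S.Hbar) : S.θ g ∈ D.diagonalSubgroup F := by
  refine (show S.Hbar ≤ (D.diagonalSubgroup F).comap S.θ from ?_) hg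
  rw [Hbar, Subgroup.closure_le]
  rintro y ⟨i, t, hi, ht, rfl⟩
  rw [SetLike.mem_coe, Subgroup.mem_comap, S.map_h hD (hD.simple_lt hi)]
  exact Subgroup.subset_closure ⟨_, t, hD.simple_lt hi, ht, hD.coe_hG _ t⟩

include hf

theorem map_mem_B {g : M} (hg : g ∈ (S.data hD).B) : S.θ g ∈ D.borelSubgroup F := by
  refine (show (S.data hD).B ≤ (D.borelSubgroup F).comap S.θ from sup_le (iSup₂_le fun r hr => ?_) ?_) hg
  · intro y hy
    obtain ⟨t, ht⟩ := (BNSetup.mem_rootSubgroup hD r.2).1 (S.map_mem_X hD r.2 hy)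
    exact Subgroup.mem_sup_left (Subgroup.subset_closure ⟨r.val, t, (BNSetup.pos_iff hf r.2).2 hr,
      (congrArg Units.val ht).trans (BNSetup.coe_xe hD r.val t)⟩)
  · exact fun y hy => Subgroup.mem_sup_right (S.map_mem_H hD hy)

theorem x_eq_one {r : ℕ} (hr : r < D.nroots) {g : M} (hg : g ∈ S.X r) (h1 : S.θ g = 1) : g = 1 := by
  obtain ⟨t, rfl⟩ := S.exists_of_mem_X hr hg
  rw [S.map_x r hr, ← hD.xg_zero r] at h1
  rw [hD.xg_injective hf hr h1, S.x_zero hr]

include hst

theorem Hbar_normalizes {r : ℕ} (hr : r < D.nroots) {h y : M} (hh : h ∈ S.Hbar) (hy : y ∈ S.X r) :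
    h * y * h⁻¹ ∈ S.X r := by
  suffices key : ∀ y ∈ S.X r, h * y * h⁻¹ ∈ S.X r ∧ h⁻¹ * y * h ∈ S.X r from (key y hy).1
  clear hy y
  induction hh using Subgroup.closure_induction with
  | mem g hg =>
    obtain ⟨j, t, hj, ht, rfl⟩ := hg
    intro y hy
    obtain ⟨u, rfl⟩ := S.exists_of_mem_X hr hy
    have e := S.h_conj_eq hD hf hst hj hr ht
    refine ⟨by rw [e u]; exact S.x_mem_X r _, ?_⟩
    have h2 := e ((t ^ D.cartan j r)⁻¹ * u)
    rw [← mul_assoc (t ^ D.cartan j r), mul_inv_cancel₀ (zpow_ne_zero _ ht), one_mul] at h2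
    rw [← h2]
    simpa [mul_assoc] using S.x_mem_X r _
  | one => intro y hy; simpa using hy
  | mul a b _ _ iha ihb =>
    intro y hy
    refine ⟨?_, ?_⟩
    · simpa [mul_assoc] using (iha _ (ihb y hy).1).1
    · simpa [mul_assoc] using (ihb _ (iha y hy).2).2
  | inv a _ ih =>
    intro y hy
    simpa using (ih y hy).symm

/-- The axioms hold in the model. -/
theorem axioms : (S.data hD).Axioms where
  pos_opp := (BNSetup.axioms (F := F) hD hf).pos_opp
  opp_opp := (BNSetup.axioms (F := F) hD hf).opp_opp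
  pos_simp := (BNSetup.axioms (F := F) hD hf).pos_simp
  refl_simp := (BNSetup.axioms (F := F) hD hf).refl_simp
  refl_opp := (BNSetup.axioms (F := F) hD hf).refl_opp
  refl_refl := (BNSetup.axioms (F := F) hD hf).refl_refl
  refl_pos := (BNSetup.axioms (F := F) hD hf).refl_pos
  simp_inj := (BNSetup.axioms (F := F) hD hf).simp_inj
  reach := (BNSetup.axioms (F := F) hD hf).reach
  X_inj r s h := by
    have h' : S.X r.val = S.X s.val := h
    by_contra hne
    obtain ⟨u, hu⟩ := S.exists_of_mem_X s.2 (h'.le (S.x_mem_X r.val 1))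
    have h1 := congrArg S.θ hu
    rw [S.map_x' hD r.2, S.map_x' hD s.2] at h1
    exact BNSetup.xe_ne hD hf r.2 s.2 (fun h => hne (Fin.ext h)) one_ne_zero u h1
  X_ne_bot r h := by
    have h1 := congrArg S.θ ((Subgroup.eq_bot_iff_forall _).1 h _ (S.x_mem_X r.val 1))
    rw [S.map_x' hD r.2, map_one] at h1
    exact BNSetup.xe_ne_one hD hf r.2 (one_ne_zero (α := F)) h1
  H_le := by
    show S.Hbar ≤ _
    rw [Hbar, Subgroup.closure_le]
    rintro y ⟨i, t, hi, ht, rfl⟩
    have hp := hD.simple_lt hi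
    have hx : ∀ r, r < D.nroots → ∀ u, S.x r u ∈ (S.data hD).grp := fun r hr u =>
      RootBN.Data.X_le_grp (D := S.data hD) ⟨r, hr⟩ (S.x_mem_X r u)
    have hm : ∀ u, S.n (D.simple i) u ∈ (S.data hD).grp := fun u =>
      Subgroup.mul_mem _ (Subgroup.mul_mem _ (hx _ hp u) (hx _ (hD.neg_lt hp) _)) (hx _ hp u)
    exact Subgroup.mul_mem _ (hm t) (hm (-1))
  nn_mem i := by
    have hp := hD.simple_lt i.2
    have hx : ∀ r, r < D.nroots → ∀ u, S.x r u ∈ (S.data hD).grp := fun r hr u =>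
      RootBN.Data.X_le_grp (D := S.data hD) ⟨r, hr⟩ (S.x_mem_X r u)
    exact Subgroup.mul_mem _ (Subgroup.mul_mem _ (hx _ hp _) (hx _ (hD.neg_lt hp) _)) (hx _ hp _)
  conj_X i r y hy := by
    obtain ⟨t, rfl⟩ := S.exists_of_mem_X r.2 hy
    obtain ⟨e, -, he⟩ := S.n_conj hD hf hst i.2 r.2 (one_ne_zero (α := F))
    show S.n (D.simple i.val) 1 * S.x r.val t * (S.n (D.simple i.val) 1)⁻¹ ∈ S.X (D.reflectRoot i.val r.val)
    rw [he t]
    exact S.x_mem_X _ _
  H_conj r h hh y hy := S.Hbar_normalizes hD hf hst r.2 hh hy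
  nn_H i h hh := S.n_one_conj_Hbar hD hf hst i.2 hh
  nn_sq i := S.n_mul_n_mem hD hf hst (hD.simple_lt i.2) one_ne_zero one_ne_zero
  nroot_simp i := rfl
  conj_nroot i r := by
    obtain ⟨η, hη, hx⟩ := S.n_one_conj hD hf hst i.2
    have hη0 : η r.val ≠ 0 := left_ne_zero_of_mul (by rw [(hη r.val r.2).1]; exact one_ne_zero)
    have hwr := hD.reflectRoot_lt i.2 r.2
    refine ⟨S.n (D.reflectRoot i.val r.val) (η r.val) * S.n (D.reflectRoot i.val r.val) (-1),
      S.n_mul_n_mem hD hf hst hwr hη0 (neg_ne_zero.2 one_ne_zero), ?_⟩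
    show S.n (D.simple i.val) 1 * S.n r.val 1 * (S.n (D.simple i.val) 1)⁻¹ = _ * S.n (D.reflectRoot i.val r.val) 1
    rw [← S.n_inv hD hwr, inv_mul_cancel_right,
      show S.n r.val (1 : F) = S.x r.val 1 * S.x (D.neg r.val) (-1⁻¹) * S.x r.val 1 from rfl, ← conj_mul,
      ← conj_mul, hx r.val r.2, hx _ (hD.neg_lt r.2), hD.reflectRoot_neg i.2 r.2, (hη r.val r.2).2, n,
      mul_one, inv_one, inv_eq_of_mul_eq_one_right (hη r.val r.2).1, mul_neg, mul_one]
  simp_normal i r hr hne y hy z hz := by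
    obtain ⟨t, rfl⟩ := S.exists_of_mem_X (hD.simple_lt i.2) hy
    obtain ⟨u, rfl⟩ := S.exists_of_mem_X r.2 hz
    obtain ⟨L, -, hpos, -⟩ := id hst
    have h1 : r.val ≠ D.simple i.val := fun h => hne (Fin.ext h)
    have h2 : r.val ≠ D.neg (D.simple i.val) := by
      intro h
      have h' : D.nroots / 2 ≤ r.val := hr
      have := (hf.2.2.2.2.1 i.val i.2).2.1
      rw [h, BNSetup.neg_eq hf (hD.simple_lt i.2)] at h'
      have := hD.simple_lt i.2
      have := hf.1
      omega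
    have hc := S.comm _ (hD.simple_lt i.2) _ r.2 h1 h2 (-t) u
    have hterm : ∀ c ∈ D.commTerms (D.simple i.val) r.val, ∀ v : F,
        S.x c.1 v ∈ (S.data hD).Urad i := by
      intro c hc v
      obtain ⟨hk, k1, k2⟩ := BNSetup.commTerms_pos hD hf (hD.simple_lt i.2) r.2
        (hf.2.2.2.2.1 i.val i.2).2.1 hr hc
      exact RootBN.Data.X_le_Urad (D := S.data hD) (r := ⟨c.1, hk⟩)
        (le_trans (hr : D.nroots / 2 ≤ r.val) k2.le) (fun h => k1.ne' (congrArg Fin.val h)) (S.x_mem_X _ v)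
    have hu : S.x r.val u ∈ (S.data hD).Urad i :=
      RootBN.Data.X_le_Urad (D := S.data hD) hr hne (S.x_mem_X _ u)
    have hw : ((D.commWord F (D.simple i.val) r.val (-t) u).map fun p => S.x p.1 p.2).prod ∈
        (S.data hD).Urad i := by
      refine Subgroup.list_prod_mem _ fun g hg => ?_
      simp only [ChevalleyDatum.commWord, List.map_map, List.mem_map, Function.comp_def] at hg
      obtain ⟨c, hcm, rfl⟩ := hg
      exact hterm c hcm _
    rw [← S.x_inv (hD.simple_lt i.2) t, inv_inv] at hc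
    show S.x (D.simple i.val) t * S.x r.val u * (S.x (D.simple i.val) t)⁻¹ ∈ _
    rw [show S.x (D.simple i.val) t * S.x r.val u * (S.x (D.simple i.val) t)⁻¹ =
      S.x r.val u * ((S.x r.val u)⁻¹ * S.x (D.simple i.val) t * S.x r.val u * (S.x (D.simple i.val) t)⁻¹) by group,
      hc]
    exact Subgroup.mul_mem _ hu hw
  rank_one i y hy hy1 := by
    have hp := hD.simple_lt i.2
    obtain ⟨u, rfl⟩ := S.exists_of_mem_X (hD.neg_lt hp) hy
    have hu : u ≠ 0 := fun h => hy1 (by rw [h, S.x_zero (hD.neg_lt hp)])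
    set t : F := -u⁻¹ with htdef
    have ht : t ≠ 0 := neg_ne_zero.2 (inv_ne_zero hu)
    refine ⟨S.x (D.simple i.val) (-t), S.x_mem_X _ _, S.h (D.simple i.val) t, S.h_mem_Hbar i.2 ht,
      S.x (D.simple i.val) (-t), S.x_mem_X _ _, ?_⟩
    show S.x (D.neg (D.simple i.val)) u = _ * _ * S.n (D.simple i.val) 1 * _
    rw [← S.x_inv hp, h, ← S.n_inv hD hp 1]
    simp only [n]
    rw [show -t⁻¹ = u by rw [htdef, inv_neg, inv_inv, neg_neg]]
    group
  neg_not_mem r hneg := by
    rw [Subgroup.eq_bot_iff_forall]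
    rintro y ⟨hy, hyB⟩
    obtain ⟨t, rfl⟩ := S.exists_of_mem_X r.2 hy
    have h1 := S.map_mem_B hD hf hyB
    rw [S.map_x' hD r.2] at h1
    rw [BNSetup.neg_inf_borel hD hf r.2 (not_le.1 hneg) h1, S.x_zero r.2]

/-- In a model generated by its root elements the kernel lies in H̄. -/
theorem ker_le_Hbar (hgen : Subgroup.closure {g | ∃ r, r < D.nroots ∧ ∃ t : F, g = S.x r t} = ⊤) :
    S.θ.ker ≤ S.Hbar := by
  classical
  intro g hg
  rw [MonoidHom.mem_ker] at hg
  have ax := S.axioms hD hf hst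
  have axG := BNSetup.axioms (F := F) hD hf
  have hgrp : g ∈ (S.data hD).grp := by
    have hle : Subgroup.closure {g | ∃ r, r < D.nroots ∧ ∃ t : F, g = S.x r t} ≤ (S.data hD).grp := by
      rw [Subgroup.closure_le]
      rintro y ⟨r, hr, t, rfl⟩
      exact RootBN.Data.X_le_grp (D := S.data hD) ⟨r, hr⟩ (S.x_mem_X r t)
    exact hle (hgen ▸ Subgroup.mem_top g)
  obtain ⟨l, hl⟩ := RootBN.Data.exists_cell ax hgrp
  obtain ⟨m, hm, hmσ, b, hb, c, hc, hgeq⟩ := id hl
  obtain ⟨h, hh, l', rfl⟩ := RootBN.Data.exists_word ax hm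
  have hwl : ∀ k : List (Fin D.rank), (S.data hD).wl k = (BNSetup.data hD F).wl k := fun _ => rfl
  have hnw : ∀ k : List (Fin D.rank), S.θ ((S.data hD).nw k) = (BNSetup.data hD F).nw k := by
    intro k
    induction k with
    | nil => simp
    | cons i k ih =>
      rw [RootBN.Data.nw_cons, RootBN.Data.nw_cons, map_mul, ih]
      congr 1
      show S.θ (S.n (D.simple i.val) 1) = BNSetup.ne' hD (D.simple i.val) 1
      rw [S.map_n hD (hD.simple_lt i.2)]
      exact Units.ext ((hD.coe_nG _ _).trans (BNSetup.coe_ne' hD _ _).symm)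
  have hB : ∀ {z : M}, z ∈ (S.data hD).B → S.θ z ∈ (BNSetup.data hD F).B := fun {z} hz => by
    rw [BNSetup.data_B hD hf]; exact S.map_mem_B hD hf hz
  have hθh : S.θ h ∈ (BNSetup.data hD F).H := S.map_mem_H hD hh
  have hnB : S.θ h * (BNSetup.data hD F).nw l' ∈ (BNSetup.data hD F).B := by
    have h1 := congrArg S.θ hgeq
    rw [map_mul, map_mul, map_mul, hnw, hg] at h1
    have h2 := Subgroup.mul_mem _ (Subgroup.inv_mem _ (hB hb)) (Subgroup.inv_mem _ (hB hc))
    rw [← mul_one (S.θ b)⁻¹, h1] at h2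
    simpa [mul_assoc] using h2
  have hnN : S.θ h * (BNSetup.data hD F).nw l' ∈ (BNSetup.data hD F).N :=
    Subgroup.mul_mem _ (RootBN.Data.H_le_N hθh) (RootBN.Data.nw_mem_N l')
  have hnH : S.θ h * (BNSetup.data hD F).nw l' ∈ (BNSetup.data hD F).H := by
    rw [← RootBN.Data.N_inf_B axG]; exact ⟨hnN, hnB⟩
  have h1 : (BNSetup.data hD F).wl l' = 1 :=
    RootBN.Data.acts_unique axG (RootBN.Data.acts_mul_nw axG hθh l') (RootBN.Data.acts_H axG hnH)
  have h2 : (S.data hD).wl l = 1 :=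
    (RootBN.Data.acts_unique ax hmσ (RootBN.Data.acts_mul_nw ax hh l')).trans ((hwl l').trans h1)
  rw [h2, RootBN.Data.mem_cell_one ax] at hl
  obtain ⟨u, hu, h', hh', rfl⟩ := (RootBN.Data.mem_B_iff ax).1 hl
  obtain ⟨L, -, hpos, -⟩ := id hst
  have huU : u ∈ S.Uf (listFun L) 1 := by
    refine (show (S.data hD).U ≤ S.Uf (listFun L) 1 from iSup₂_le fun r hr y hy => ?_) hu
    obtain ⟨t, rfl⟩ := S.exists_of_mem_X r.2 hy
    exact S.x_mem_Uf r.2 (by have := hpos r.val r.2 hr; omega) t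
  have huθ : S.θ u ∈ D.posUnipotent F ⊓ D.diagonalSubgroup F := by
    refine ⟨?_, ?_⟩
    · rw [SetLike.mem_coe, ← BNSetup.data_U hD hf]
      refine (show (S.data hD).U ≤ (BNSetup.data hD F).U.comap S.θ from iSup₂_le fun r hr y hy => ?_) hu
      exact RootBN.Data.X_le_U (D := BNSetup.data hD F) (r := r) hr (S.map_mem_X hD r.2 hy)
    · rw [map_mul] at hg
      rw [SetLike.mem_coe, eq_inv_of_mul_eq_one_left hg]
      exact Subgroup.inv_mem _ (S.map_mem_H hD hh')
  rw [BNSetup.U_inf_H hf hD, Subgroup.mem_bot] at huθ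
  rw [S.eq_one_of_map_one hD hf (listFun L) huU huθ, one_mul]
  exact hh'

end StModel

/-- The presented group of Steinberg as a model. -/
noncomputable def steinbergModel (D : ChevalleyDatum) (F : Type*) [Field F]
    (θ : D.SteinbergGroup F →* GL D.Idx F)
    (hθ : ∀ r < D.nroots, ∀ t : F, θ (D.stGen F r t) = xg D F r t) :
    StModel D F (D.SteinbergGroup F) where
  x := D.stGen F
  θ := θ
  add r hr t u := by
    have h := PresentedGroup.one_of_mem (rels := D.steinbergRels F)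
      (Or.inl (Or.inl ⟨r, t, u, hr, rfl⟩))
    rw [map_mul, map_mul, map_inv, mul_inv_eq_one] at h
    exact h
  comm r hr s hs h1 h2 t u := by
    have h := PresentedGroup.one_of_mem (rels := D.steinbergRels F)
      (Or.inl (Or.inr ⟨r, s, t, u, hr, hs, h1, h2, rfl⟩))
    rw [map_mul, map_inv, mul_inv_eq_one] at h
    refine (Eq.trans ?_ h).trans ?_
    · simp only [map_mul, map_inv]; rfl
    · rw [ChevalleyDatum.stWord, map_list_prod, List.map_map]; rfl
  map_x := hθ

theorem mk_stH (D : ChevalleyDatum) (F : Type*) [Field F] (θ : D.SteinbergGroup F →* GL D.Idx F)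
    (hθ : ∀ r < D.nroots, ∀ t : F, θ (D.stGen F r t) = xg D F r t) (r : ℕ) (t : F) :
    PresentedGroup.mk (D.steinbergRels F) (D.stH r t) = (steinbergModel D F θ hθ).h r t := by
  simp [ChevalleyDatum.stH, ChevalleyDatum.stWord, ChevalleyDatum.hWord, ChevalleyDatum.nWord, StModel.h,
    StModel.n, steinbergModel, ChevalleyDatum.stGen, map_mul, mul_assoc]

theorem closure_stGen (D : ChevalleyDatum) (F : Type*) [Field F] :
    Subgroup.closure {g : D.SteinbergGroup F | ∃ r, r < D.nroots ∧ ∃ t : F, g = D.stGen F r t} = ⊤ := by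
  rw [eq_top_iff, ← PresentedGroup.closure_range_of (D.steinbergRels F)]
  refine Subgroup.closure_mono ?_
  rintro g ⟨⟨r, t⟩, rfl⟩
  exact ⟨r.val, r.2, t, by simp [ChevalleyDatum.stGen, ChevalleyDatum.stX, PresentedGroup.of]⟩

end Cfsg.Agent.Chev
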