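/-
The map of a model of Steinberg's relations to the Chevalley group has central kernel, and the Chevalley
group has trivial centre.
-/
import Cfsg.Agent.Lib.Chev.Steinberg.Kernel
import Cfsg.Agent.Lib.Chev.BNCore
import Cfsg.Prelude.Def_SteinbergCover

set_option autoImplicit false

namespace Cfsg.Agent.Chev

open Cfsg.Lie

variable {D : ChevalleyDatum} {F : Type*} [Field F] {M : Type*} [Group M]

namespace StModel

variable (S : StModel D F M) (hD : Good D) {tabs simps : List ℕ} (hf : BNSetup.Facts D tabs simps)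
  (hst : StData D)
include hD hf hst

theorem ker_le_center (hgen : Subgroup.closure {g | ∃ r, r < D.nroots ∧ ∃ t : F, g = S.x r t} = ⊤) :
    S.θ.ker ≤ Subgroup.center M := by
  intro g hg
  have hH := S.ker_le_Hbar hD hf hst hgen hg
  rw [MonoidHom.mem_ker] at hg
  have key : ∀ r < D.nroots, ∀ t : F, g * S.x r t = S.x r t * g := by
    intro r hr t
    obtain ⟨u, hu⟩ := S.exists_of_mem_X hr (S.Hbar_normalizes hD hf hst hr hH (S.x_mem_X r t))
    have h := congrArg S.θ hu
    rw [map_mul, map_mul, map_inv, hg, one_mul, inv_one, mul_one, S.map_x r hr, S.map_x r hr] at h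
    rw [← hD.xg_injective hf hr h, mul_inv_eq_iff_eq_mul] at hu
    exact hu
  rw [Subgroup.mem_center_iff]
  intro z
  have hz : z ∈ Subgroup.closure {g | ∃ r, r < D.nroots ∧ ∃ t : F, g = S.x r t} := hgen ▸ Subgroup.mem_top z
  refine (show Subgroup.closure {g | ∃ r, r < D.nroots ∧ ∃ t : F, g = S.x r t} ≤ Subgroup.centralizer {g} from
    ?_) hz g rfl |>.symm
  rw [Subgroup.closure_le]
  rintro y ⟨r, hr, t, rfl⟩
  rw [SetLike.mem_coe, Subgroup.mem_centralizer_singleton_iff]
  exact (key r hr t).symm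

end StModel

variable (hD : Good D)
include hD

/-- A central element of a Chevalley group lies in B. -/
theorem center_mem_borel {tabs simps : List ℕ} (hf : BNSetup.Facts D tabs simps) {z : GL D.Idx F}
    (hz : z ∈ D.group F) (hc : ∀ g ∈ D.group F, g * z = z * g) : z ∈ D.borelSubgroup F := by
  classical
  have ax := BNSetup.axioms (F := F) hD hf
  have hgrp := BNSetup.data_grp (F := F) hD
  obtain ⟨l, hl⟩ := RootBN.Data.exists_cell ax (hgrp.symm ▸ hz : z ∈ (BNSetup.data hD F).grp)
  obtain ⟨n, hn, hσ, b, hb, c, hc', e⟩ := id hl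
  have hBle : (BNSetup.data hD F).B ≤ D.group F := by
    rw [← hgrp]
    exact sup_le (iSup₂_le fun r _ => RootBN.Data.X_le_grp r) ax.H_le
  have hconj : ∀ g ∈ (BNSetup.data hD F).B, n * g * n⁻¹ ∈ (BNSetup.data hD F).B := by
    intro g hg
    have hm : c⁻¹ * g * c ∈ (BNSetup.data hD F).B :=
      Subgroup.mul_mem _ (Subgroup.mul_mem _ (Subgroup.inv_mem _ hc') hg) hc'
    have h1 := hc _ (hBle hm)
    rw [e] at h1
    have h2 : n * g * n⁻¹ = b⁻¹ * (c⁻¹ * g * c) * b := by
      calc n * g * n⁻¹ = b⁻¹ * (b * n * c * (c⁻¹ * g * c)) * c⁻¹ * n⁻¹ := by group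
        _ = _ := by rw [← h1]; group
    rw [h2]
    exact Subgroup.mul_mem _ (Subgroup.mul_mem _ (Subgroup.inv_mem _ hb) hm) hb
  have hnH : n ∈ (BNSetup.data hD F).H := by
    refine RootBN.Data.mem_H_of_pos_preserving ax hn hσ fun r hr => ?_
    by_contra hneg
    apply ax.X_ne_bot r
    rw [Subgroup.eq_bot_iff_forall]
    intro y hy
    have h1 : n * y * n⁻¹ ∈ (BNSetup.data hD F).X ((BNSetup.data hD F).wl l r) ⊓ (BNSetup.data hD F).B :=
      ⟨(hσ r y).2 hy, hconj y (RootBN.Data.U_le_B (RootBN.Data.X_le_U hr hy))⟩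
    rw [ax.neg_not_mem _ hneg, Subgroup.mem_bot, conj_eq_one_iff] at h1
    exact h1
  rw [← BNSetup.data_B hD hf, e]
  exact Subgroup.mul_mem _ (Subgroup.mul_mem _ hb (RootBN.Data.H_le_B hnH)) hc'

/-- The Chevalley group has trivial centre. -/
theorem center_group_eq_bot (hmem : D ∈ [chevG2, chevB2, chevD4, chevF4, chevE6, chevE7, chevE8]) :
    Subgroup.center ↥(D.group F) = ⊥ := by
  obtain ⟨tabs, simps, w0, hf, hw⟩ := BNSetup.exists_facts_longest hmem
  rw [eq_bot_iff, ← BNSetup.normalCore_borel (F := F) hD hf (BNSetup.negTri_of_mem hmem) hw,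
    Subgroup.normal_le_normalCore]
  intro z hz
  rw [Subgroup.mem_subgroupOf]
  exact center_mem_borel hD hf z.2 fun g hg =>
    congrArg Subtype.val (Subgroup.mem_center_iff.1 hz ⟨g, hg⟩)

end Cfsg.Agent.Chev
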