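/-
The two presented groups of Steinberg as models, and their natural maps.
-/
import Cfsg.Agent.Lib.Chev.Steinberg.Center

set_option autoImplicit false

namespace Cfsg.Agent.Chev

open Cfsg.Lie

variable (D : ChevalleyDatum) (F : Type*) [Field F]

theorem steinbergRelsAB_subset : D.steinbergRelsAB F ⊆ D.steinbergRels F := fun _ h => Or.inl h

/-- The group of (R1), (R2) maps onto the group of (R1)–(R3). -/
def coverToGroup : D.SteinbergCover F →* D.SteinbergGroup F :=
  PresentedGroup.toGroup (f := fun p => PresentedGroup.of p) fun g hg => by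
    have e : FreeGroup.lift (fun p => PresentedGroup.of (rels := D.steinbergRels F) p) =
        PresentedGroup.mk (D.steinbergRels F) :=
      FreeGroup.ext_hom _ _ fun a => by rw [FreeGroup.lift_apply_of]; rfl
    rw [e]
    exact PresentedGroup.one_of_mem (steinbergRelsAB_subset D F hg)

theorem coverToGroup_scGen (r : ℕ) (t : F) : coverToGroup D F (D.scGen F r t) = D.stGen F r t := by
  by_cases hr : r < D.nroots
  · simp [ChevalleyDatum.scGen, ChevalleyDatum.stGen, ChevalleyDatum.stX, hr, coverToGroup]
    rfl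
  · simp [ChevalleyDatum.scGen, ChevalleyDatum.stGen, ChevalleyDatum.stX, hr]

theorem coverToGroup_surjective : Function.Surjective (coverToGroup D F) := by
  rw [← MonoidHom.range_eq_top, eq_top_iff, ← closure_stGen D F, Subgroup.closure_le]
  rintro g ⟨r, -, t, rfl⟩
  exact ⟨_, coverToGroup_scGen D F r t⟩

theorem closure_scGen :
    Subgroup.closure {g : D.SteinbergCover F | ∃ r, r < D.nroots ∧ ∃ t : F, g = D.scGen F r t} = ⊤ := by
  rw [eq_top_iff, ← PresentedGroup.closure_range_of (D.steinbergRelsAB F)]
  refine Subgroup.closure_mono ?_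
  rintro g ⟨⟨r, t⟩, rfl⟩
  exact ⟨r.val, r.2, t, by simp [ChevalleyDatum.scGen, ChevalleyDatum.stX, PresentedGroup.of]⟩

variable {D F}

theorem Good.exists_cover_hom (hD : Good D) :
    ∃ θ : D.SteinbergCover F →* ↥(D.group F), Function.Surjective θ ∧
      ∀ r < D.nroots, ∀ t : F, ((θ (D.scGen F r t) : GL D.Idx F)) = xg D F r t := by
  obtain ⟨θ, hθs, hθ⟩ := hD.exists_steinberg_hom (F := F)
  refine ⟨θ.comp (coverToGroup D F), hθs.comp (coverToGroup_surjective D F), fun r hr t => ?_⟩
  rw [MonoidHom.comp_apply, coverToGroup_scGen]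
  exact hD.eq_xg (hθ r t hr)

/-- The group of (R1), (R2) as a model. -/
noncomputable def coverModel (θ : D.SteinbergCover F →* GL D.Idx F)
    (hθ : ∀ r < D.nroots, ∀ t : F, θ (D.scGen F r t) = xg D F r t) :
    StModel D F (D.SteinbergCover F) where
  x := D.scGen F
  θ := θ
  add r hr t u := by
    have h := PresentedGroup.one_of_mem (rels := D.steinbergRelsAB F)
      (Or.inl ⟨r, t, u, hr, rfl⟩)
    rw [map_mul, map_mul, map_inv, mul_inv_eq_one] at h
    exact h
  comm r hr s hs h1 h2 t u := by
    have h := PresentedGroup.one_of_mem (rels := D.steinbergRelsAB F)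
      (Or.inr ⟨r, s, t, u, hr, hs, h1, h2, rfl⟩)
    rw [map_mul, map_inv, mul_inv_eq_one] at h
    refine (Eq.trans ?_ h).trans ?_
    · simp only [map_mul, map_inv]; rfl
    · rw [ChevalleyDatum.stWord, map_list_prod, List.map_map]; rfl
  map_x := hθ

end Cfsg.Agent.Chev
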