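/-
Central extensions of the group of (R1), (R2) split for simply laced data with enough commuting decompositions:
the lift of x_k(v) is a commutator of lifts, independent of the decomposition by the identity of Hall and Witt.
-/
import Cfsg.Agent.Lib.Chev.Steinberg.Presented
import Cfsg.Agent.Lib.Schur.PerfectCover

set_option autoImplicit false

namespace Cfsg.Agent.Chev

open Cfsg.Lie

variable (D : ChevalleyDatum)

/-- The sum of the roots `r`, `s` is `k` and the commutator of their root elements is a single term. -/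
def RStep (r s k : ℕ) (C : ℤ) : Prop :=
  r < D.nroots ∧ s < D.nroots ∧ k < D.nroots ∧ s ≠ r ∧ s ≠ D.neg r ∧
    D.commTerms r s = [(k, C, 1, 1)] ∧ C * C = 1

/-- The root elements of `r` and `s` commute. -/
def ROrth (r s : ℕ) : Prop :=
  r < D.nroots ∧ s < D.nroots ∧ s ≠ r ∧ s ≠ D.neg r ∧ D.commTerms r s = []

/-- The images of the root elements commute. -/
def RComm (s d : ℕ) : Prop := d = s ∨ ROrth D s d

/-- A triangle: a = c + f, d = b + f, where c, b and d, a commute. -/
def RTri (a b d c : ℕ) : Prop :=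
  ∃ f C₁ C₂, RStep D c f a C₁ ∧ RStep D b f d C₂ ∧ ROrth D c b ∧ ROrth D d a

/-- A move between ordered decompositions of `k`. -/
def RMove (k : ℕ) (p q : ℕ × ℕ) : Prop :=
  (∃ C, RStep D p.1 p.2 k C) ∧ (∃ C, RStep D q.1 q.2 k C) ∧
    ((q.1 = p.2 ∧ q.2 = p.1) ∨ RTri D p.1 p.2 q.1 q.2)

/-- The combinatorial conditions. -/
structure SimplyData : Prop where
  dich : ∀ r < D.nroots, ∀ s < D.nroots, s ≠ r → s ≠ D.neg r → D.commTerms r s = [] ∨ ∃ k C, RStep D r s k C
  mu : ∀ r s, ROrth D r s → ∃ d e C, RStep D d e r C ∧ RComm D s d ∧ RComm D s e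
  conn : ∀ k < D.nroots, ∃ d c C, RStep D d c k C ∧ ROrth D k d ∧ (∃ a b C', RTri D a b d c ∧ RStep D a b k C') ∧
    ∀ r s C', RStep D r s k C' → Relation.EqvGen (RMove D k) (r, s) (d, c)

/-- The commutator a⁻¹ b⁻¹ a b. -/
def cm {E : Type*} [Group E] (a b : E) : E := a⁻¹ * b⁻¹ * a * b

section group

variable {E : Type*} [Group E]

theorem cm_inv (a b : E) : (cm a b)⁻¹ = cm b a := by simp only [cm]; group

theorem cm_eq_one {a b : E} : cm a b = 1 ↔ Commute a b := by
  rw [cm, show a⁻¹ * b⁻¹ * a * b = (b * a)⁻¹ * (a * b) by group, inv_mul_eq_one]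
  exact eq_comm

theorem map_cm {G : Type*} [Group G] (f : E →* G) (a b : E) : f (cm a b) = cm (f a) (f b) := by
  simp [cm]

/-- Commutators depend only on the images in a central quotient. -/
theorem cm_congr {G : Type*} [Group G] {π : E →* G} (hc : π.ker ≤ Subgroup.center E) {a a' b b' : E}
    (ha : π a = π a') (hb : π b = π b') : cm a b = cm a' b' := by
  have h := Schur.commutator_congr hc (a := a⁻¹) (a' := a'⁻¹) (b := b⁻¹) (b' := b'⁻¹)
    (by rw [map_inv, map_inv, ha]) (by rw [map_inv, map_inv, hb])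
  simpa [commutatorElement_def, cm] using h

theorem cm_mul_right (x y y' : E) : cm x (y * y') = cm x y' * (y'⁻¹ * cm x y * y') := by
  simp only [cm]; group

/-- The identity of Hall and Witt for a commuting pair. -/
theorem hall_witt {B C F : E} (hBC : Commute B C) (h : Commute (cm F B) (cm F C)) :
    cm B (cm F C) = cm C (cm F B) := by
  have hc : B⁻¹ * C * B = C := by rw [mul_assoc, ← hBC.eq, inv_mul_cancel_left]
  have hA : B⁻¹ * cm F C * B = cm F C * cm (cm F B) C := by
    calc B⁻¹ * cm F C * B = cm (B⁻¹ * F * B) (B⁻¹ * C * B) := by simp only [cm]; group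
      _ = cm (F * cm F B) C := by rw [hc]; congr 1; simp only [cm]; group
      _ = (cm F B)⁻¹ * cm F C * cm F B * cm (cm F B) C := by simp only [cm]; group
      _ = _ := by rw [mul_assoc (cm F B)⁻¹, ← h.eq, inv_mul_cancel_left]
  calc cm B (cm F C) = (B⁻¹ * cm F C * B)⁻¹ * cm F C := by simp only [cm]; group
    _ = (cm (cm F B) C)⁻¹ := by rw [hA, mul_inv_rev, inv_mul_cancel_right]
    _ = cm C (cm F B) := cm_inv _ _

/-- A homomorphism from a perfect group is determined modulo a central kernel. -/
theorem lift_unique {M G : Type*} [Group M] [Group G] (hperf : commutator M = ⊤) {π : E →* G}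
    (hc : π.ker ≤ Subgroup.center E) {τ τ' : M →* E} (h : π.comp τ = π.comp τ') : τ = τ' := by
  refine MonoidHom.eq_of_eqOn_dense (s := commutatorSet M) (by rw [← commutator_eq_closure, hperf]) ?_
  rintro _ ⟨a, b, rfl⟩
  rw [map_commutatorElement, map_commutatorElement]
  exact Schur.commutator_congr hc (DFunLike.congr_fun h a) (DFunLike.congr_fun h b)

end group

variable {D} {K : Type*} [Field K]

/-- The coefficient-free commutation relations in a model. -/
theorem StModel.cm_orth {M : Type*} [Group M] (S : StModel D K M) {r s : ℕ} (h : ROrth D r s) (t u : K) :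
    cm (S.x s u) (S.x r t) = 1 := by
  obtain ⟨hr, hs, h1, h2, ht⟩ := h
  rw [cm, S.comm r hr s hs h1 h2, ChevalleyDatum.commWord, ht]
  rfl

theorem StModel.cm_step {M : Type*} [Group M] (S : StModel D K M) {r s k : ℕ} {C : ℤ} (h : RStep D r s k C)
    (t u : K) : cm (S.x s u) (S.x r t) = S.x k (-((C : K) * t * u)) := by
  obtain ⟨hr, hs, hk, h1, h2, ht, -⟩ := h
  rw [cm, S.comm r hr s hs h1 h2, ChevalleyDatum.commWord, ht]
  simp only [List.map_cons, List.map_nil, List.prod_cons, List.prod_nil, mul_one, pow_one]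
  congr 1
  ring

theorem RStep.cast_sq {r s k : ℕ} {C : ℤ} (h : RStep D r s k C) : (C : K) * C = 1 := by
  rw [← Int.cast_mul, h.2.2.2.2.2.2, Int.cast_one]

section lift

variable {M : Type*} [Group M] (S : StModel D K M)

theorem StModel.commute_of_comm {s d : ℕ} (h : RComm D s d) (hs : s < D.nroots) (t u : K) :
    Commute (S.x d u) (S.x s t) := by
  rcases h with rfl | h
  · exact (S.add d hs u t).trans ((congrArg (S.x d) (add_comm u t)).trans (S.add d hs t u).symm)
  · exact cm_eq_one.1 (S.cm_orth h t u)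

variable {E G₁ : Type*} [Group E] [Group G₁] {π : E →* G₁} {y : ℕ → K → E}
  {σ : M →* G₁} (hc : π.ker ≤ Subgroup.center E) (hy : ∀ r t, π (y r t) = σ (S.x r t))
include hc hy

/-- Lifts of commuting root elements commute. -/
theorem StModel.lift_commute (hS : SimplyData D) {r s : ℕ} (h : ROrth D r s) (t u : K) :
    Commute (y s u) (y r t) := by
  obtain ⟨d, e, C, hst, hd, he⟩ := hS.mu r s h
  have hs := h.2.1
  have key : cm (y s u) (cm (y e (-((C : K) * t))) (y d 1)) = 1 := by
    rw [cm_eq_one]
    set S' := y s u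
    set d' := y d 1
    set e' := y e (-((C : K) * t))
    have h1 : ∀ z v, RComm D s z → π (S' * y z v * S'⁻¹) = π (y z v) := fun z v hz => by
      rw [map_mul, map_mul, map_inv, hy, hy, mul_inv_eq_iff_eq_mul, ← map_mul, ← map_mul,
        (S.commute_of_comm hz hs u v).eq]
    have h2 : S' * cm e' d' * S'⁻¹ = cm e' d' := by
      rw [show S' * cm e' d' * S'⁻¹ = cm (S' * e' * S'⁻¹) (S' * d' * S'⁻¹) by simp only [cm]; group]
      exact cm_congr hc (h1 e _ he) (h1 d _ hd)
    exact mul_inv_eq_iff_eq_mul.1 h2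
  rw [cm_congr hc (a' := y s u) (b' := y r t) rfl] at key
  · exact cm_eq_one.1 key
  · rw [map_cm, hy, hy, ← map_cm, S.cm_step hst, hy]
    congr 2
    linear_combination t * hst.cast_sq (K := K)

/-- A commutator of lifts of a single-term pair lifts the term. -/
theorem StModel.lift_step {r s k : ℕ} {C : ℤ} (h : RStep D r s k C) (t u : K) :
    π (cm (y s u) (y r t)) = π (y k (-((C : K) * t * u))) := by
  rw [map_cm, hy, hy, ← map_cm, S.cm_step h, hy]

/-- The identity of Hall and Witt on lifts along a triangle. -/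
theorem StModel.lift_tri (hS : SimplyData D) {a b d c f : ℕ} {C₁ C₂ : ℤ} (h1 : RStep D c f a C₁)
    (h2 : RStep D b f d C₂) (h3 : ROrth D c b) (h4 : ROrth D d a) (u w m : K) :
    cm (y b u) (y a (-((C₁ : K) * w * m))) = cm (y c w) (y d (-((C₂ : K) * u * m))) := by
  rw [← cm_congr hc (a := y b u) rfl (S.lift_step hc hy h1 w m),
    ← cm_congr hc (a := y c w) rfl (S.lift_step hc hy h2 u m)]
  refine hall_witt (S.lift_commute hc hy hS h3 w u) ?_
  rw [← cm_eq_one, cm_congr hc (S.lift_step hc hy h2 u m) (S.lift_step hc hy h1 w m), cm_eq_one]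
  exact (S.lift_commute hc hy hS h4 _ _).symm

end lift

/-- Central extensions split over a simply laced datum. -/
theorem exists_lift (hD : Good D) {tabs simps : List ℕ} (hf : BNSetup.Facts D tabs simps) (hS : SimplyData D)
    {E G₁ : Type*} [Group E] [Group G₁] (π : E →* G₁) (hπ : Function.Surjective π)
    (hc : π.ker ≤ Subgroup.center E) (σ : D.SteinbergCover K →* G₁) :
    ∃ τ : D.SteinbergCover K →* E, π.comp τ = σ := by
  classical
  obtain ⟨θ, -, hθ⟩ := hD.exists_cover_hom (F := K)
  set S : StModel D K (D.SteinbergCover K) := coverModel ((D.group K).subtype.comp θ) hθ with hSdef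
  set y : ℕ → K → E := fun r t => Function.surjInv hπ (σ (S.x r t)) with hydef
  have hy : ∀ r t, π (y r t) = σ (S.x r t) := fun r t => Function.surjInv_eq hπ _
  have inj : ∀ {k : ℕ}, k < D.nroots → ∀ {v w : K}, S.x k v = S.x k w → v = w := by
    intro k hk v w h
    have h' := congrArg S.θ h
    rw [S.map_x k hk, S.map_x k hk] at h'
    exact hD.xg_injective hf hk h'
  -- the pivot of each root
  choose! d c C hpiv using hS.conn
  set z : ℕ → K → E := fun k v => cm (y (c k) 1) (y (d k) (-((C k : K) * v))) with hzdef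
  have hz : ∀ k < D.nroots, ∀ v, π (z k v) = σ (S.x k v) := by
    intro k hk v
    rw [hzdef, S.lift_step hc hy (hpiv k hk).1, hy]
    congr 2
    linear_combination v * (hpiv k hk).1.cast_sq (K := K)
  have hadd : ∀ k < D.nroots, ∀ v w, z k v * z k w = z k (v + w) := by
    intro k hk v w
    obtain ⟨hst, horth, -, -⟩ := hpiv k hk
    have hd := hst.1
    have e1 : π (y (d k) (-((C k : K) * (v + w)))) =
        π (y (d k) (-((C k : K) * w)) * y (d k) (-((C k : K) * v))) := by
      rw [map_mul, hy, hy, hy, ← map_mul, S.add _ hd]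
      congr 2
      ring
    show z k v * z k w = cm (y (c k) 1) (y (d k) _)
    rw [cm_congr hc (a := y (c k) 1) rfl e1, cm_mul_right]
    congr 1
    have hcom : Commute (z k w) (y (d k) (-((C k : K) * v))) := by
      rw [← cm_eq_one, cm_congr hc (a' := y k w) (b' := y (d k) (-((C k : K) * v))) (by rw [hz k hk, hy]) rfl,
        cm_eq_one]
      exact (S.lift_commute hc hy hS horth _ _).symm
    show z k w = _
    rw [mul_assoc, hcom.eq, inv_mul_cancel_left]
  have hzero : ∀ k < D.nroots, z k 0 = 1 := fun k hk => by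
    have := hadd k hk 0 0
    rwa [add_zero, mul_eq_left] at this
  have hneg : ∀ k < D.nroots, ∀ v, z k (-v) = (z k v)⁻¹ := fun k hk v =>
    eq_inv_of_mul_eq_one_left (by rw [hadd k hk, neg_add_cancel, hzero k hk])
  -- every decomposition gives the same lift
  let P : ℕ → ℕ × ℕ → Prop := fun k p => ∀ C', RStep D p.1 p.2 k C' → ∀ t u,
    cm (y p.2 u) (y p.1 t) = z k (-((C' : K) * t * u))
  have hmove : ∀ k < D.nroots, ∀ p q, RMove D k p q → (P k p ↔ P k q) := by
    rintro k hk ⟨a, b⟩ ⟨d', c'⟩ ⟨⟨C₄, h4⟩, ⟨C₃, h3⟩, hmv⟩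
    have huniq : ∀ {r s : ℕ} {C C' : ℤ}, RStep D r s k C → RStep D r s k C' → C = C' := by
      intro r s C C' h h'
      have := h.2.2.2.2.2.1.symm.trans h'.2.2.2.2.2.1
      simpa using this
    dsimp only at h4 h3 hmv
    rcases hmv with ⟨rfl, rfl⟩ | ⟨f, C₁, C₂, e1, e2, o1, o2⟩
    · have hC : (C₃ : K) = -C₄ := by
        have h := congrArg (·⁻¹) (S.cm_step h3 1 1)
        simp only [cm_inv, S.cm_step h4, mul_one, S.x_inv hk] at h
        linear_combination - inj hk h
      constructor
      · intro hP C' hC' t u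
        obtain rfl := huniq hC' h3
        rw [← cm_inv, hP C₄ h4 u t, ← hneg k hk]
        congr 1
        rw [hC]
        ring
      · intro hP C' hC' t u
        obtain rfl := huniq hC' h4
        rw [← cm_inv, hP C₃ h3 u t, ← hneg k hk]
        congr 1
        rw [hC]
        ring
    · have hC : (C₄ : K) * C₁ = C₃ * C₂ := by
        have h := S.lift_tri (π := MonoidHom.id _) (σ := MonoidHom.id _) (y := S.x) (by simp)
          (fun r t => rfl) hS e1 e2 o1 o2 1 1 1
        rw [S.cm_step h4, S.cm_step h3] at h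
        linear_combination inj hk h
      constructor
      · intro hP C' hC' t u
        obtain rfl := huniq hC' h3
        have h := S.lift_tri hc hy hS e1 e2 o1 o2 (-((C₂ : K) * t)) u 1
        rw [hP C₄ h4, show -((C₂ : K) * -((C₂ : K) * t) * 1) = t by linear_combination t * e2.cast_sq (K := K)] at h
        rw [← h]
        congr 1
        linear_combination (-(C₂ : K) * t * u) * hC + (-(C' : K) * t * u) * e2.cast_sq (K := K)
      · intro hP C' hC' t u
        obtain rfl := huniq hC' h4
        have h := S.lift_tri hc hy hS e1 e2 o1 o2 u (-((C₁ : K) * t)) 1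
        rw [hP C₃ h3, show -((C₁ : K) * -((C₁ : K) * t) * 1) = t by linear_combination t * e1.cast_sq (K := K)] at h
        rw [h]
        congr 1
        linear_combination ((C₁ : K) * t * u) * hC + (-(C' : K) * t * u) * e1.cast_sq (K := K)
  have hpivot : ∀ k < D.nroots, P k (d k, c k) := by
    intro k hk C' hC' t u
    obtain ⟨hst, -, ⟨a, b, C'', ⟨f, C₁, C₂, e1, e2, o1, o2⟩, -⟩, -⟩ := hpiv k hk
    obtain rfl : C' = C k := by simpa using hC'.2.2.2.2.2.1.symm.trans hst.2.2.2.2.2.1
    have h1 := S.lift_tri hc hy hS e1 e2 o1 o2 (-((C₂ : K) * t)) u 1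
    have h2 := S.lift_tri hc hy hS e1 e2 o1 o2 (-((C₂ : K) * t)) 1 u
    have h3 : -((C₁ : K) * u * 1) = -((C₁ : K) * 1 * u) := by ring
    rw [h3, h2, show -((C₂ : K) * -((C₂ : K) * t) * 1) = t by linear_combination t * e2.cast_sq (K := K)] at h1
    rw [← h1]
    show cm (y (c k) 1) _ = cm (y (c k) 1) (y (d k) _)
    congr 2
    linear_combination (t * u) * e2.cast_sq (K := K) - (t * u) * hst.cast_sq (K := K)
  have hall : ∀ r s k C', RStep D r s k C' → ∀ t u, cm (y s u) (y r t) = z k (-((C' : K) * t * u)) := by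
    intro r s k C' h t u
    have hk := h.2.2.1
    have key : ∀ p q, Relation.EqvGen (RMove D k) p q → (P k p ↔ P k q) := by
      intro p q hpq
      induction hpq with
      | rel p q h => exact hmove k hk p q h
      | refl p => exact Iff.rfl
      | symm p q _ ih => exact ih.symm
      | trans p q r _ _ ih ih' => exact ih.trans ih'
    exact (key _ _ ((hpiv k hk).2.2.2 r s C' h)).2 (hpivot k hk) C' h t u
  -- the homomorphism
  set f : Fin D.nroots × K → E := fun p => z p.1.val p.2 with hfdef
  have hX : ∀ r < D.nroots, ∀ t, FreeGroup.lift f (D.stX r t) = z r t := by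
    intro r hr t
    simp [ChevalleyDatum.stX, hr, hfdef]
  have hrel : ∀ g ∈ D.steinbergRelsAB K, FreeGroup.lift f g = 1 := by
    rintro g (⟨r, t₁, t₂, hr, rfl⟩ | ⟨r, s, t, u, hr, hs, h1, h2, rfl⟩)
    · simp only [map_mul, map_inv, hX r hr, hadd r hr, mul_inv_cancel]
    · rw [map_mul, map_mul, map_mul, map_mul, map_inv, map_inv, map_inv, hX r hr, hX s hs, mul_inv_eq_one]
      show cm (z s u) (z r t) = _
      rw [cm_congr hc (a' := y s u) (b' := y r t) (by rw [hz s hs, hy]) (by rw [hz r hr, hy])]
      rcases hS.dich r hr s hs h1 h2 with h | ⟨k, C', h⟩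
      · rw [cm_eq_one.2 (S.lift_commute hc hy hS ⟨hr, hs, h1, h2, h⟩ t u), ChevalleyDatum.commWord, h]
        simp [ChevalleyDatum.stWord]
      · rw [hall r s k C' h, ChevalleyDatum.commWord, h.2.2.2.2.2.1]
        simp only [ChevalleyDatum.stWord, List.map_cons, List.map_nil, List.prod_cons, List.prod_nil, mul_one,
          hX k h.2.2.1, pow_one]
        congr 1
        ring
  refine ⟨PresentedGroup.toGroup hrel, MonoidHom.eq_of_eqOn_dense (closure_scGen D K) ?_⟩
  rintro g ⟨r, hr, t, rfl⟩
  have : PresentedGroup.toGroup hrel (D.scGen K r t) = FreeGroup.lift f (D.stX r t) := rfl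
  rw [MonoidHom.comp_apply, this, hX r hr, hz r hr]
  rfl

end Cfsg.Agent.Chev
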