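/-
Lifting projective representations in the natural characteristic: when the kernel of a central extension is
p-divisible without p-torsion, the lifts of p-power order of the root elements satisfy Steinberg's relations.
-/
import Cfsg.Agent.Lib.Chev.Steinberg.TorusSplit
import Mathlib.LinearAlgebra.Matrix.GeneralLinearGroup.Projective
import Mathlib.FieldTheory.IsAlgClosed.AlgebraicClosure
import Mathlib.Algebra.CharP.Reduced

set_option autoImplicit false

namespace Cfsg.Agent.Chev

open Cfsg.Lie
open scoped commutatorElement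

variable {D : ChevalleyDatum} {K : Type*} [Field K] {E : Type*} [Group E]

/-- An element of p-power order. -/
def PPow (p : ℕ) (g : E) : Prop := ∃ k : ℕ, g ^ p ^ k = 1

/-- Lifts in a central extension with uniquely p-divisible kernel. -/
theorem exists_lift_charP (hD : Good D) (hS : TorusSplitData D) {p : ℕ} [CharP K p] (hp : 0 < p)
    {G : Type*} [Group G] (π : E →* G) (hπ : Function.Surjective π) (hc : π.ker ≤ Subgroup.center E)
    (hdiv : ∀ z ∈ π.ker, ∃ w ∈ π.ker, w ^ p = z) (htor : ∀ z ∈ π.ker, z ^ p = 1 → z = 1)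
    (σ : D.SteinbergCover K →* G) : ∃ τ : D.SteinbergCover K →* E, π.comp τ = σ := by
  classical
  obtain ⟨θ, -, hθ⟩ := hD.exists_cover_hom (F := K)
  set S : StModel D K (D.SteinbergCover K) := coverModel ((D.group K).subtype.comp θ) hθ with hSdef
  have hcomm : ∀ z ∈ π.ker, ∀ g : E, Commute z g := fun z hz g => (Subgroup.mem_center_iff.1 (hc hz) g).symm
  have htor' : ∀ z ∈ π.ker, PPow p z → z = 1 := by
    rintro z hz ⟨k, hk⟩
    induction k generalizing z with
    | zero => simpa using hk
    | succ k ih => exact htor z hz (ih (z ^ p) (Subgroup.pow_mem _ hz p) (by rwa [← pow_mul, ← pow_succ']))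
  -- two lifts of p-power order are equal
  have huniq : ∀ a b : E, π a = π b → PPow p a → PPow p b → a = b := by
    rintro a b hab ⟨k, hk⟩ ⟨l, hl⟩
    have hz : a * b⁻¹ ∈ π.ker := by rw [MonoidHom.mem_ker, map_mul, map_inv, hab, mul_inv_cancel]
    refine mul_inv_eq_one.1 (htor' _ hz ⟨k + l, ?_⟩)
    have e : (a * b⁻¹ * b) ^ p ^ (k + l) = (a * b⁻¹) ^ p ^ (k + l) * b ^ p ^ (k + l) :=
      (hcomm _ hz b).mul_pow _
    rw [inv_mul_cancel_right, pow_add, pow_mul, hk, one_pow, mul_comm (p ^ k), pow_mul b, hl, one_pow, mul_one] at e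
    rw [pow_add, mul_comm]
    exact e.symm
  have hxp : ∀ r, r < D.nroots → ∀ (t : K) (n : ℕ), S.x r t ^ n = S.x r ((n : K) * t) := by
    intro r hr t n
    induction n with
    | zero => rw [pow_zero, Nat.cast_zero, zero_mul, S.x_zero hr]
    | succ n ih => rw [pow_succ, ih, S.add r hr, Nat.cast_succ, add_one_mul]
  have hsel : ∀ r, r < D.nroots → ∀ t, ∃ e : E, π e = σ (S.x r t) ∧ e ^ p = 1 := by
    intro r hr t
    obtain ⟨e, he⟩ := hπ (σ (S.x r t))
    obtain ⟨w, hw, hwp⟩ := hdiv (e ^ p) (by
      rw [MonoidHom.mem_ker, map_pow, he, ← map_pow, hxp r hr, CharP.cast_eq_zero, zero_mul, S.x_zero hr, map_one])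
    refine ⟨w⁻¹ * e, by rw [map_mul, map_inv, MonoidHom.mem_ker.1 hw, inv_one, one_mul, he], ?_⟩
    rw [((hcomm w hw e).inv_left).mul_pow, inv_pow, hwp, inv_mul_cancel]
  choose! φ hφ hφp using hsel
  have hP : ∀ r, r < D.nroots → ∀ t, PPow p (φ r t) := fun r hr t => ⟨1, by rw [pow_one]; exact hφp r hr t⟩
  have hφadd : ∀ r, r < D.nroots → ∀ t u, φ r t * φ r u = φ r (t + u) := by
    intro r hr t u
    have hz : cm (φ r t) (φ r u) ∈ π.ker := by
      rw [MonoidHom.mem_ker, map_cm, hφ r hr, hφ r hr, cm_eq_one]
      exact ((show Commute (S.x r t) (S.x r u) from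
        (S.add r hr t u).trans ((congrArg (S.x r) (add_comm t u)).trans (S.add r hr u t).symm))).map σ
    have hcmu : Commute (φ r t) (φ r u) := by
      refine cm_eq_one.1 (htor _ hz ?_)
      have h1 : ∀ n : ℕ, cm (φ r t ^ n) (φ r u) = cm (φ r t) (φ r u) ^ n := by
        intro n
        induction n with
        | zero => simp [cm]
        | succ n ih => rw [pow_succ, cm_mul_left_of_central (by rw [ih]; exact Subgroup.pow_mem _ (hc hz) n), ih, pow_succ]
      rw [← h1, hφp r hr]
      simp [cm]
    refine huniq _ _ ?_ ⟨1, ?_⟩ (hP r hr _)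
    · rw [map_mul, hφ r hr, hφ r hr, hφ r hr, ← map_mul, S.add r hr]
    · rw [pow_one, hcmu.mul_pow, hφp r hr, hφp r hr, one_mul]
  have hφ0 : ∀ r, r < D.nroots → φ r 0 = 1 := fun r hr => by
    have := hφadd r hr 0 0
    rwa [add_zero, mul_eq_left] at this
  have hφinv : ∀ r, r < D.nroots → ∀ t, (φ r t)⁻¹ = φ r (-t) := fun r hr t =>
    inv_eq_of_mul_eq_one_right (by rw [hφadd r hr, add_neg_cancel, hφ0 r hr])
  -- the relations
  have hrel : ∀ r < D.nroots, ∀ s < D.nroots, s ≠ r → s ≠ D.neg r → ∀ t u : K,
      cm (φ s u) (φ r t) = ((D.commWord K r s t u).map fun q => φ q.1 q.2).prod := by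
    intro r₀ hr₀ s₀ hs₀ hne₀ hne₀'
    obtain ⟨b, -, hbr, hbs, -⟩ := hS.pair r₀ hr₀ s₀ hs₀ hne₀ hne₀'
    let P : ℕ → Prop := fun N => ∀ r < D.nroots, ∀ s < D.nroots, s ≠ r → s ≠ D.neg r →
      0 < wt D b r → 0 < wt D b s → (N : ℤ) ≤ wt D b r + wt D b s → ∀ t u : K,
        cm (φ s u) (φ r t) = ((D.commWord K r s t u).map fun q => φ q.1 q.2).prod
    let Lf : ℕ → List ℕ → Subgroup E := fun k L => Subgroup.closure
      {g | ∃ z, z < D.nroots ∧ ((k : ℤ) < wt D b z ∨ z ∈ L) ∧ ∃ v : K, g = φ z v}
    have hwordmem : ∀ (k : ℕ) r s, r < D.nroots → s < D.nroots → ∀ t u : K, 0 < wt D b r → 0 < wt D b s →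
        (k : ℤ) < wt D b r + wt D b s → ((D.commWord K r s t u).map fun q => φ q.1 q.2).prod ∈ Lf k [] := by
      intro k r s hr hs t u h1 h2 h3
      refine Subgroup.list_prod_mem _ fun g hg => ?_
      simp only [ChevalleyDatum.commWord, List.map_map, List.mem_map, Function.comp_def] at hg
      obtain ⟨x, hx, rfl⟩ := hg
      obtain ⟨hw, hi, hj⟩ := hD.wt_commTerms b hr hs hx
      refine Subgroup.subset_closure ⟨x.1, hD.commTerms_lt hr hs hx, Or.inl ?_, _, rfl⟩
      have : wt D b r ≤ (x.2.2.1 : ℤ) * wt D b r := le_mul_of_one_le_left h1.le (by omega)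
      have : wt D b s ≤ (x.2.2.2 : ℤ) * wt D b s := le_mul_of_one_le_left h2.le (by omega)
      omega
    have hmono : ∀ (k : ℕ) (L : List ℕ), Lf k [] ≤ Lf k L := fun k L => Subgroup.closure_mono (by
      rintro g ⟨z, hz, h | h, v, rfl⟩
      · exact ⟨z, hz, Or.inl h, v, rfl⟩
      · simp at h)
    have hstep : ∀ N, P (N + 1) → P N := by
      intro N ih r hr s hs h1 h2 hr0 hs0 hN t u
      rcases Nat.lt_or_ge N 2 with hN2 | hN2
      · exact ih r hr s hs h1 h2 hr0 hs0 (by omega) t u
      have hnorm : ∀ (k : ℕ) (L : List ℕ) (z : ℕ), z < D.nroots → 0 < wt D b z → N ≤ k + 1 →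
          (∀ z' ∈ L, wt D b z' = k ∧ N ≤ k) → ∀ v : K, ∀ g ∈ Lf k L, φ z v * g * (φ z v)⁻¹ ∈ Lf k L := by
        intro k L z hz hzpos hk hL v g hg
        refine (show Lf k L ≤ (Lf k L).comap (MulAut.conj (φ z v)).toMonoidHom from ?_) hg
        simp only [Lf]
        rw [Subgroup.closure_le]
        rintro _ ⟨z', hz', hsel', w, rfl⟩
        have hwt : (k : ℤ) ≤ wt D b z' ∧ (N : ℤ) ≤ wt D b z' :=
          hsel'.elim (fun h => ⟨h.le, by omega⟩) fun h => ⟨(hL z' h).1.ge, by have := hL z' h; omega⟩
        simp only [SetLike.mem_coe, Subgroup.mem_comap, MulEquiv.coe_toMonoidHom, MulAut.conj_apply]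
        have hgen' : φ z' w ∈ Lf k L := Subgroup.subset_closure ⟨z', hz', hsel', w, rfl⟩
        by_cases e1 : z' = z
        · subst e1
          rw [hφadd z' hz, add_comm, ← hφadd z' hz, mul_inv_cancel_right]
          exact hgen'
        have e2 : z' ≠ D.neg z := fun h => by
          rw [h, hD.wt_neg b hz] at hwt
          omega
        have hcm := ih z hz z' hz' e1 e2 hzpos (by omega) (by push_cast; omega) (-v) w
        rw [show φ z v * φ z' w * (φ z v)⁻¹ = φ z' w * cm (φ z' w) (φ z (-v)) by
          rw [cm, ← hφinv z hz]; group, hcm]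
        exact Subgroup.mul_mem _ hgen' (hmono k L (hwordmem k z z' hz hz' _ _ hzpos (by omega) (by omega)))
      -- the subgroups above the level consist of elements of p-power order
      have hPP : ∀ m k : ℕ, wtBound D b ≤ k + m → N ≤ k + 1 → ∀ g ∈ Lf k [], PPow p g := by
        intro m
        induction m with
        | zero =>
          intro k hk _ g hg
          have hbot : Lf k [] = ⊥ := by
            simp only [Lf]
            rw [Subgroup.closure_eq_bot_iff]
            rintro g ⟨z, hz, hw | hw, -⟩
            · have h : (wt D b z).natAbs ≤ wtBound D b :=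
                Finset.single_le_sum (f := fun s => (wt D b s).natAbs) (fun _ _ => Nat.zero_le _)
                  (Finset.mem_range.2 hz)
              omega
            · simp at hw
          rw [hbot, Subgroup.mem_bot] at hg
          exact ⟨0, by rw [hg, one_pow]⟩
        | succ m ihm =>
          intro k hk hkN
          have key : ∀ L : List ℕ, (∀ z ∈ L, z < D.nroots ∧ wt D b z = (k + 1 : ℕ)) →
              ∀ g ∈ Lf (k + 1) L, PPow p g := by
            intro L
            induction L with
            | nil => exact fun _ g hg => ihm (k + 1) (by omega) (by omega) g hg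
            | cons q L ihL =>
              intro hL g hg
              obtain ⟨hq, hwq⟩ := hL q List.mem_cons_self
              have hL' := fun z hz => hL z (List.mem_cons_of_mem _ hz)
              have conjq := hnorm (k + 1) L q hq (by rw [hwq]; omega) (by omega)
                (fun z hz => ⟨(hL' z hz).2, hkN⟩)
              obtain ⟨v, w, hw, rfl⟩ : ∃ v : K, ∃ w ∈ Lf (k + 1) L, g = φ q v * w := by
                induction hg using Subgroup.closure_induction with
                | mem g hg =>
                  obtain ⟨z, hz, h, v, rfl⟩ := hg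
                  rcases h with h | h
                  · exact ⟨0, _, Subgroup.subset_closure ⟨z, hz, Or.inl h, v, rfl⟩, by rw [hφ0 q hq, one_mul]⟩
                  rcases List.mem_cons.1 h with rfl | h
                  · exact ⟨v, 1, Subgroup.one_mem _, (mul_one _).symm⟩
                  · exact ⟨0, _, Subgroup.subset_closure ⟨z, hz, Or.inr h, v, rfl⟩, by rw [hφ0 q hq, one_mul]⟩
                | one => exact ⟨0, 1, Subgroup.one_mem _, by rw [hφ0 q hq, one_mul]⟩
                | mul g g' _ _ ihg ihg' =>
                  obtain ⟨v, w, hw, rfl⟩ := ihg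
                  obtain ⟨v', w', hw', rfl⟩ := ihg'
                  refine ⟨v + v', (φ q v')⁻¹ * w * φ q v' * w', Subgroup.mul_mem _ ?_ hw', ?_⟩
                  · have := conjq (-v') w hw
                    rwa [← hφinv q hq, inv_inv] at this
                  · rw [← hφadd q hq]; group
                | inv g _ ihg =>
                  obtain ⟨v, w, hw, rfl⟩ := ihg
                  refine ⟨-v, φ q v * w⁻¹ * (φ q v)⁻¹, conjq v _ (Subgroup.inv_mem _ hw), ?_⟩
                  rw [← hφinv q hq]; group
              -- the p-th power lies in the normal part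
              have hpow : ∀ n : ℕ, ∃ w' ∈ Lf (k + 1) L, (φ q v * w) ^ n = φ q v ^ n * w' := by
                intro n
                induction n with
                | zero => exact ⟨1, Subgroup.one_mem _, by simp⟩
                | succ n ihn =>
                  obtain ⟨w', hw', e⟩ := ihn
                  refine ⟨(φ q v)⁻¹ * w' * φ q v * w, Subgroup.mul_mem _ ?_ hw, ?_⟩
                  · have := conjq (-v) w' hw'
                    rwa [← hφinv q hq, inv_inv] at this
                  · rw [pow_succ, e, pow_succ]; group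
              obtain ⟨w', hw', e⟩ := hpow p
              rw [hφp q hq, one_mul] at e
              obtain ⟨j, hj⟩ := ihL hL' w' hw'
              exact ⟨j + 1, by rw [pow_succ', pow_mul, e, hj]⟩
          intro g hg
          refine key ((List.range D.nroots).filter fun z => decide (wt D b z = (k + 1 : ℕ))) (fun z hz => ?_) g ?_
          · rw [List.mem_filter, List.mem_range, decide_eq_true_eq] at hz
            exact hz
          · refine (show Lf k [] ≤ _ from Subgroup.closure_mono ?_) hg
            rintro _ ⟨z, hz, h | h, v, rfl⟩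
            · refine ⟨z, hz, ?_, v, rfl⟩
              rcases (show ((k + 1 : ℕ) : ℤ) ≤ wt D b z by push_cast; omega).eq_or_lt with h' | h'
              · exact Or.inr (List.mem_filter.2 ⟨List.mem_range.2 hz, decide_eq_true h'.symm⟩)
              · exact Or.inl h'
            · simp at h
      set W : E := ((D.commWord K r s t u).map fun q => φ q.1 q.2).prod
      have hW : W ∈ Lf (N - 1) [] := hwordmem _ r s hr hs t u hr0 hs0 (by omega)
      have hπW : π W = σ (cm (S.x s u) (S.x r t)) := by
        rw [cm, S.comm r hr s hs h1 h2, map_list_prod, map_list_prod, List.map_map, List.map_map]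
        refine congrArg List.prod (List.map_congr_left fun q hq => ?_)
        obtain ⟨x, hx, rfl⟩ := List.mem_map.1 hq
        exact hφ _ (hD.commTerms_lt hr hs hx) _
      -- a conjugate of one lift against the product
      have h9 : (φ s u)⁻¹ * (φ r t)⁻¹ * φ s u = W * (φ r t)⁻¹ := by
        refine huniq _ _ ?_ ?_ ?_
        · rw [map_mul, map_mul, map_mul, map_inv, map_inv, hπW, cm, map_mul, map_mul, map_mul, map_inv, map_inv,
            hφ s hs, hφ r hr, mul_inv_cancel_right]
        · refine ⟨1, ?_⟩
          rw [pow_one, show (φ s u)⁻¹ * (φ r t)⁻¹ * φ s u = MulAut.conj (φ s u)⁻¹ (φ r t)⁻¹ by simp,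
            ← map_pow, inv_pow, hφp r hr, inv_one, map_one]
        · obtain ⟨j, hj⟩ : ∃ j, ((W * (φ r t)⁻¹) ^ p) ^ p ^ j = 1 := by
            have hmem : ∀ n : ℕ, ∃ w' ∈ Lf (N - 1) [], (W * (φ r t)⁻¹) ^ n = w' * (φ r t)⁻¹ ^ n := by
              intro n
              induction n with
              | zero => exact ⟨1, Subgroup.one_mem _, by simp⟩
              | succ n ihn =>
                obtain ⟨w', hw', e⟩ := ihn
                refine ⟨W * ((φ r t)⁻¹ * w' * φ r t), Subgroup.mul_mem _ hW ?_, ?_⟩
                · have := hnorm (N - 1) [] r hr hr0 (by omega) (by simp) (-t) w' hw'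
                  rwa [← hφinv r hr, inv_inv] at this
                · rw [pow_succ', e, pow_succ']; group
            obtain ⟨w', hw', e⟩ := hmem p
            rw [inv_pow, hφp r hr, inv_one, mul_one] at e
            rw [e]
            exact hPP (wtBound D b) (N - 1) (by omega) (by omega) w' hw'
          exact ⟨j + 1, by rw [pow_succ', pow_mul, hj]⟩
      rw [cm, h9, inv_mul_cancel_right]
    have htop : P (2 * wtBound D b + 1) := by
      intro r hr s hs _ _ _ _ hN
      exfalso
      have h1 : (wt D b r).natAbs ≤ wtBound D b :=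
        Finset.single_le_sum (f := fun s => (wt D b s).natAbs) (fun _ _ => Nat.zero_le _) (Finset.mem_range.2 hr)
      have h2 : (wt D b s).natAbs ≤ wtBound D b :=
        Finset.single_le_sum (f := fun s => (wt D b s).natAbs) (fun _ _ => Nat.zero_le _) (Finset.mem_range.2 hs)
      push_cast at hN
      omega
    have hall : P 2 :=
      Nat.decreasingInduction (motive := fun n _ => P n) (fun k _ h => hstep k h) htop
        (show 2 ≤ 2 * wtBound D b + 1 by
          have : (wt D b r₀).natAbs ≤ wtBound D b :=
            Finset.single_le_sum (f := fun s => (wt D b s).natAbs) (fun _ _ => Nat.zero_le _) (Finset.mem_range.2 hr₀)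
          omega)
    exact hall r₀ hr₀ s₀ hs₀ hne₀ hne₀' hbr hbs (by push_cast; omega)
  -- the homomorphism
  set f : Fin D.nroots × K → E := fun q => φ q.1.val q.2 with hfdef
  have hX : ∀ r < D.nroots, ∀ t, FreeGroup.lift f (D.stX r t) = φ r t := by
    intro r hr t
    simp [ChevalleyDatum.stX, hr, hfdef]
  have hrels : ∀ g ∈ D.steinbergRelsAB K, FreeGroup.lift f g = 1 := by
    rintro g (⟨r, t₁, t₂, hr, rfl⟩ | ⟨r, s, t, u, hr, hs, h1, h2, rfl⟩)
    · simp only [map_mul, map_inv, hX r hr, hφadd r hr, mul_inv_cancel]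
    · rw [map_mul, map_mul, map_mul, map_mul, map_inv, map_inv, map_inv, hX r hr, hX s hs, mul_inv_eq_one]
      refine (hrel r hr s hs h1 h2 t u).trans ?_
      rw [ChevalleyDatum.stWord, map_list_prod, List.map_map]
      refine congrArg List.prod (List.map_congr_left fun q hq => (hX _ ?_ _).symm)
      obtain ⟨x, hx, rfl⟩ := List.mem_map.1 hq
      exact hD.commTerms_lt hr hs hx
  refine ⟨PresentedGroup.toGroup hrels, MonoidHom.eq_of_eqOn_dense (closure_scGen D K) ?_⟩
  rintro g ⟨r, hr, t, rfl⟩
  rw [MonoidHom.comp_apply, show PresentedGroup.toGroup hrels (D.scGen K r t) = FreeGroup.lift f (D.stX r t) from rfl,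
    hX r hr, hφ r hr]
  rfl

/-- A projective representation over a field of the characteristic of `K` lifts. -/
theorem exists_lift_projective (hD : Good D) (hS : TorusSplitData D) {p : ℕ} [CharP K p] (hp : p.Prime)
    (hperf : commutator (D.SteinbergCover K) = ⊤) {L : Type*} [Field L] [CharP L p] {n : ℕ}
    (σ : D.SteinbergCover K →* GL (Fin n) L ⧸ Subgroup.center (GL (Fin n) L)) :
    ∃ ψ : D.SteinbergCover K →* GL (Fin n) L, (QuotientGroup.mk' (Subgroup.center (GL (Fin n) L))).comp ψ = σ := by
  classical
  let Lb := AlgebraicClosure L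
  have hinj : Function.Injective (algebraMap L Lb) := (algebraMap L Lb).injective
  have : CharP Lb p := charP_of_injective_ringHom hinj p
  have : Fact p.Prime := ⟨hp⟩
  have : ExpChar Lb p := ExpChar.prime hp
  let ι : GL (Fin n) L →* GL (Fin n) Lb := Matrix.GeneralLinearGroup.map (algebraMap L Lb)
  have hι : Function.Injective ι := fun a b h => Units.ext (Matrix.ext fun i j => hinj (by
    have := congrArg (fun g : GL (Fin n) Lb => (g : Matrix (Fin n) (Fin n) Lb) i j) h
    simpa [ι] using this))
  have hcen : Subgroup.center (GL (Fin n) L) ≤ (Subgroup.center (GL (Fin n) Lb)).comap ι := by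
    intro g hg
    rw [Matrix.GeneralLinearGroup.center_eq_range_scalar] at hg
    obtain ⟨a, rfl⟩ := hg
    rw [Subgroup.mem_comap, Matrix.GeneralLinearGroup.center_eq_range_scalar]
    exact ⟨_, (Matrix.GeneralLinearGroup.map_scalar _ a).symm⟩
  let π := QuotientGroup.mk' (Subgroup.center (GL (Fin n) Lb))
  have hker : π.ker = Subgroup.center (GL (Fin n) Lb) := QuotientGroup.ker_mk' _
  let j := QuotientGroup.map _ _ ι hcen
  obtain ⟨τ, hτ⟩ := exists_lift_charP hD hS hp.pos π (QuotientGroup.mk'_surjective _) hker.le (fun z hz => by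
    rw [hker, Matrix.GeneralLinearGroup.center_eq_range_scalar] at hz
    obtain ⟨a, rfl⟩ := hz
    obtain ⟨w, hw⟩ := IsAlgClosed.exists_pow_nat_eq (a : Lb) hp.pos
    have hw0 : w ≠ 0 := fun h => a.ne_zero (by rw [← hw, h, zero_pow hp.pos.ne'])
    refine ⟨Matrix.GeneralLinearGroup.scalar (Fin n) (Units.mk0 w hw0), ?_, ?_⟩
    · rw [hker, Matrix.GeneralLinearGroup.center_eq_range_scalar]
      exact ⟨_, rfl⟩
    · rw [← map_pow]
      congr 1
      exact Units.ext hw) (fun z hz hzp => by
    rw [hker, Matrix.GeneralLinearGroup.center_eq_range_scalar] at hz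
    obtain ⟨a, rfl⟩ := hz
    refine Units.ext (Matrix.ext fun i k => ?_)
    have h := congrArg (fun g : GL (Fin n) Lb => (g : Matrix (Fin n) (Fin n) Lb) i i) hzp
    simp [← map_pow, Matrix.GeneralLinearGroup.scalar] at h
    have ha : (a : Lb) = 1 := frobenius_inj Lb p (by simpa [frobenius_def] using h)
    simp [Matrix.GeneralLinearGroup.scalar, ha]) (j.comp σ)
  -- the values lie in the group over L, the group being perfect
  choose A hA using fun g => QuotientGroup.mk'_surjective (Subgroup.center (GL (Fin n) L)) (σ g)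
  have hAτ : ∀ g, π (τ g) = π (ι (A g)) := fun g => by
    have h := DFunLike.congr_fun hτ g
    rw [MonoidHom.comp_apply, MonoidHom.comp_apply, ← hA g] at h
    exact h
  have hrange : ∀ g, τ g ∈ ι.range := by
    intro g
    have hle : commutator (D.SteinbergCover K) ≤ ι.range.comap τ := by
      rw [commutator_def, Subgroup.commutator_le]
      intro a _ b _
      refine ⟨⁅A a, A b⁆, ?_⟩
      rw [map_commutatorElement, map_commutatorElement]
      exact Schur.commutator_congr hker.le (hAτ a).symm (hAτ b).symm
    rw [hperf] at hle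
    exact hle (Subgroup.mem_top g)
  choose ψ hψ using hrange
  refine ⟨MonoidHom.mk' ψ fun a b => hι (by rw [map_mul, hψ, hψ, hψ, map_mul]), MonoidHom.ext fun g => ?_⟩
  rw [MonoidHom.comp_apply, MonoidHom.mk'_apply, ← hA g]
  have h := hAτ g
  rw [← hψ g] at h
  have h' : (ι (ψ g))⁻¹ * ι (A g) ∈ Subgroup.center (GL (Fin n) Lb) := QuotientGroup.eq.1 h
  refine (QuotientGroup.eq.2 (Subgroup.mem_center_iff.2 fun y => hι ?_) :)
  have := Subgroup.mem_center_iff.1 h' (ι y)
  simpa using this

end Cfsg.Agent.Chev
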