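/-
Type E6 and E7 data sit inside the E8 datum as subsystems with the same structure constants, so the groups of
Steinberg's presentation map to the E8 group.
-/
import Cfsg.Agent.Lib.Chev.Elements
import Cfsg.Agent.Lib.Chev.CheckE6
import Cfsg.Agent.Lib.Chev.CheckE7
import Cfsg.Agent.Lib.Chev.CheckE8

set_option autoImplicit false

namespace Cfsg.Agent.Chev

open Cfsg.Lie

/-- The root map of E7 into E8, packed. -/
def embE7 : ℕ := 2430810997004866598444401240238742686892022899567541319682954425287167460260763023210395046641608905787741593400045937092517025071470630088513929100882265937055017271469174884988986077504446333275414838194854552575824525579080592657593264928194488327118387149962421491912665312065144265886464730302321677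

/-- The root map of E6 into E8, packed. -/
def embE6 : ℕ := 197826344582926165870947970743180924148311991970668180805546008227381352219946377108106560900955329900548830782003492134775948981394880634343157650874801381242681034812894499

/-- The check that a root map respects negatives, simple roots and chains. -/
noncomputable def chkEmb (c c' : Cert) (mP : ℕ) : Bool :=
  allLt c.rank (fun i => Nat.blt i c'.rank && Nat.beq (byteAt mP (c.p i)) (c'.p i)) &&
  allLt c.nroots (fun r =>
    Nat.blt (byteAt mP r) c'.nroots && Nat.beq (byteAt mP (c.ng r)) (c'.ng (byteAt mP r)) &&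
    allLt c.nroots (fun s => (Nat.beq s r || !(Nat.beq (byteAt mP r) (byteAt mP s))) &&
      beqL termBeq (c'.ent (byteAt mP r) (byteAt mP s))
        ((c.ent r s).map fun q => (byteAt mP q.1, q.2))))

theorem chkEmb_E7 : chkEmb E7.cert E8.cert embE7 = true := by decide +kernel

theorem chkEmb_E6 : chkEmb E6.cert E8.cert embE6 = true := by decide +kernel

/-- A root map respecting the tables. -/
structure RootEmb (E D : ChevalleyDatum) where
  /-- the map -/
  m : ℕ → ℕ
  lt : ∀ r < E.nroots, m r < D.nroots
  inj : ∀ r < E.nroots, ∀ s < E.nroots, m r = m s → r = s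
  map_neg : ∀ r < E.nroots, m (E.neg r) = D.neg (m r)
  rank_le : E.rank ≤ D.rank
  map_simple : ∀ i < E.rank, m (E.simple i) = D.simple i
  map_comm : ∀ r < E.nroots, ∀ s < E.nroots,
    D.commTerms (m r) (m s) = (E.commTerms r s).map fun x => (m x.1, x.2)

theorem exists_rootEmb {E D : ChevalleyDatum} {c c' : Cert} (hV : Valid E c) (hV' : Valid D c') {mP : ℕ}
    (h : chkEmb c c' mP = true) : Nonempty (RootEmb E D) := by
  simp only [chkEmb, Bool.and_eq_true, allLt_iff, Nat.blt_eq, Nat.beq_eq, Bool.or_eq_true, hV.rank_eq,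
    hV.nroots_eq, hV'.nroots_eq, hV'.rank_eq] at h
  obtain ⟨h1, h2⟩ := h
  have hlt : ∀ r < E.nroots, byteAt mP r < D.nroots := fun r hr => (h2 r hr).1.1
  have hent : ∀ r < E.nroots, ∀ s < E.nroots,
      c'.ent (byteAt mP r) (byteAt mP s) = (c.ent r s).map fun q => (byteAt mP q.1, q.2) := fun r hr s hs =>
    eq_of_beqL (fun a b h => by
      simp only [termBeq, Bool.and_eq_true, Nat.beq_eq, intBeq_iff] at h
      exact Prod.ext h.1 h.2) ((h2 r hr).2 s hs).2
  have hR : ∀ r < E.nroots, ∀ s < E.nroots, ∀ i,
      c'.cRoot (byteAt mP r) (byteAt mP s) i = (c.cRoot r s i).map (byteAt mP) ∧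
        c'.cM (byteAt mP r) (byteAt mP s) i = c.cM r s i := by
    intro r hr s hs i
    simp [Cert.cRoot, Cert.cM, hent r hr s hs, List.getElem?_map, Function.comp_def]
  have hk : ∀ {r s i k : ℕ}, r < E.nroots → c.cRoot r s i = some k → k < E.nroots := by
    intro r s i k hr hk
    simp only [Cert.cRoot, Option.map_eq_some_iff] at hk
    obtain ⟨q, hq, rfl⟩ := hk
    exact hV.ent_lt hr (List.mem_of_getElem? hq)
  refine ⟨⟨byteAt mP, hlt, fun r hr s hs e => ?_, fun r hr => ?_, ?_, fun i hi => ?_, fun r hr s hs => ?_⟩⟩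
  · rcases ((h2 r hr).2 s hs).1 with h | h
    · exact h.symm
    · simp [e] at h
  · rw [hV.ng_eq hr, hV'.ng_eq (hlt r hr)]
    exact (h2 r hr).1.2
  · rcases Nat.eq_zero_or_pos E.rank with h0 | h0
    · omega
    · have := (h1 (E.rank - 1) (by omega)).1
      omega
  · rw [hV.p_eq hi, hV'.p_eq (h1 i hi).1]
    exact (h1 i hi).2
  · rw [hV'.comm_eq (hlt r hr) (hlt s hs), hV.comm_eq hr hs]
    simp only [Cert.comm, hR r hr s hs, hR s hs r hr, List.map_filterMap]
    rcases h31 : c.cRoot r s 3 with _ | a <;> rcases h13 : c.cRoot s r 3 with _ | b <;>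
      rcases h11 : c.cRoot r s 1 with _ | d <;>
      simp [List.filterMap_cons, (fun a (h : a < E.nroots) => (hR a h s hs 1).1),
        (fun a (h : a < E.nroots) => (hR a h r hr 1).1),
        (fun a (h : a < E.nroots) => (hR a h r hr 2).2),
        (fun a (h : a < E.nroots) => (hR a h s hs 2).2),
        hk hr (i := 3) (s := s), hk hs (i := 3) (s := r), hk hr (i := 1) (s := s), h31, h13, h11,
        List.filterMap_nil] <;>
      rfl

theorem rootEmb_E7 : Nonempty (RootEmb chevE7 chevE8) := exists_rootEmb E7.valid E8.valid chkEmb_E7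

theorem rootEmb_E6 : Nonempty (RootEmb chevE6 chevE8) := exists_rootEmb E6.valid E8.valid chkEmb_E6

variable {F : Type*} [Field F] {E D : ChevalleyDatum}

/-- The map of the presented group of `E` into the group of `D`. -/
theorem exists_emb_hom (hE : Good E) (hD : Good D) (e : RootEmb E D) :
    ∃ ψ : E.SteinbergGroup F →* GL D.Idx F, ∀ i < E.rank, ∀ t : F,
      ψ (PresentedGroup.mk (E.steinbergRels F) (E.stH (E.simple i) t)) = hG D F (D.simple i) t := by
  let f : Fin E.nroots × F → GL D.Idx F := fun p => xg D F (e.m p.1.val) p.2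
  have hW : ∀ w : List (ℕ × F), (∀ p ∈ w, p.1 < E.nroots) →
      FreeGroup.lift f (E.stWord w) = wordG D F (w.map fun p => (e.m p.1, p.2)) := by
    intro w hw
    rw [ChevalleyDatum.stWord, map_list_prod, wordG, List.map_map, List.map_map]
    refine congrArg List.prod (List.map_congr_left fun p hp => ?_)
    simp [ChevalleyDatum.stX, hw p hp, f]
  have hX : ∀ r < E.nroots, ∀ t, FreeGroup.lift f (E.stX r t) = xg D F (e.m r) t := by
    intro r hr t
    simp [ChevalleyDatum.stX, hr, f]
  have hH : ∀ r < E.nroots, ∀ t, FreeGroup.lift f (E.stH r t) = hG D F (e.m r) t := by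
    intro r hr t
    rw [ChevalleyDatum.stH, hW _ (by simp [ChevalleyDatum.hWord, ChevalleyDatum.nWord, hr, hE.neg_lt hr])]
    simp [hG, ChevalleyDatum.hWord, ChevalleyDatum.nWord, e.map_neg r hr]
  have hrels : ∀ g ∈ E.steinbergRels F, FreeGroup.lift f g = 1 := by
    intro g hg
    rcases hg with (⟨r, t₁, t₂, hr, rfl⟩ | ⟨r, s, t, u, hr, hs, h1, h2, rfl⟩) | ⟨r, t₁, t₂, hr, h1, h2, rfl⟩
    · simp only [map_mul, map_inv, hX r hr, hD.xg_add, mul_inv_cancel]
    · have hw : ∀ p ∈ E.commWord F r s t u, p.1 < E.nroots := by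
        intro p hp
        obtain ⟨x, hx, rfl⟩ := List.mem_map.1 hp
        exact hE.commTerms_lt hr hs hx
      have he : (E.commWord F r s t u).map (fun p => (e.m p.1, p.2)) = D.commWord F (e.m r) (e.m s) t u := by
        simp only [ChevalleyDatum.commWord, e.map_comm r hr s hs, List.map_map]
        rfl
      simp only [map_mul, map_inv, hX r hr, hX s hs, hW _ hw, he]
      rw [hD.xg_commutator (e.lt r hr) (e.lt s hs) (fun h => h1 (e.inj s hs r hr h))
        (fun h => h2 (e.inj s hs _ (hE.neg_lt hr) (by rw [e.map_neg r hr]; exact h))), mul_inv_cancel]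
    · simp only [map_mul, map_inv, hH r hr, hD.hG_mul (e.lt r hr) h1 h2, mul_inv_cancel]
  refine ⟨PresentedGroup.toGroup hrels, fun i hi t => ?_⟩
  rw [← e.map_simple i hi, ← hH _ (hE.simple_lt hi) t]
  rfl

end Cfsg.Agent.Chev
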