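/-
In a model satisfying (R3) for the fundamental roots, the subgroup generated by the h_p(t) is the image of the
torus, and the kernel of the map to the Chevalley group is the image of the kernel of the torus map.
-/
import Cfsg.Agent.Lib.Chev.Steinberg.Center
import Cfsg.Agent.Lib.Chev.TorusOrder

set_option autoImplicit false

namespace Cfsg.Agent.Chev

open Cfsg.Lie

variable {D : ChevalleyDatum} {F : Type*} [Field F] {M : Type*} [Group M]

namespace StModel

variable (S : StModel D F M)

/-- (R3) for the fundamental roots. -/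
def MulRel : Prop :=
  ∀ i < D.rank, ∀ t u : F, t ≠ 0 → u ≠ 0 → S.h (D.simple i) t * S.h (D.simple i) u = S.h (D.simple i) (t * u)

/-- The one-parameter subgroup of a fundamental root. -/
def hHom (hm : S.MulRel) (i : Fin D.rank) : Fˣ →* M :=
  MonoidHom.mk' (fun t => S.h (D.simple i.val) t) fun t u => by
    rw [Units.val_mul, hm i.val i.2 _ _ t.ne_zero u.ne_zero]

@[simp] theorem hHom_apply (hm : S.MulRel) (i : Fin D.rank) (t : Fˣ) :
    S.hHom hm i t = S.h (D.simple i.val) t := rfl

variable (hD : Good D) {tabs simps : List ℕ} (hf : BNSetup.Facts D tabs simps) (hst : StData D)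
include hD hf hst

theorem h_conj_h {i j : ℕ} (hi : i < D.rank) (hj : j < D.rank) {t u : F} (ht : t ≠ 0) :
    S.h (D.simple i) t * S.h (D.simple j) u * (S.h (D.simple i) t)⁻¹ =
      S.h (D.simple j) (t ^ D.cartan i (D.simple j) * u) *
        (S.h (D.simple j) (t ^ D.cartan i (D.simple j)))⁻¹ := by
  rw [show S.h (D.simple j) u = S.n (D.simple j) u * S.n (D.simple j) (-1) from rfl, ← conj_mul,
    S.h_conj_n hD hf hst hj hi ht, S.h_conj_n hD hf hst hj hi ht, h, h, mul_inv_rev,
    S.n_inv hD (hD.simple_lt hj) (-1), neg_neg, mul_neg, mul_one,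
    S.n_inv hD (hD.simple_lt hj) (t ^ D.cartan i (D.simple j)), ← S.n_inv hD (hD.simple_lt hj) 1]
  group

theorem hHom_commute (hm : S.MulRel) (i j : Fin D.rank) (t u : Fˣ) :
    Commute (S.hHom hm i t) (S.hHom hm j u) := by
  have hz : ((t : F) ^ D.cartan i.val (D.simple j.val)) ≠ 0 := zpow_ne_zero _ t.ne_zero
  have h1 := S.h_conj_h hD hf hst i.2 j.2 (u := (u : F)) t.ne_zero
  rw [mul_comm ((t : F) ^ _) (u : F), ← hm j.val j.2 _ _ u.ne_zero hz, mul_inv_cancel_right,
    mul_inv_eq_iff_eq_mul] at h1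
  exact h1

/-- The torus mapped into the model. -/
noncomputable def tau (hm : S.MulRel) : (Fin D.rank → Fˣ) →* M :=
  MonoidHom.noncommPiCoprod (S.hHom hm) fun _ _ _ => S.hHom_commute hD hf hst hm _ _

theorem tau_single (hm : S.MulRel) (i : Fin D.rank) (t : Fˣ) :
    S.tau hD hf hst hm (Pi.mulSingle i t) = S.h (D.simple i.val) t := by
  exact MonoidHom.noncommPiCoprod_mulSingle (ϕ := S.hHom hm)
    (hcomm := fun i j _ => S.hHom_commute hD hf hst hm i j) i t

theorem theta_tau (hm : S.MulRel) (c : Fin D.rank → Fˣ) :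
    S.θ (S.tau hD hf hst hm c) = BNSetup.torusHom F D c := by
  refine congrFun (congrArg DFunLike.coe (MonoidHom.pi_ext (f := S.θ.comp (S.tau hD hf hst hm))
    (g := BNSetup.torusHom F D) fun i t => ?_)) c
  rw [MonoidHom.comp_apply, S.tau_single hD hf hst hm, BNSetup.torusHom_single hD, S.map_h hD (hD.simple_lt i.2)]
  exact Units.ext ((hD.coe_hG _ _).trans (BNSetup.coe_he hD _ _).symm)

theorem Hbar_eq_range (hm : S.MulRel) : S.Hbar = (S.tau hD hf hst hm).range := by
  refine le_antisymm ?_ ?_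
  · rw [Hbar, Subgroup.closure_le]
    rintro g ⟨i, t, hi, ht, rfl⟩
    exact ⟨Pi.mulSingle ⟨i, hi⟩ (Units.mk0 t ht), S.tau_single hD hf hst hm _ _⟩
  · rintro _ ⟨c, rfl⟩
    rw [← Finset.univ_prod_mulSingle c]
    refine Finset.prod_induction _ (fun x => S.tau hD hf hst hm x ∈ S.Hbar) (fun a b ha hb => ?_) ?_
      fun i _ => ?_
    · simp only [map_mul]; exact Subgroup.mul_mem _ ha hb
    · simp only [map_one]; exact Subgroup.one_mem _
    · show S.tau hD hf hst hm _ ∈ _
      rw [S.tau_single hD hf hst hm]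
      exact S.h_mem_Hbar i.2 (c i).ne_zero

/-- The kernel is the image of the kernel of the torus map. -/
theorem ker_eq_map (hm : S.MulRel)
    (hgen : Subgroup.closure {g | ∃ r, r < D.nroots ∧ ∃ t : F, g = S.x r t} = ⊤) :
    S.θ.ker = (BNSetup.torusHom F D).ker.map (S.tau hD hf hst hm) := by
  refine le_antisymm (fun g hg => ?_) ?_
  · obtain ⟨c, rfl⟩ := (S.Hbar_eq_range hD hf hst hm).le (S.ker_le_Hbar hD hf hst hgen hg)
    refine ⟨c, ?_, rfl⟩
    rw [SetLike.mem_coe, MonoidHom.mem_ker, ← S.theta_tau hD hf hst hm]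
    exact hg
  · rintro _ ⟨c, hc, rfl⟩
    rw [MonoidHom.mem_ker, S.theta_tau hD hf hst hm]
    exact hc

end StModel

end Cfsg.Agent.Chev
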