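/-
Over a finite field the relations (R3) follow from (R1), (R2) when the kernel to the Chevalley group is central.
-/
import Cfsg.Agent.Lib.Chev.Steinberg.TorusLift

set_option autoImplicit false

namespace Cfsg.Agent.Chev

open Cfsg.Lie

variable {D : ChevalleyDatum} {F : Type*} [Field F] {M : Type*} [Group M]

namespace StModel

variable (S : StModel D F M) (hD : Good D) {tabs simps : List ℕ} (hf : BNSetup.Facts D tabs simps)
  (hst : StData D)
include hD

theorem h_one {r : ℕ} (hr : r < D.nroots) : S.h r 1 = 1 := by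
  rw [h, ← S.n_inv hD hr 1, mul_inv_cancel]

include hf hst

/-- The symbol vanishes on pairs with sum one. -/
theorem h_mul_of_add_eq_one {i : ℕ} (hi : i < D.rank) {t s : F} (ht : t ≠ 0) (hs : s ≠ 0) (hts : t + s = 1) :
    S.h (D.simple i) t * S.h (D.simple i) s = S.h (D.simple i) (t * s) := by
  have hp := hD.simple_lt hi
  have hwp := (hf.2.2.2.2.1 i hi).2.2.2.2
  have hwn : D.reflectRoot i (D.neg (D.simple i)) = D.simple i := by
    rw [hD.reflectRoot_neg hi hp, hwp, hD.neg_neg hp]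
  set p := D.simple i with hpdef
  set q := D.neg p with hqdef
  have c1 : ∀ a v : F, a ≠ 0 → S.n p a * S.x p v * (S.n p a)⁻¹ = S.x q (-((a ^ 2)⁻¹ * v)) := fun a v ha => by
    have h := S.n_conj_eq hD hf hst hi hp ha (u := v) (v := -((a ^ 2)⁻¹ * v))
      (by rw [hwp]; exact (hD.nG_conj_self hf hi ha v).1)
    rwa [hwp] at h
  have c2 : ∀ a v : F, a ≠ 0 → S.n p a * S.x q v * (S.n p a)⁻¹ = S.x p (-(a ^ 2 * v)) := fun a v ha => by
    have h := S.n_conj_eq hD hf hst hi (hD.neg_lt hp) ha (u := v) (v := -(a ^ 2 * v))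
      (by rw [hwn]; exact (hD.nG_conj_self hf hi ha v).2)
    rwa [hwn] at h
  have e1 : S.n p (-1) = S.x q 1 * S.x p (-1) * S.x q 1 := by
    calc S.n p (-1) = S.n p (-1) * S.n p (-1) * (S.n p (-1))⁻¹ := by group
      _ = (S.n p (-1) * S.x p (-1) * (S.n p (-1))⁻¹) * (S.n p (-1) * S.x q (-(-1)⁻¹) * (S.n p (-1))⁻¹) *
          (S.n p (-1) * S.x p (-1) * (S.n p (-1))⁻¹) := by rw [conj_mul, conj_mul]; rfl
      _ = _ := by
        rw [c1 _ _ (neg_ne_zero.2 one_ne_zero), c2 _ _ (neg_ne_zero.2 one_ne_zero)]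
        norm_num
  have e2 : S.n p t * S.x q 1 = S.x p (-(t ^ 2)) * S.n p t := by
    have h := c2 t 1 ht
    rw [mul_one] at h
    rw [← h]; group
  have e3 : S.x q 1 * S.n p s = S.n p s * S.x p (-(s ^ 2)) := by
    have h := c2 (-s) 1 (neg_ne_zero.2 hs)
    rw [mul_one, neg_sq, ← S.n_inv hD hp, inv_inv] at h
    rw [← h]; group
  have key : S.n p t * S.n p (-1) * S.n p s = S.n p (t * s) := by
    rw [e1, show S.n p t * (S.x q 1 * S.x p (-1) * S.x q 1) * S.n p s =
      (S.n p t * S.x q 1) * S.x p (-1) * (S.x q 1 * S.n p s) by group, e2, e3, n, n, n]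
    rw [show S.x p (-(t ^ 2)) * (S.x p t * S.x (D.neg p) (-t⁻¹) * S.x p t) * S.x p (-1) *
        (S.x p s * S.x (D.neg p) (-s⁻¹) * S.x p s * S.x p (-(s ^ 2))) =
      (S.x p (-(t ^ 2)) * S.x p t) * S.x (D.neg p) (-t⁻¹) * (S.x p t * S.x p (-1) * S.x p s) *
        S.x (D.neg p) (-s⁻¹) * (S.x p s * S.x p (-(s ^ 2))) by group,
      S.add p hp, S.add p hp, S.add p hp, S.add p hp, show t + -1 + s = 0 by linear_combination hts,
      S.x_zero hp, mul_one, mul_assoc _ (S.x (D.neg p) _) (S.x (D.neg p) _), S.add _ (hD.neg_lt hp),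
      show -(t ^ 2) + t = t * s by linear_combination (-t) * hts,
      show s + -(s ^ 2) = t * s by linear_combination (-s) * hts,
      show -t⁻¹ + -s⁻¹ = -(t * s)⁻¹ by
        field_simp
        linear_combination -hts]
  rw [h, h, h, ← key]
  simp only [mul_assoc]

variable [Finite F]

theorem h_commute (hker : S.θ.ker ≤ Subgroup.center M) {i : ℕ} (hi : i < D.rank) {t u : F} (ht : t ≠ 0)
    (hu : u ≠ 0) : Commute (S.h (D.simple i) t) (S.h (D.simple i) u) := by
  have hp := hD.simple_lt hi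
  let f : Fˣ →* GL D.Idx F := MonoidHom.mk' (fun a => hG D F (D.simple i) a) fun a b => by
    rw [Units.val_mul, hD.hG_mul hp a.ne_zero b.ne_zero]
  obtain ⟨g, hg⟩ := IsCyclic.exists_generator (α := Fˣ)
  have key : ∀ a : F, a ≠ 0 → ∃ k : ℤ, ∃ z ∈ Subgroup.center M,
      S.h (D.simple i) a = z * S.h (D.simple i) g ^ k := by
    intro a ha
    obtain ⟨k, hk⟩ := hg (Units.mk0 a ha)
    refine ⟨k, S.h (D.simple i) a * (S.h (D.simple i) g ^ k)⁻¹, hker ?_, (inv_mul_cancel_right _ _).symm⟩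
    rw [MonoidHom.mem_ker, map_mul, map_inv, map_zpow, S.map_h hD hp, S.map_h hD hp, mul_inv_eq_one]
    show f (Units.mk0 a ha) = f g ^ k
    rw [← map_zpow]
    exact congrArg f hk.symm
  obtain ⟨k, z, hz, e⟩ := key t ht
  obtain ⟨l, z', hz', e'⟩ := key u hu
  have hzc : ∀ w : M, Commute z w := fun w => (Subgroup.mem_center_iff.1 hz w).symm
  have hzc' : ∀ w : M, Commute z' w := fun w => (Subgroup.mem_center_iff.1 hz' w).symm
  rw [e, e']
  exact ((hzc _).mul_left ((hzc' _).symm.mul_right (Commute.zpow_zpow_self _ k l)))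

theorem h_mul_square (hker : S.θ.ker ≤ Subgroup.center M) {i : ℕ} (hi : i < D.rank) {a u : F} (ha : a ≠ 0)
    (hu : u ≠ 0) :
    S.h (D.simple i) u * S.h (D.simple i) (a ^ 2) = S.h (D.simple i) (u * a ^ 2) := by
  have h1 := S.h_conj_h hD hf hst hi hi (u := u) ha
  rw [(S.h_commute hD hf hst hker hi ha hu).eq, mul_inv_cancel_right, hD.cartan_simple hi, zpow_two, ← sq,
    eq_mul_inv_iff_mul_eq] at h1
  rw [h1, mul_comm]

/-- Over a finite field (R3) holds for the fundamental roots. -/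
theorem mulRel_of_finite (hker : S.θ.ker ≤ Subgroup.center M) : S.MulRel := by
  classical
  have := Fintype.ofFinite F
  intro i hi t u ht hu
  have sq_case : ∀ {x y : F}, x ≠ 0 → y ≠ 0 → IsSquare y →
      S.h (D.simple i) x * S.h (D.simple i) y = S.h (D.simple i) (x * y) := by
    rintro x y hx hy ⟨a, rfl⟩
    have := S.h_mul_square hD hf hst hker hi (left_ne_zero_of_mul hy) hx
    rwa [sq] at this
  by_cases hsu : IsSquare u
  · exact sq_case ht hu hsu
  by_cases hst' : IsSquare t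
  · rw [(S.h_commute hD hf hst hker hi ht hu).eq, sq_case hu ht hst', mul_comm]
  have hchar : ringChar F ≠ 2 := fun h => hsu (FiniteField.isSquare_of_char_two h u)
  obtain ⟨x, y, hxy⟩ : ∃ x y : F, x ^ 2 + y ^ 2 = t⁻¹ := by
    obtain ⟨x, y, h⟩ := FiniteField.exists_root_sum_quadratic (f := Polynomial.X ^ 2)
      (g := Polynomial.X ^ 2 - Polynomial.C t⁻¹) (Polynomial.degree_X_pow 2)
      (Polynomial.degree_X_pow_sub_C (by decide) _) (FiniteField.odd_card_of_char_ne_two hchar)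
    refine ⟨x, y, ?_⟩
    rw [← sub_eq_zero]
    simpa [← add_sub_assoc] using h
  have hx : x ≠ 0 := by
    rintro rfl
    exact hst' ⟨y⁻¹, by rw [← mul_inv, ← inv_inv t, ← hxy]; ring_nf⟩
  have hy : y ≠ 0 := by
    rintro rfl
    exact hst' ⟨x⁻¹, by rw [← mul_inv, ← inv_inv t, ← hxy]; ring_nf⟩
  have hq : quadraticChar F (u / (t * y ^ 2)) = 1 := by
    have h1 : quadraticChar F u = -1 := quadraticChar_neg_one_iff_not_isSquare.2 hsu
    have h2 : quadraticChar F (t * y ^ 2) = -1 := by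
      rw [map_mul, quadraticChar_sq_one' hy, mul_one, quadraticChar_neg_one_iff_not_isSquare]
      exact hst'
    have hne : t * y ^ 2 ≠ 0 := mul_ne_zero ht (pow_ne_zero 2 hy)
    have h3 : quadraticChar F (u / (t * y ^ 2)) * quadraticChar F (t * y ^ 2) = quadraticChar F u := by
      rw [← map_mul, div_mul_cancel₀ _ hne]
    rw [h1, h2] at h3
    linarith
  obtain ⟨v, hv⟩ := (quadraticChar_one_iff_isSquare (div_ne_zero hu (mul_ne_zero ht (pow_ne_zero 2 hy)))).1 hq
  set a := t * x ^ 2 with ha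
  set b := t * y ^ 2 with hb
  have hab : a + b = 1 := by rw [ha, hb, ← mul_add, hxy, mul_inv_cancel₀ ht]
  have ha0 : a ≠ 0 := mul_ne_zero ht (pow_ne_zero 2 hx)
  have hb0 : b ≠ 0 := mul_ne_zero ht (pow_ne_zero 2 hy)
  have hu' : u = b * (v * v) := by rw [← hv, mul_div_cancel₀ _ hb0]
  have hv0 : v ≠ 0 := fun h => hu (by rw [hu', h, mul_zero, mul_zero])
  have ht' : t = a * (x⁻¹ * x⁻¹) := by rw [ha]; field_simp
  have hxx : (x⁻¹ * x⁻¹ : F) ≠ 0 := mul_ne_zero (inv_ne_zero hx) (inv_ne_zero hx)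
  have hvv : v * v ≠ 0 := mul_ne_zero hv0 hv0
  rw [ht', hu', ← sq_case ha0 hxx ⟨_, rfl⟩, ← sq_case hb0 hvv ⟨_, rfl⟩,
    show S.h (D.simple i) a * S.h (D.simple i) (x⁻¹ * x⁻¹) * (S.h (D.simple i) b * S.h (D.simple i) (v * v)) =
      S.h (D.simple i) a * (S.h (D.simple i) (x⁻¹ * x⁻¹) * S.h (D.simple i) b) * S.h (D.simple i) (v * v) by group,
    (S.h_commute hD hf hst hker hi hxx hb0).eq, ← mul_assoc (S.h (D.simple i) a), S.h_mul_of_add_eq_one hD hf hst hi ha0 hb0 hab,
    sq_case (mul_ne_zero ha0 hb0) hxx ⟨_, rfl⟩, sq_case (mul_ne_zero (mul_ne_zero ha0 hb0) hxx) hvv ⟨_, rfl⟩]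
  congr 1
  ring

omit [Finite F] in
/-- (R3) for all roots from (R3) for the fundamental ones. -/
theorem h_mul_all (hm : S.MulRel) {r : ℕ} (hr : r < D.nroots) :
    ∀ t u : F, t ≠ 0 → u ≠ 0 → S.h r t * S.h r u = S.h r (t * u) := by
  refine hD.root_induction (P := fun r => ∀ t u : F, t ≠ 0 → u ≠ 0 → S.h r t * S.h r u = S.h r (t * u)) hm
    (fun i hi r hr ih => ?_) hr
  obtain ⟨η, hη, hx⟩ := S.n_one_conj hD hf hst hi
  have hwr := hD.reflectRoot_lt hi hr
  set g := S.n (D.simple i) 1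
  set w := D.reflectRoot i r
  have hn : ∀ c : F, g * S.n r c * g⁻¹ = S.n w (η r * c) := fun c => by
    rw [show S.n r c = S.x r c * S.x (D.neg r) (-c⁻¹) * S.x r c from rfl, ← conj_mul, ← conj_mul, hx r hr,
      hx _ (hD.neg_lt hr), hD.reflectRoot_neg hi hr, (hη r hr).2, n, mul_inv,
      inv_eq_of_mul_eq_one_right (hη r hr).1, mul_neg]
  set φ : F → M := fun t => g * S.h r t * g⁻¹ with hφdef
  have hφ : ∀ a b : F, a ≠ 0 → b ≠ 0 → φ a * φ b = φ (a * b) := fun a b ha hb => by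
    show g * S.h r a * g⁻¹ * (g * S.h r b * g⁻¹) = g * S.h r (a * b) * g⁻¹
    rw [conj_mul, ih a b ha hb]
  have hφh : ∀ t : F, φ t = S.h w (η r * t) * (S.h w (η r))⁻¹ := fun t => by
    show g * (S.n r t * S.n r (-1)) * g⁻¹ = _
    rw [← conj_mul, hn, hn, h, h, mul_inv_rev, S.n_inv hD hwr (-1), neg_neg, mul_neg, mul_one,
      S.n_inv hD hwr (η r), ← S.n_inv hD hwr 1]
    group
  have hsign : η r = 1 ∨ η r = -1 := mul_self_eq_one_iff.1 (hη r hr).1
  have key : ∀ t : F, t ≠ 0 → S.h w t = φ t := by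
    intro t ht
    rcases hsign with e | e
    · rw [hφh, e, one_mul, S.h_one hD hwr, inv_one, mul_one]
    · have h1 := hφh (-1)
      rw [e, neg_one_mul, neg_neg, S.h_one hD hwr, one_mul] at h1
      have h2 := hφh (-t)
      rw [e, neg_one_mul, neg_neg, ← h1] at h2
      have h3 := hφ t (-1) ht (neg_ne_zero.2 one_ne_zero)
      rw [mul_neg_one, h2] at h3
      exact (mul_right_cancel h3).symm
  intro t u ht hu
  rw [key t ht, key u hu, key _ (mul_ne_zero ht hu), hφ t u ht hu]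

end StModel

end Cfsg.Agent.Chev
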