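/-
Schur multipliers of finite Chevalley groups from the splitting of central extensions of the group of (R1), (R2).
-/
import Cfsg.Agent.Lib.Chev.Steinberg.Presented
import Cfsg.Agent.Lib.Chev.Steinberg.FiniteSymbol
import Cfsg.Agent.Lib.Chev.Steinberg.Embed
import Cfsg.Agent.Lib.Chev.TorusCert
import Cfsg.Agent.Lib.Schur.PerfectCover

set_option autoImplicit false

namespace Cfsg.Agent.Chev

open Cfsg.Lie
open scoped commutatorElement

universe u

/-- Central extensions of the group of (R1), (R2) split. -/
def SplitsCover (D : ChevalleyDatum) (K : Type u) [Field K] : Prop :=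
  ∀ (E G₁ : Type u) [Group E] [Group G₁] (π : E →* G₁), Function.Surjective π → π.ker ≤ Subgroup.center E →
    ∀ σ : D.SteinbergCover K →* G₁, ∃ τ : D.SteinbergCover K →* E, π.comp τ = σ

variable {D : ChevalleyDatum} {K : Type u} [Field K] [Fintype K]

/-- The multiplier is the kernel of the cover. -/
theorem hasCyclicSchurMultiplier_of_splits (hD : Good D) {tabs simps : List ℕ}
    (hf : BNSetup.Facts D tabs simps) (hst : StData D) (hperf : commutator (D.SteinbergCover K) = ⊤)
    (hsplit : SplitsCover D K) {n : ℕ}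
    (hker : ∀ (θ : D.SteinbergCover K →* GL D.Idx K) (hθ : ∀ r < D.nroots, ∀ t : K, θ (D.scGen K r t) = xg D K r t),
      IsCyclic θ.ker ∧ Nat.card θ.ker = n) :
    Cfsg.HasCyclicSchurMultiplier ↥(D.group K) n := by
  classical
  obtain ⟨θ, hs, hθ⟩ := hD.exists_cover_hom (F := K)
  let S := coverModel ((D.group K).subtype.comp θ) hθ
  have hgen := closure_scGen D K
  have hkc := S.ker_le_center hD hf hst hgen
  have hm := S.mulRel_of_finite hD hf hst hkc
  have e : θ.ker = S.θ.ker := by
    show θ.ker = ((D.group K).subtype.comp θ).ker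
    rw [MonoidHom.ker_comp_of_injective _ _ (Subgroup.subtype_injective _)]
  obtain ⟨hcyc, hcard⟩ := hker ((D.group K).subtype.comp θ) hθ
  change IsCyclic S.θ.ker at hcyc
  change Nat.card S.θ.ker = n at hcard
  rw [← e] at hcyc hcard
  have hfk : Finite θ.ker := by
    rw [e, S.ker_eq_map hD hf hst hm hgen]
    exact Set.Finite.to_subtype ((Set.toFinite _).image _)
  have hfin : Finite (D.SteinbergCover K) := by
    have : Finite (D.SteinbergCover K ⧸ θ.ker) := Finite.of_equiv _ (QuotientGroup.quotientKerEquivOfSurjective θ hs).toEquiv.symm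
    exact Finite.of_equiv _ (Subgroup.groupEquivQuotientProdSubgroup (s := θ.ker)).symm
  let ez : Multiplicative (ZMod n) ≃* θ.ker := hcard ▸ zmodCyclicMulEquiv hcyc
  have hθc : θ.ker ≤ Subgroup.center (D.SteinbergCover K) := e ▸ hkc
  refine ⟨⟨D.SteinbergCover K, inferInstance, hfin, θ, ⟨hs, hθc, by rw [hperf]; exact le_top⟩, ⟨ez.symm⟩⟩, ?_⟩
  intro Γ _ _ π hπ
  obtain ⟨τ, hτ⟩ := hsplit Γ ↥(D.group K) π hπ.1 hπ.2.1 θ
  have hτ' : ∀ x, π (τ x) = θ x := fun x => DFunLike.congr_fun hτ x
  have hsurj : Function.Surjective τ := by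
    intro γ
    obtain ⟨s, hs'⟩ := hs (π γ)
    have hle : commutator Γ ≤ τ.range := by
      rw [commutator_def, Subgroup.commutator_le]
      rintro a - b -
      obtain ⟨u, hu⟩ := hs (π a)
      obtain ⟨v, hv⟩ := hs (π b)
      exact ⟨⁅u, v⁆, (map_commutatorElement τ u v).trans
        (Schur.commutator_congr hπ.2.1 ((hτ' u).trans hu) ((hτ' v).trans hv))⟩
    have hker : (τ s)⁻¹ * γ ∈ π.ker := by
      rw [MonoidHom.mem_ker, map_mul, map_inv, hτ', hs', inv_mul_cancel]
    obtain ⟨t, ht⟩ := hle (hπ.2.2 hker)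
    exact ⟨s * t, by rw [map_mul, ht, mul_inv_cancel_left]⟩
  let g : θ.ker →* π.ker := (τ.comp θ.ker.subtype).codRestrict π.ker fun x => by
    rw [MonoidHom.mem_ker]
    exact (hτ' x).trans x.2
  refine ⟨g.comp ez.toMonoidHom, ?_⟩
  rintro ⟨k, hk⟩
  obtain ⟨s, rfl⟩ := hsurj k
  have hsk : s ∈ θ.ker := by rwa [MonoidHom.mem_ker, ← hτ', ← MonoidHom.mem_ker]
  exact ⟨ez.symm ⟨s, hsk⟩, Subtype.ext (by simp [g])⟩

/-- The kernel of the cover of a type embedded in E8. -/
theorem ker_cover_of_emb (hD : Good D) (hE : Good chevE8) {tabs simps : List ℕ} (hf : BNSetup.Facts D tabs simps)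
    (hst : StData D) (e : RootEmb D chevE8) {d k : ℕ} (hk : k ≤ 1) (C : BNSetup.KerCert D d k) (hC : C.Valid)
    (θ : D.SteinbergCover K →* GL D.Idx K) (hθ : ∀ r < D.nroots, ∀ t : K, θ (D.scGen K r t) = xg D K r t) :
    IsCyclic θ.ker ∧ Nat.card θ.ker = Nat.gcd d (Fintype.card K - 1) ^ k := by
  classical
  let S := coverModel θ hθ
  have hgen := closure_scGen D K
  have hm := S.mulRel_of_finite hD hf hst (S.ker_le_center hD hf hst hgen)
  obtain ⟨ψ, hψ⟩ := exists_emb_hom (F := K) hD hE e
  let ext : (Fin D.rank → Kˣ) →* (Fin chevE8.rank → Kˣ) :=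
    MonoidHom.mk' (fun c j => if h : j.val < D.rank then c ⟨j.val, h⟩ else 1) fun a b => by
      funext j
      simp only [Pi.mul_apply]
      split_ifs <;> simp
  have hH : ∀ r t, (coverToGroup D K) (S.h r t) = PresentedGroup.mk (D.steinbergRels K) (D.stH r t) := by
    intro r t
    simp [S, StModel.h, StModel.n, coverModel, coverToGroup_scGen, ChevalleyDatum.stH, ChevalleyDatum.stWord,
      ChevalleyDatum.hWord, ChevalleyDatum.nWord, ChevalleyDatum.stGen, map_mul, mul_assoc]
  have key : (ψ.comp (coverToGroup D K)).comp (S.tau hD hf hst hm) = (BNSetup.torusHom K chevE8).comp ext := by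
    refine MonoidHom.pi_ext fun i t => ?_
    rw [MonoidHom.comp_apply, MonoidHom.comp_apply, MonoidHom.comp_apply, S.tau_single hD hf hst hm]
    have hext : ext (Pi.mulSingle i t) = Pi.mulSingle ⟨i.val, i.2.trans_le e.rank_le⟩ t := by
      funext j
      show (if h : j.val < D.rank then (Pi.mulSingle i t : Fin D.rank → Kˣ) ⟨j.val, h⟩ else 1) = _
      by_cases hj : j.val = i.val
      · obtain rfl : j = ⟨i.val, i.2.trans_le e.rank_le⟩ := Fin.ext hj
        simp [i.2]
      · rw [Pi.mulSingle_eq_of_ne (fun h => hj (congrArg Fin.val h))]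
        split_ifs with h
        · rw [Pi.mulSingle_eq_of_ne]
          exact fun h' => hj (congrArg Fin.val h')
        · rfl
    rw [hext, BNSetup.torusHom_single hE, hH, hψ i.val i.2]
    exact Units.ext ((hE.coe_hG _ _).trans (BNSetup.coe_he hE _ _).symm)
  have hinj : Function.Injective (S.tau hD hf hst hm) := by
    rw [← MonoidHom.ker_eq_bot_iff, Subgroup.eq_bot_iff_forall]
    intro c hc
    have h8 : BNSetup.torusHom K chevE8 (ext c) = 1 := by
      have h := DFunLike.congr_fun key c
      rw [MonoidHom.comp_apply, MonoidHom.mem_ker.1 hc, map_one, MonoidHom.comp_apply] at h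
      exact h.symm
    obtain ⟨-, -, hQ, -⟩ := BNSetup.kerCertE8_valid
    funext i
    have hk : ext c = 1 := by
      funext j
      have h := BNSetup.prod_zpow_comb (ext c) (BNSetup.kerCertE8.Q j)
      simp only [hQ, Finset.univ_eq_empty, Finset.sum_empty, sub_zero, apply_ite, zpow_one, zpow_zero,
        Finset.prod_ite_eq', Finset.mem_univ, if_true] at h
      rw [← h]
      exact Finset.prod_eq_one fun k _ => by rw [(BNSetup.mem_ker_torusHom hE).1 h8 k, one_zpow]
    have := congrFun hk ⟨i.val, i.2.trans_le e.rank_le⟩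
    simpa [ext, i.2] using this
  have hmap := S.ker_eq_map hD hf hst hm hgen
  refine ⟨?_, ?_⟩
  · -- a kernel element is determined by its free coordinates
    show IsCyclic S.θ.ker
    rw [hmap]
    let T := (BNSetup.torusHom K D).ker
    have hTc : IsCyclic T := by
      have hC' := hC
      obtain ⟨-, -, hQ, -⟩ := hC'
      rcases Nat.le_one_iff_eq_zero_or_eq_one.1 hk with rfl | rfl
      · have : Subsingleton T := by
          rw [← Finite.card_le_one_iff_subsingleton]
          exact le_of_eq (by rw [BNSetup.card_ker_torusHom hD C hC, pow_zero])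
        exact isCyclic_of_subsingleton
      · let f : T →* Kˣ := MonoidHom.mk' (fun c => c.1 (C.pos 0)) fun a b => rfl
        refine isCyclic_of_injective_ringHom (R := K) ((Units.coeHom K).comp f) ?_
        rw [MonoidHom.coe_comp]
        refine Units.val_injective.comp ?_
        rw [← MonoidHom.ker_eq_bot_iff, Subgroup.eq_bot_iff_forall]
        intro c hc
        have hc0 : c.1 (C.pos 0) = 1 := hc
        apply Subtype.ext
        funext i
        have h := BNSetup.prod_zpow_comb c.1 (C.Q i)
        simp only [hQ, Fin.sum_univ_one] at h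
        rw [Finset.prod_eq_one fun j _ => by rw [(BNSetup.mem_ker_torusHom hD).1 c.2 j, one_zpow]] at h
        rw [Finset.prod_congr rfl (g := fun i' => if i' = i then c.1 i' else 1) fun i' _ => by
          clear h
          by_cases h1 : i' = C.pos 0
          · rw [h1, hc0, one_zpow, ite_self]
          · rw [if_neg h1, sub_zero]
            split_ifs <;> simp,
          Finset.prod_ite_eq', if_pos (Finset.mem_univ _)] at h
        exact h.symm
    exact isCyclic_of_surjective _ (Subgroup.equivMapOfInjective T _ hinj).surjective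
  · show Nat.card S.θ.ker = _
    rw [hmap, Subgroup.card_map_of_injective hinj, BNSetup.card_ker_torusHom hD C hC]

end Cfsg.Agent.Chev
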