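/-
The combinatorial conditions for splitting of central extensions, checked at the representatives and carried
to all roots by the fundamental reflections.
-/
import Cfsg.Agent.Lib.Chev.Steinberg.SimplyLaced
import Cfsg.Agent.Lib.Chev.CheckE6
import Cfsg.Agent.Lib.Chev.CheckE7
import Cfsg.Agent.Lib.Chev.CheckE8

set_option autoImplicit false

namespace Cfsg.Agent.Chev

open Cfsg.Lie

namespace Cert

variable (c : Cert)

/-- A pair with a single term of coefficient ±1 at `k`. -/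
noncomputable def stepB (r s k : ℕ) : Bool :=
  !(Nat.beq s r) && (!(Nat.beq s (c.ng r)) &&
    match c.comm r s with
    | [(k', C, 1, 1)] => Nat.beq k' k && intBeq (C * C) 1
    | _ => false)

/-- A pair with commuting root elements. -/
noncomputable def orthB (r s : ℕ) : Bool :=
  !(Nat.beq s r) && (!(Nat.beq s (c.ng r)) && (c.comm r s).isEmpty)

/-- The same root or commuting. -/
noncomputable def commB (s d : ℕ) : Bool := Nat.beq d s || c.orthB s d

/-- The ordered decompositions of `k`. -/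
noncomputable def decomps (k : ℕ) : List (ℕ × ℕ) :=
  (List.range c.nroots).flatMap fun d => ((c.keys d).filter fun e => c.stepB d e k).map fun e => (d, e)

/-- A triangle. -/
noncomputable def triB (a b d e : ℕ) : Bool :=
  c.orthB e b && (c.orthB d a && (c.keys e).any fun f => c.stepB e f a && c.stepB b f d)

/-- A move in either direction. -/
noncomputable def linkB (p q : ℕ × ℕ) : Bool :=
  (Nat.beq q.1 p.2 && Nat.beq q.2 p.1) || (c.triB p.1 p.2 q.1 q.2 || c.triB q.1 q.2 p.1 p.2)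

/-- One step of the search. -/
noncomputable def grow (L S : List (ℕ × ℕ)) : List (ℕ × ℕ) :=
  S ++ L.filter fun p => !(S.contains p) && S.any fun q => c.linkB q p

/-- The search from a pivot reaches every decomposition. -/
noncomputable def connB (k : ℕ) : Bool :=
  match (c.decomps k).find? (fun p => c.orthB k p.1 && (c.decomps k).any fun q => c.triB q.1 q.2 p.1 p.2) with
  | none => false
  | some p0 => (c.decomps k).all fun p =>
      ((List.range 6).foldl (fun S _ => c.grow (c.decomps k) S) [p0]).contains p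

/-- A decomposition of `r` commuting with `s`. -/
noncomputable def muB (r s : ℕ) : Bool :=
  (c.decomps r).any fun p => c.commB s p.1 && c.commB s p.2

/-- The check at the representatives. -/
noncomputable def chkSimply : Bool :=
  c.reps.all fun ρ => c.connB ρ.root && ρ.bases.all fun s =>
    (Nat.beq s ρ.root || Nat.beq s (c.ng ρ.root) || (c.orthB ρ.root s && c.muB ρ.root s)) ||
      (match c.comm ρ.root s with
       | [(_, C, 1, 1)] => intBeq (C * C) 1
       | _ => false)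

end Cert

variable {D : ChevalleyDatum} {c : Cert}

namespace Valid

variable (hV : Valid D c)
include hV

theorem rstep_of_stepB {r s k : ℕ} (hr : r < D.nroots) (hs : s < D.nroots) (h : c.stepB r s k = true) :
    ∃ C, RStep D r s k C := by
  simp only [Cert.stepB, Bool.and_eq_true, Bool.not_eq_true'] at h
  obtain ⟨h1, h2, h3⟩ := h
  split at h3
  · next k' C heq =>
    rw [Bool.and_eq_true, Nat.beq_eq, intBeq_iff] at h3
    obtain ⟨rfl, hC⟩ := h3
    refine ⟨C, hr, hs, hV.comm_lt hr hs (heq ▸ List.mem_cons_self), fun h => ?_, fun h => ?_, ?_, hC⟩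
    · simp [h] at h1
    · rw [hV.ng_eq hr] at h; simp [h] at h2
    · rw [hV.comm_eq hr hs, heq]
  · exact absurd h3 (by simp)

theorem rorth_of_orthB {r s : ℕ} (hr : r < D.nroots) (hs : s < D.nroots) (h : c.orthB r s = true) : ROrth D r s := by
  simp only [Cert.orthB, Bool.and_eq_true, Bool.not_eq_true', List.isEmpty_iff] at h
  obtain ⟨h1, h2, h3⟩ := h
  refine ⟨hr, hs, fun h => ?_, fun h => ?_, by rw [hV.comm_eq hr hs, h3]⟩
  · simp [h] at h1
  · rw [hV.ng_eq hr] at h; simp [h] at h2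

theorem rcomm_of_commB {r s : ℕ} (hr : r < D.nroots) (hs : s < D.nroots) (h : c.commB r s = true) : RComm D r s := by
  simp only [Cert.commB, Bool.or_eq_true, Nat.beq_eq] at h
  exact h.elim Or.inl fun h => Or.inr (hV.rorth_of_orthB hr hs h)

theorem mem_decomps {k : ℕ} {p : ℕ × ℕ} (h : p ∈ c.decomps k) :
    p.1 < D.nroots ∧ p.2 < D.nroots ∧ ∃ C, RStep D p.1 p.2 k C := by
  simp only [Cert.decomps, List.mem_flatMap, List.mem_range, List.mem_map, List.mem_filter, hV.nroots_eq] at h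
  obtain ⟨d, hd, e, ⟨he, hst⟩, rfl⟩ := h
  exact ⟨hd, (hV.keys_spec hd).2.1 e he, hV.rstep_of_stepB hd ((hV.keys_spec hd).2.1 e he) hst⟩

theorem mem_decomps_of_rstep {r s k : ℕ} {C : ℤ} (h : RStep D r s k C) : (r, s) ∈ c.decomps k := by
  obtain ⟨hr, hs, -, h1, h2, ht, hC⟩ := h
  rw [hV.comm_eq hr hs] at ht
  have hkey : s ∈ c.keys r := by
    by_contra hns
    have he := (hV.keys_spec hr).2.2 s hns
    have hm : (k, C, 1, 1) ∈ c.comm r s := ht ▸ List.mem_cons_self
    simp [Cert.comm, Cert.cRoot, Cert.cM, he] at hm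
  simp only [Cert.decomps, List.mem_flatMap, List.mem_range, List.mem_map, List.mem_filter, hV.nroots_eq]
  refine ⟨r, hr, s, ⟨hkey, ?_⟩, rfl⟩
  rw [hV.ng_eq hr] at h2
  simp [Cert.stepB, ht, h1, h2, intBeq_iff, hC, ← Bool.not_eq_true]

theorem rtri_of_triB {a b d e : ℕ} (ha : a < D.nroots) (hb : b < D.nroots) (hd : d < D.nroots) (he : e < D.nroots)
    (h : c.triB a b d e = true) : RTri D a b d e := by
  simp only [Cert.triB, Bool.and_eq_true, List.any_eq_true] at h
  obtain ⟨h1, h2, f, hf, h3, h4⟩ := h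
  have hfl := (hV.keys_spec he).2.1 f hf
  obtain ⟨C₁, e1⟩ := hV.rstep_of_stepB he hfl h3
  obtain ⟨C₂, e2⟩ := hV.rstep_of_stepB hb hfl h4
  exact ⟨f, C₁, C₂, e1, e2, hV.rorth_of_orthB he hb h1, hV.rorth_of_orthB hd ha h2⟩

theorem eqvGen_of_linkB {k : ℕ} {p q : ℕ × ℕ} (hp : p ∈ c.decomps k) (hq : q ∈ c.decomps k)
    (h : c.linkB p q = true) : Relation.EqvGen (RMove D k) p q := by
  obtain ⟨hp1, hp2, hpC⟩ := hV.mem_decomps hp
  obtain ⟨hq1, hq2, hqC⟩ := hV.mem_decomps hq
  simp only [Cert.linkB, Bool.or_eq_true, Bool.and_eq_true, Nat.beq_eq] at h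
  rcases h with h | h | h
  · exact .rel _ _ ⟨hpC, hqC, Or.inl h⟩
  · exact .rel _ _ ⟨hpC, hqC, Or.inr (hV.rtri_of_triB hp1 hp2 hq1 hq2 h)⟩
  · exact .symm _ _ (.rel _ _ ⟨hqC, hpC, Or.inr (hV.rtri_of_triB hq1 hq2 hp1 hp2 h)⟩)

/-- The connectivity of the decompositions of `k`. -/
def ConnAt (D : ChevalleyDatum) (k : ℕ) : Prop :=
  k < D.nroots ∧ ∃ d c C, RStep D d c k C ∧ ROrth D k d ∧ (∃ a b C', RTri D a b d c ∧ RStep D a b k C') ∧
    ∀ r s C', RStep D r s k C' → Relation.EqvGen (RMove D k) (r, s) (d, c)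

theorem connAt_of_connB {k : ℕ} (hk : k < D.nroots) (h : c.connB k = true) : ConnAt D k := by
  rw [Cert.connB] at h
  split at h
  · simp at h
  · next p0 hp0 =>
    have hm := List.mem_of_find?_eq_some hp0
    have hpr := List.find?_some hp0
    simp only [Bool.and_eq_true, List.any_eq_true] at hpr
    obtain ⟨ho, q, hq, htri⟩ := hpr
    obtain ⟨h01, h02, C, hC⟩ := hV.mem_decomps hm
    obtain ⟨hq1, hq2, C', hC'⟩ := hV.mem_decomps hq
    refine ⟨hk, p0.1, p0.2, C, hC, hV.rorth_of_orthB hk h01 ho,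
      ⟨q.1, q.2, C', hV.rtri_of_triB hq1 hq2 h01 h02 htri, hC'⟩, fun r s C'' hrs => ?_⟩
    have inv : ∀ n, ∀ p ∈ (List.range n).foldl (fun S _ => c.grow (c.decomps k) S) [p0],
        p ∈ c.decomps k ∧ Relation.EqvGen (RMove D k) p p0 := by
      intro n
      induction n with
      | zero => intro p hp; simp at hp; subst hp; exact ⟨hm, .refl _⟩
      | succ n ih =>
        intro p hp
        rw [List.range_succ, List.foldl_append, List.foldl_cons, List.foldl_nil, Cert.grow, List.mem_append,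
          List.mem_filter, Bool.and_eq_true, List.any_eq_true] at hp
        rcases hp with hp | ⟨hpL, -, q, hq, hlink⟩
        · exact ih p hp
        · obtain ⟨hqL, hqe⟩ := ih q hq
          exact ⟨hpL, .trans _ _ _ (.symm _ _ (hV.eqvGen_of_linkB hqL hpL hlink)) hqe⟩
    have hall := List.all_eq_true.1 h (r, s) (hV.mem_decomps_of_rstep hrs)
    rw [List.contains_iff_mem] at hall
    exact (inv 6 _ hall).2

theorem rstep_w {i : ℕ} (hi : i < D.rank) {r s k : ℕ} {C : ℤ} (h : RStep D r s k C) :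
    ∃ C', RStep D (c.w i r) (c.w i s) (c.w i k) C' := by
  obtain ⟨hr, hs, hk, h1, h2, ht, hC⟩ := h
  refine ⟨C * c.η i k * c.η i r * c.η i s, hV.w_lt hi hr, hV.w_lt hi hs, hV.w_lt hi hk, fun h => h1 ?_,
    fun h => h2 ?_, ?_, ?_⟩
  · rw [← hV.w_w hi hs, h, hV.w_w hi hr]
  · rw [hV.ng_eq (hV.w_lt hi hr), ← hV.w_ng hi hr] at h
    rw [← hV.w_w hi hs, h, hV.w_w hi (hV.ng_lt hr), hV.ng_eq hr]
  · rw [hV.comm_eq (hV.w_lt hi hr) (hV.w_lt hi hs), hV.comm_w hi hr hs, ← hV.comm_eq hr hs, ht]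
    simp [Cert.mapComm]
  · calc C * c.η i k * c.η i r * c.η i s * (C * c.η i k * c.η i r * c.η i s)
        = (C * C) * (c.η i k * c.η i k) * (c.η i r * c.η i r) * (c.η i s * c.η i s) := by ring
      _ = 1 := by rw [hC, hV.eta_sq hi hk, hV.eta_sq hi hr, hV.eta_sq hi hs]; rfl

theorem rorth_w {i : ℕ} (hi : i < D.rank) {r s : ℕ} (h : ROrth D r s) : ROrth D (c.w i r) (c.w i s) := by
  obtain ⟨hr, hs, h1, h2, ht⟩ := h
  refine ⟨hV.w_lt hi hr, hV.w_lt hi hs, fun h => h1 ?_, fun h => h2 ?_, ?_⟩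
  · rw [← hV.w_w hi hs, h, hV.w_w hi hr]
  · rw [hV.ng_eq (hV.w_lt hi hr), ← hV.w_ng hi hr] at h
    rw [← hV.w_w hi hs, h, hV.w_w hi (hV.ng_lt hr), hV.ng_eq hr]
  · rw [hV.comm_eq (hV.w_lt hi hr) (hV.w_lt hi hs), hV.comm_w hi hr hs, ← hV.comm_eq hr hs, ht]
    rfl

theorem rtri_w {i : ℕ} (hi : i < D.rank) {a b d e : ℕ} (h : RTri D a b d e) :
    RTri D (c.w i a) (c.w i b) (c.w i d) (c.w i e) := by
  obtain ⟨f, C₁, C₂, e1, e2, o1, o2⟩ := h
  obtain ⟨C₁', e1'⟩ := hV.rstep_w hi e1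
  obtain ⟨C₂', e2'⟩ := hV.rstep_w hi e2
  exact ⟨c.w i f, C₁', C₂', e1', e2', hV.rorth_w hi o1, hV.rorth_w hi o2⟩

theorem connAt_w {i : ℕ} (hi : i < D.rank) {k : ℕ} (h : ConnAt D k) : ConnAt D (c.w i k) := by
  obtain ⟨hk, d, e, C, hst, ho, ⟨a, b, C₀, htri, hab⟩, hall⟩ := h
  obtain ⟨C', hst'⟩ := hV.rstep_w hi hst
  obtain ⟨C₁, hab'⟩ := hV.rstep_w hi hab
  refine ⟨hV.w_lt hi hk, c.w i d, c.w i e, C', hst', hV.rorth_w hi ho,
    ⟨_, _, C₁, hV.rtri_w hi htri, hab'⟩, fun r s C'' hrs => ?_⟩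
  obtain ⟨C₂, hrs'⟩ := hV.rstep_w hi hrs
  rw [hV.w_w hi hk] at hrs'
  have key : ∀ p q, Relation.EqvGen (RMove D k) p q →
      Relation.EqvGen (RMove D (c.w i k)) (c.w i p.1, c.w i p.2) (c.w i q.1, c.w i q.2) := by
    intro p q hpq
    induction hpq with
    | rel p q h =>
      obtain ⟨⟨C₃, hp⟩, ⟨C₄, hq⟩, hmv⟩ := h
      refine .rel _ _ ⟨hV.rstep_w hi hp, hV.rstep_w hi hq, ?_⟩
      rcases hmv with ⟨e1, e2⟩ | htri
      · exact Or.inl ⟨congrArg (c.w i) e1, congrArg (c.w i) e2⟩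
      · exact Or.inr (hV.rtri_w hi htri)
    | refl p => exact .refl _
    | symm p q _ ih => exact .symm _ _ ih
    | trans p q r _ _ ih ih' => exact .trans _ _ _ ih ih'
  have := key _ _ (hall _ _ C₂ hrs')
  dsimp only at this
  rwa [hV.w_w hi hrs.1, hV.w_w hi hrs.2.1] at this

theorem simplyData (h : c.chkSimply = true) : SimplyData D := by
  simp only [Cert.chkSimply, List.all_eq_true, Bool.and_eq_true] at h
  let P : ℕ → ℕ → Prop := fun r s => r < D.nroots ∧ s < D.nroots ∧ (s = r ∨ s = D.neg r ∨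
    (ROrth D r s ∧ ∃ d e C, RStep D d e r C ∧ RComm D s d ∧ RComm D s e) ∨ ∃ k C, RStep D r s k C)
  have hP : ∀ {r s : ℕ}, r < D.nroots → s < D.nroots → P r s := by
    intro r s hr hs
    refine hV.pair_induction (P := P) ?_ ?_ hr hs
    · intro ρ hρ s hs
      obtain ⟨hr0, hb, -⟩ := hV.trees'.2.2 ρ hρ
      have hs0 := hb s hs
      refine ⟨hr0, hs0, ?_⟩
      have hh := (h ρ hρ).2 s hs
      simp only [Bool.or_eq_true, Nat.beq_eq, Bool.and_eq_true] at hh
      by_cases e1 : s = ρ.root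
      · exact Or.inl e1
      by_cases e2 : s = c.ng ρ.root
      · exact Or.inr (Or.inl (by rw [hV.ng_eq hr0, e2]))
      rcases hh with ((h' | h') | ⟨ho, hmu⟩) | hst
      · exact absurd h' e1
      · exact absurd h' e2
      · simp only [Cert.muB, List.any_eq_true, Bool.and_eq_true] at hmu
        obtain ⟨p, hp, hp1, hp2⟩ := hmu
        obtain ⟨l1, l2, C, hC⟩ := hV.mem_decomps hp
        exact Or.inr (Or.inr (Or.inl ⟨hV.rorth_of_orthB hr0 hs0 ho, p.1, p.2, C, hC,
          hV.rcomm_of_commB hs0 l1 hp1, hV.rcomm_of_commB hs0 l2 hp2⟩))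
      · refine Or.inr (Or.inr (Or.inr ?_))
        split at hst
        · next k C heq =>
          rw [intBeq_iff] at hst
          exact ⟨k, hV.rstep_of_stepB (k := k) hr0 hs0 (by simp [Cert.stepB, heq, e1, e2, intBeq_iff, hst, ← Bool.not_eq_true])⟩
        · exact absurd hst (by simp)
    · intro i hi r hr s hs hrs
      refine ⟨hV.w_lt hi hr, hV.w_lt hi hs, ?_⟩
      rcases hrs.2.2 with h1 | h1 | ⟨ho, d, e, C, hst, hd, he⟩ | ⟨k, C, hst⟩
      · exact Or.inl (congrArg _ h1)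
      · refine Or.inr (Or.inl ?_)
        rw [hV.ng_eq (hV.w_lt hi hr), h1, hV.ng_eq hr, hV.w_ng hi hr]
      · obtain ⟨C', hst'⟩ := hV.rstep_w hi hst
        exact Or.inr (Or.inr (Or.inl ⟨hV.rorth_w hi ho, _, _, C', hst',
          hd.imp (congrArg _) (hV.rorth_w hi), he.imp (congrArg _) (hV.rorth_w hi)⟩))
      · exact Or.inr (Or.inr (Or.inr ⟨_, hV.rstep_w hi hst⟩))
  constructor
  · intro r hr s hs h1 h2
    rcases (hP hr hs).2.2 with h' | h' | ⟨h', -⟩ | h'
    · exact absurd h' h1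
    · exact absurd h' h2
    · exact Or.inl h'.2.2.2.2
    · exact Or.inr h'
  · intro r s ho
    rcases (hP ho.1 ho.2.1).2.2 with h' | h' | ⟨-, h'⟩ | ⟨k, C, h'⟩
    · exact absurd h' ho.2.2.1
    · exact absurd h' ho.2.2.2.1
    · exact h'
    · have := ho.2.2.2.2.symm.trans h'.2.2.2.2.2.1
      simp at this
  · intro k hk
    refine (hV.covers_sound (P := fun k => ConnAt D k) hV.trees'.2.1 ?_ ?_ hk).2
    · intro k0 hk0
      obtain ⟨ρ, hρ, rfl⟩ := List.mem_map.1 hk0
      exact hV.connAt_of_connB (hV.trees'.2.2 ρ hρ).1 (h ρ hρ).1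
    · intro i hi k h'
      rw [Nat.blt_eq, hV.rank_eq] at hi
      exact hV.connAt_w hi h'

end Valid

theorem chkSimply_E6 : E6.cert.chkSimply = true := by decide +kernel
theorem chkSimply_E7 : E7.cert.chkSimply = true := by decide +kernel
theorem chkSimply_E8 : E8.cert.chkSimply = true := by decide +kernel

theorem simplyData_E6 : SimplyData chevE6 := E6.valid.simplyData chkSimply_E6
theorem simplyData_E7 : SimplyData chevE7 := E7.valid.simplyData chkSimply_E7
theorem simplyData_E8 : SimplyData chevE8 := E8.valid.simplyData chkSimply_E8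

end Cfsg.Agent.Chev
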