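/-
Splitting of central extensions of the group of (R1), (R2) over the fields with three and with four elements:
what the torus does not kill is killed by a Weyl element exchanging the two roots, or by writing a root element
as a commutator.
-/
import Cfsg.Agent.Lib.Chev.Steinberg.TorusSplitCheck

set_option autoImplicit false

namespace Cfsg.Agent.Chev

open Cfsg.Lie
open scoped commutatorElement

namespace Cert

variable (c : Cert)

/-- Divisibility. -/
noncomputable def dvdB (m : ℕ) (z : ℤ) : Bool := intBeq (z % (m : ℤ)) 0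

/-- Some functional is divisible by `m` at one root and not at the other. -/
noncomputable def killB (m r s : ℕ) : Bool :=
  (List.range c.rank).any fun i => (List.range c.rank).any fun j => (List.range m).any fun k =>
    dvdB m (c.A i r + (k : ℤ) * c.A j r) != dvdB m (c.A i s + (k : ℤ) * c.A j s)

/-- Some functional is not divisible by `m` at the root. -/
noncomputable def selB (m r : ℕ) : Bool := (List.range c.rank).any fun i => !(dvdB m (c.A i r))

/-- The image of a root under a word of fundamental reflections. -/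
def wordImg : List ℕ → ℕ → ℕ
  | [], r => r
  | i :: L, r => c.w i (wordImg L r)

/-- The sign of a word on a root. -/
def wordSign : List ℕ → ℕ → ℤ
  | [], _ => 1
  | i :: L, r => c.η i (c.wordImg L r) * wordSign L r

/-- Words exchanging orthogonal roots, found by a search in D₄ and F₄. -/
def swapWords : List (List ℕ) :=
  [[1, 2, 0, 1], [1, 3, 0, 1], [1, 3, 2, 1], [1, 2, 0, 1, 3, 1, 2, 0, 1], [3, 2, 1, 2, 3],
    [0, 1, 2, 3, 1, 2, 0, 1, 2, 3, 0, 1, 2, 1, 0], [3, 2, 1, 2, 0, 1, 2, 3, 2, 1, 2, 0, 1, 2, 3],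
    [0], [1], [2], [3]]

/-- A word exchanging the two roots with equal signs. -/
noncomputable def swapB (r s : ℕ) : Bool :=
  swapWords.any fun L =>
    L.all (fun i => Nat.blt i c.rank) && (Nat.beq (c.wordImg L r) s && (Nat.beq (c.wordImg L s) r && intBeq (c.wordSign L r * c.wordSign L s) 1))

/-- The check for the field with three elements. -/
noncomputable def chkThree : Bool :=
  allLt c.nroots (c.selB 2) &&
    (allLt c.nroots fun r => allLt c.nroots fun s =>
      Nat.beq s r || (Nat.beq s (c.ng r) || ((c.comm r s).isEmpty || c.killB 2 r s))) &&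
    (c.reps.all fun ρ => ρ.bases.all fun s => Nat.beq s ρ.root || (Nat.beq s (c.ng ρ.root) ||
      (!(c.comm ρ.root s).isEmpty || (c.killB 2 ρ.root s || c.swapB ρ.root s))))

/-- Two roots whose elements commute in characteristic two. -/
noncomputable def evenB (r s : ℕ) : Bool :=
  !(Nat.beq s r) && (!(Nat.beq s (c.ng r)) && (c.comm r s).all fun x => dvdB 2 x.2.1)

/-- A root is a commutator of roots commuting with it, up to further such roots. -/
noncomputable def decompB (r : ℕ) : Bool :=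
  (List.range c.nroots).any fun d => (c.keys d).any fun d' =>
    !(Nat.beq d' d) && (!(Nat.beq d' (c.ng d)) && (c.evenB d r && (c.evenB d' r &&
      ((c.comm d d').all (fun x => Nat.beq x.1 r || c.evenB x.1 r) &&
        ((c.comm d d').filter fun x => Nat.beq x.1 r).any fun x =>
          !(dvdB 2 x.2.1) && (Nat.beq x.2.2.2 1 && Nat.beq ((c.comm d d').filter fun x => Nat.beq x.1 r).length 1)))))

/-- The check for the field with four elements. -/
noncomputable def chkFour : Bool :=
  allLt c.nroots (fun r => c.selB 3 r && c.decompB r) &&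
    allLt c.nroots fun r => allLt c.nroots fun s => Nat.beq s r || (Nat.beq s (c.ng r) || c.killB 3 r s)

end Cert

theorem wt_single {D : ChevalleyDatum} {i : ℕ} (hi : i < D.rank) (r : ℕ) :
    wt D (fun l => if l = i then 1 else 0) r = D.cartan i r := by
  rw [wt, Finset.sum_eq_single i (fun l _ hl => by simp [hl]) (fun h => absurd (Finset.mem_range.2 hi) h),
    if_pos rfl, one_mul]

theorem dvdB_iff {m : ℕ} {z : ℤ} : Cert.dvdB m z = true ↔ (m : ℤ) ∣ z := by
  rw [Cert.dvdB, intBeq_iff, Int.dvd_iff_emod_eq_zero]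

variable {D : ChevalleyDatum} {c : Cert} {K : Type*} [Field K]

namespace Valid

variable (hV : Valid D c)
include hV

theorem exists_sel {m r : ℕ} (hr : r < D.nroots) (h : c.selB m r = true) {v : K}
    (hv : ∀ z : ℤ, v ^ z = 1 ↔ (m : ℤ) ∣ z) : ∃ e : ℕ → ℤ, v ^ wt D e r ≠ 1 := by
  simp only [Cert.selB, List.any_eq_true, List.mem_range, hV.rank_eq, Bool.not_eq_true', ← Bool.not_eq_true,
    dvdB_iff] at h
  obtain ⟨i, hi, hz⟩ := h
  exact ⟨_, by rwa [wt_single hi, hV.A_eq hi hr, ne_eq, hv]⟩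

theorem exists_kill {m r s : ℕ} (hr : r < D.nroots) (hs : s < D.nroots) (h : c.killB m r s = true) {v : K}
    (hv : ∀ z : ℤ, v ^ z = 1 ↔ (m : ℤ) ∣ z) :
    ∃ e : ℕ → ℤ, (v ^ wt D e r = 1 ∧ v ^ wt D e s ≠ 1) ∨ (v ^ wt D e s = 1 ∧ v ^ wt D e r ≠ 1) := by
  simp only [Cert.killB, List.any_eq_true, List.mem_range, hV.rank_eq, bne_iff_ne] at h
  obtain ⟨i, hi, j, hj, k, -, hne⟩ := h
  have hw : ∀ z, z < D.nroots →
      wt D (fun l => 1 * (if l = i then 1 else 0) + (k : ℤ) * (if l = j then 1 else 0)) z =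
        c.A i z + (k : ℤ) * c.A j z := fun z hz => by
    rw [wt_comb, wt_single hi, wt_single hj, hV.A_eq hi hz, hV.A_eq hj hz, one_mul]
  refine ⟨fun l => 1 * (if l = i then 1 else 0) + (k : ℤ) * (if l = j then 1 else 0), ?_⟩
  rw [ne_eq, ne_eq, hv, hv, hw r hr, hw s hs]
  by_cases h1 : Cert.dvdB m (c.A i r + (k : ℤ) * c.A j r) = true
  · exact Or.inl ⟨dvdB_iff.1 h1, fun h2 => hne (h1.trans (dvdB_iff.2 h2).symm)⟩
  · refine Or.inr ⟨?_, fun h2 => h1 (dvdB_iff.2 h2)⟩
    rw [Bool.not_eq_true] at h1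
    rw [h1] at hne
    exact dvdB_iff.1 ((Bool.not_eq_false _).mp (Ne.symm hne))

variable {M : Type*} [Group M] (S : StModel D K M) {tabs simps : List ℕ} (hf : BNSetup.Facts D tabs simps)
  (hst : StData D)
include hf hst

theorem n_conj_sign {i s : ℕ} (hi : i < D.rank) (hs : s < D.nroots) (u : K) :
    S.n (D.simple i) 1 * S.x s u * (S.n (D.simple i) 1)⁻¹ = S.x (c.w i s) ((c.η i s : K) * u) := by
  have hD : Good D := ⟨c, hV⟩
  rw [← hV.w_eq_reflectRoot hi hs]
  refine S.n_conj_eq hD hf hst hi hs one_ne_zero ?_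
  rw [mul_inv_eq_iff_eq_mul, hV.w_eq_reflectRoot hi hs]
  refine Units.ext ?_
  simp only [Units.val_mul, hD.coe_nG, hD.coe_xg]
  exact hV.nMat_mul_x hi hs u

theorem word_conj {L : List ℕ} (hL : ∀ i ∈ L, i < D.rank) {r : ℕ} (hr : r < D.nroots) (u : K) :
    c.wordImg L r < D.nroots ∧ (L.map fun i => S.n (D.simple i) 1).prod * S.x r u *
      ((L.map fun i => S.n (D.simple i) 1).prod)⁻¹ = S.x (c.wordImg L r) ((c.wordSign L r : K) * u) := by
  induction L with
  | nil => simp [Cert.wordImg, Cert.wordSign, hr]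
  | cons i L ih =>
    obtain ⟨h1, h2⟩ := ih fun j hj => hL j (List.mem_cons_of_mem _ hj)
    have hi := hL i List.mem_cons_self
    refine ⟨hV.w_lt hi h1, ?_⟩
    rw [List.map_cons, List.prod_cons,
      show ∀ A B x : M, A * B * x * (A * B)⁻¹ = A * (B * x * B⁻¹) * A⁻¹ from fun A B x => by group, h2,
      hV.n_conj_sign S hf hst hi h1, Cert.wordImg, Cert.wordSign, Int.cast_mul, mul_assoc]

end Valid

variable {E : Type*} [Group E]

/-- The elements whose lifts commute with `g`. -/
theorem commute_lift_of_mem {M : Type*} [Group M] {p : E →* M} (hc : p.ker ≤ Subgroup.center E) {g : E} {m : M}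
    (hm : m ∈ (Subgroup.centralizer {g}).map p) {z : E} (hz : p z = m) : Commute g z := by
  obtain ⟨a, ha, hp⟩ := hm
  rw [← cm_eq_one, cm_congr hc (a' := g) (b' := a) rfl (hz.trans hp.symm), cm_eq_one]
  exact Subgroup.mem_centralizer_iff.1 ha g rfl

/-- Central extensions split over the field with three elements. -/
theorem exists_section_three (hV : Valid D c) {tabs simps : List ℕ} (hf : BNSetup.Facts D tabs simps)
    (hst : StData D) (hS : TorusSplitData D) (h : c.chkThree = true) [Fintype K] (hq : Fintype.card K = 3)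
    (hperf : commutator (D.SteinbergCover K) = ⊤)
    (p : E →* D.SteinbergCover K) (hp : Function.Surjective p) (hc : p.ker ≤ Subgroup.center E) :
    ∃ τ : D.SteinbergCover K →* E, ∀ g, p (τ g) = g := by
  classical
  have hD : Good D := ⟨c, hV⟩
  simp only [Cert.chkThree, Bool.and_eq_true, allLt_iff, hV.nroots_eq] at h
  obtain ⟨⟨hsel', hpairs⟩, hreps⟩ := h
  simp only [List.all_eq_true, Bool.or_eq_true, Bool.and_eq_true, Nat.beq_eq, Bool.not_eq_true',
    List.isEmpty_iff] at hreps hpairs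
  obtain ⟨θ, -, hθ⟩ := hD.exists_cover_hom (F := K)
  set S : StModel D K (D.SteinbergCover K) := coverModel ((D.group K).subtype.comp θ) hθ with hSdef
  set y : D.SteinbergCover K → E := Function.surjInv hp with hydef
  have hy : ∀ g, p (y g) = g := Function.surjInv_eq hp
  have h3 : (3 : K) = 0 := by
    have := Nat.cast_card_eq_zero K
    rwa [hq, Nat.cast_ofNat] at this
  have h2 : (2 : K) ≠ 0 := fun h => one_ne_zero (by linear_combination h3 - h : (1 : K) = 0)
  have h11 : (-1 : K) ≠ 1 := fun h => h2 (by linear_combination -h)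
  have hv : ∀ z : ℤ, (-1 : K) ^ z = 1 ↔ ((2 : ℕ) : ℤ) ∣ z := fun z => by
    rcases Int.even_or_odd z with hz | hz
    · rw [hz.neg_one_zpow]; exact iff_of_true rfl (even_iff_two_dvd.1 hz)
    · rw [hz.neg_one_zpow]
      exact iff_of_false h11 fun hd => Int.not_even_iff_odd.2 hz (even_iff_two_dvd.2 hd)
  -- the prime field
  have huniv : ({0, 1, -1} : Finset K) = Finset.univ := by
    refine Finset.eq_univ_of_card _ ?_
    rw [hq, Finset.card_insert_of_notMem (by simp), Finset.card_pair h11.symm]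
  have hmult : ∀ r, r < D.nroots → ∀ t : K, ∃ n : ℕ, p (y (S.x r 1) ^ n) = S.x r t := by
    intro r hr t
    have hn : ∀ n : ℕ, p (y (S.x r 1) ^ n) = S.x r (n : K) := by
      intro n
      induction n with
      | zero => rw [pow_zero, map_one, Nat.cast_zero, S.x_zero hr]
      | succ n ih => rw [pow_succ, map_mul, ih, hy, S.add r hr, Nat.cast_succ]
    have ht : t ∈ ({0, 1, -1} : Finset K) := huniv ▸ Finset.mem_univ t
    simp only [Finset.mem_insert, Finset.mem_singleton] at ht
    rcases ht with rfl | rfl | rfl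
    · exact ⟨0, by rw [hn, Nat.cast_zero]⟩
    · exact ⟨1, by rw [hn, Nat.cast_one]⟩
    · exact ⟨2, by rw [hn, Nat.cast_ofNat, show (2 : K) = -1 by linear_combination h3]⟩
  -- commuting root elements have commuting lifts
  let P : ℕ → ℕ → Prop := fun r s => r < D.nroots ∧ s < D.nroots ∧
    (s = r ∨ s = D.neg r ∨ c.comm r s ≠ [] ∨ ∀ t u : K, Commute (y (S.x s u)) (y (S.x r t)))
  have hcomm : ∀ {r s : ℕ}, r < D.nroots → s < D.nroots → s ≠ r → s ≠ D.neg r → c.comm r s = [] →
      ∀ t u : K, Commute (S.x r t) (S.x s u) := fun hr hs e1 e2 he t u =>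
    (cm_eq_one.1 (S.cm_orth ⟨hr, hs, e1, e2, by rw [hV.comm_eq hr hs, he]⟩ t u)).symm
  have hP : ∀ {r s : ℕ}, r < D.nroots → s < D.nroots → P r s := by
    intro r s hr hs
    refine hV.pair_induction (P := P) ?_ ?_ hr hs
    · intro ρ hρ s hs
      obtain ⟨hr0, hb, -⟩ := hV.trees'.2.2 ρ hρ
      have hs0 := hb s hs
      refine ⟨hr0, hs0, ?_⟩
      by_cases e1 : s = ρ.root
      · exact Or.inl e1
      by_cases e2 : s = D.neg ρ.root
      · exact Or.inr (Or.inl e2)
      by_cases e3 : c.comm ρ.root s = []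
      swap
      · exact Or.inr (Or.inr (Or.inl e3))
      refine Or.inr (Or.inr (Or.inr ?_))
      have hcm := hcomm hr0 hs0 e1 e2 e3
      rcases hreps ρ hρ s hs with h' | h' | h' | h' | h'
      · exact absurd h' e1
      · exact absurd (h'.trans (hV.ng_eq hr0).symm) e2
      · simp [e3] at h'
      · obtain ⟨e, he⟩ := hV.exists_kill hr0 hs0 h' hv
        exact commute_of_kill hD hf hst p hc y hy hr0 hs0 hcm ⟨e, -1, neg_ne_zero.2 one_ne_zero, he⟩
      set r := ρ.root
      simp only [Cert.swapB, List.any_eq_true, Bool.and_eq_true, Nat.beq_eq, intBeq_iff] at h'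
      obtain ⟨L, -, hL, e4, e5, e6⟩ := h'
      have hLr : ∀ i ∈ L, i < D.rank := fun i hi => by
        have := List.all_eq_true.1 hL i hi
        rwa [Nat.blt_eq, hV.rank_eq] at this
      have hcr := (hV.word_conj S hf hst hLr hr0 1).2
      have hcs := (hV.word_conj S hf hst hLr hs0 1).2
      rw [e4, mul_one] at hcr
      rw [e5, mul_one] at hcs
      set g : E := y (L.map fun i => S.n (D.simple i) 1).prod
      set a := y (S.x s 1)
      set b := y (S.x r 1)
      set σ := c.wordSign L r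
      set σ' := c.wordSign L s
      have hz : cm a b ∈ Subgroup.center E := hc (by
        rw [MonoidHom.mem_ker, map_cm, hy, hy, cm_eq_one]
        exact (hcm 1 1).symm)
      have hx : ∀ (q : ℕ), q < D.nroots → ∀ n : ℤ, p (y (S.x q 1) ^ n) = S.x q (n : K) := by
        intro q hq n
        have hn : ∀ n : ℕ, p (y (S.x q 1) ^ n) = S.x q (n : K) := by
          intro n
          induction n with
          | zero => rw [pow_zero, map_one, Nat.cast_zero, S.x_zero hq]
          | succ n ih => rw [pow_succ, map_mul, ih, hy, S.add q hq, Nat.cast_succ]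
        obtain ⟨n, rfl | rfl⟩ := Int.eq_nat_or_neg n
        · rw [zpow_natCast, hn, Int.cast_natCast]
        · rw [_root_.zpow_neg, zpow_natCast, map_inv, hn, S.x_inv hq, Int.cast_neg, Int.cast_natCast]
      have hswap : cm a b = cm (b ^ σ') (a ^ σ) := by
        have h1 : g * cm a b * g⁻¹ = cm a b := by rw [Subgroup.mem_center_iff.1 hz g, mul_inv_cancel_right]
        rw [show g * cm a b * g⁻¹ = cm (g * a * g⁻¹) (g * b * g⁻¹) by simp only [cm]; group] at h1
        rw [← h1]
        refine cm_congr hc ?_ ?_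
        · rw [map_mul, map_mul, map_inv, hy, hy, hcs, hx r hr0]
        · rw [map_mul, map_mul, map_inv, hy, hy, hcr, hx s hs0]
      have hinv : cm a b = (cm a b)⁻¹ := by
        have hzi : cm b a = (cm a b)⁻¹ := by simp only [cm]; group
        have hzc : cm b a ∈ Subgroup.center E := hzi ▸ Subgroup.inv_mem _ hz
        have hl : ∀ x w : E, cm x w ∈ Subgroup.center E → cm x⁻¹ w = (cm x w)⁻¹ := fun x w h => by
          refine eq_inv_of_mul_eq_one_right ?_
          rw [← cm_mul_left_of_central h, mul_inv_cancel]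
          simp [cm]
        have hr' : ∀ x w : E, cm x w ∈ Subgroup.center E → cm x w⁻¹ = (cm x w)⁻¹ := fun x w h => by
          refine eq_inv_of_mul_eq_one_right ?_
          rw [← cm_mul_right_of_central h, mul_inv_cancel]
          simp [cm]
        rcases Int.eq_one_or_neg_one_of_mul_eq_one e6 with e7 | e7
        · rw [show σ' = 1 by rw [e7, one_mul] at e6; exact e6, e7, zpow_one, zpow_one] at hswap
          rwa [hzi] at hswap
        · rw [show σ' = -1 by rw [e7] at e6; omega, e7, zpow_neg_one, zpow_neg_one, hl _ _ (hr' b a hzc ▸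
            Subgroup.inv_mem _ hzc), hr' _ _ hzc, inv_inv] at hswap
          rwa [hzi] at hswap
      have hcube : cm a b ^ 3 = 1 := by
        have h1 : cm (a ^ 3) b = cm a b ^ 3 := by
          rw [pow_succ, pow_succ, pow_one, cm_mul_left_of_central ?_, cm_mul_left_of_central hz, pow_succ, pow_two]
          rw [cm_mul_left_of_central hz]
          exact Subgroup.mul_mem _ hz hz
        rw [← h1, cm_congr hc (a' := (1 : E)) (b' := b) (by
          rw [← zpow_natCast, hx s hs0, map_one, show (((3 : ℕ) : ℤ) : K) = 0 by simpa using h3, S.x_zero hs0]) rfl]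
        simp [cm]
      have hz1 : cm a b = 1 := by
        have h2' : cm a b ^ 2 = 1 := by rw [pow_two]; nth_rw 2 [hinv]; exact mul_inv_cancel _
        rwa [pow_succ, h2', one_mul] at hcube
      intro t u
      obtain ⟨n, hn⟩ := hmult r hr0 t
      obtain ⟨k, hk⟩ := hmult s hs0 u
      rw [← cm_eq_one, cm_congr hc (a' := a ^ k) (b' := b ^ n) (by rw [hy, hk]) (by rw [hy, hn]), cm_eq_one]
      exact (cm_eq_one.1 hz1).pow_pow k n
    · intro i hi r hr s hs hrs
      refine ⟨hV.w_lt hi hr, hV.w_lt hi hs, ?_⟩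
      rcases hrs.2.2 with h1 | h1 | h1 | h1
      · exact Or.inl (congrArg _ h1)
      · refine Or.inr (Or.inl ?_)
        rw [hV.ng_eq (hV.w_lt hi hr), h1, hV.ng_eq hr, hV.w_ng hi hr]
      · refine Or.inr (Or.inr (Or.inl ?_))
        rw [hV.comm_w hi hr hs]
        simpa [Cert.mapComm] using h1
      · refine Or.inr (Or.inr (Or.inr fun t u => ?_))
        set g : E := y (S.n (D.simple i) 1)
        have key : ∀ q, q < D.nroots → ∀ t : K,
            p (g * y (S.x q ((c.η i q : K) * t)) * g⁻¹) = S.x (c.w i q) t := by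
          intro q hq t
          rw [map_mul, map_mul, map_inv, hy, hy, hV.n_conj_sign S hf hst hi hq, ← mul_assoc, hV.eta_cast_sq hi hq,
            one_mul]
        rw [← cm_eq_one, cm_congr hc (a' := g * y (S.x s ((c.η i s : K) * u)) * g⁻¹)
          (b' := g * y (S.x r ((c.η i r : K) * t)) * g⁻¹) (by rw [hy, key s hs]) (by rw [hy, key r hr]), cm_eq_one]
        exact (h1 _ _).map (MulAut.conj g)
  -- the lifts
  have hself : ∀ r, r < D.nroots → ∀ t u : K, Commute (y (S.x r t)) (y (S.x r u)) := by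
    intro r hr t u
    obtain ⟨n, hn⟩ := hmult r hr t
    obtain ⟨k, hk⟩ := hmult r hr u
    rw [← cm_eq_one, cm_congr hc (a' := y (S.x r 1) ^ n) (b' := y (S.x r 1) ^ k) (by rw [hy, hn]) (by rw [hy, hk]),
      cm_eq_one]
    exact ((Commute.refl _).pow_pow n k)
  obtain ⟨φ, hφ, hφadd, hφeq⟩ := exists_lifts hD hf hst p hc hθ y hy hperf hp
    (fun r hr => (hV.exists_sel hr (hsel' r hr) hv).elim fun e he => ⟨e, -1, neg_ne_zero.2 one_ne_zero, he⟩) hself
  refine exists_section_of_lifts hD hf hst p hc hθ y hy φ hφ hφadd hφeq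
    (fun r hr s hs h1 h2 => let ⟨b, _, hb1, hb2, _⟩ := hS.pair r hr s hs h1 h2; ⟨b, hb1, hb2⟩)
    fun r hr s hs h1 h2 => ?_
  by_cases he : c.comm r s = []
  · refine Or.inl fun t u => ?_
    rcases (hP hr hs).2.2 with h' | h' | h' | h'
    · exact absurd h' h1
    · exact absurd h' h2
    · exact absurd he h'
    · rw [ChevalleyDatum.commWord, hV.comm_eq hr hs, he, List.map_nil, List.map_nil, List.prod_nil,
        cm_congr hc (a' := y (S.x s u)) (b' := y (S.x r t)) (by rw [hφ s hs, hy]; rfl) (by rw [hφ r hr, hy]; rfl),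
        cm_eq_one]
      exact h' t u
  · rcases hpairs r hr s hs with h' | h' | h' | h'
    · exact absurd h' h1
    · exact absurd (h'.trans (hV.ng_eq hr).symm) h2
    · exact absurd h' he
    · obtain ⟨e, he'⟩ := hV.exists_kill hr hs h' hv
      exact Or.inr ⟨e, -1, neg_ne_zero.2 one_ne_zero, he'⟩

/-- Central extensions split over the field with four elements. -/
theorem exists_section_four (hV : Valid D c) {tabs simps : List ℕ} (hf : BNSetup.Facts D tabs simps)
    (hst : StData D) (hS : TorusSplitData D) (h : c.chkFour = true) [Fintype K] (hq : Fintype.card K = 4)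
    (hperf : commutator (D.SteinbergCover K) = ⊤)
    (p : E →* D.SteinbergCover K) (hp : Function.Surjective p) (hc : p.ker ≤ Subgroup.center E) :
    ∃ τ : D.SteinbergCover K →* E, ∀ g, p (τ g) = g := by
  classical
  have hD : Good D := ⟨c, hV⟩
  simp only [Cert.chkFour, Bool.and_eq_true, allLt_iff, hV.nroots_eq, Bool.or_eq_true, Nat.beq_eq] at h
  obtain ⟨hroots, hpairs⟩ := h
  obtain ⟨θ, -, hθ⟩ := hD.exists_cover_hom (F := K)
  set S : StModel D K (D.SteinbergCover K) := coverModel ((D.group K).subtype.comp θ) hθ with hSdef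
  set y : D.SteinbergCover K → E := Function.surjInv hp with hydef
  have hy : ∀ g, p (y g) = g := Function.surjInv_eq hp
  have h2 : (2 : K) = 0 := by
    have h4 := Nat.cast_card_eq_zero K
    rw [hq, Nat.cast_ofNat] at h4
    have : (2 : K) * 2 = 0 := by linear_combination h4
    exact (mul_self_eq_zero.1 this)
  obtain ⟨w, -, hw⟩ := Finset.exists_mem_notMem_of_card_lt_card
    (show ({0, 1} : Finset K).card < (Finset.univ : Finset K).card by
      rw [Finset.card_univ, hq]; exact Finset.card_le_two.trans_lt (by omega))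
  simp only [Finset.mem_insert, Finset.mem_singleton, not_or] at hw
  have hw3 : w ^ 3 = 1 := by
    have := FiniteField.pow_card_sub_one_eq_one w hw.1
    rwa [hq] at this
  have hv : ∀ z : ℤ, w ^ z = 1 ↔ ((3 : ℕ) : ℤ) ∣ z := by
    intro z
    obtain ⟨k, hk⟩ : ∃ k : ℤ, z = 3 * k + z % 3 := ⟨z / 3, by omega⟩
    have e : w ^ z = w ^ (z % 3) := by
      conv_lhs => rw [hk]
      rw [zpow_add₀ hw.1, zpow_mul, show w ^ (3 : ℤ) = w ^ 3 from zpow_natCast w 3, hw3, one_zpow, one_mul]
    rcases (by omega : z % 3 = 0 ∨ z % 3 = 1 ∨ z % 3 = 2) with h | h | h <;> rw [e, h]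
    · exact iff_of_true (zpow_zero _) (by omega)
    · exact iff_of_false (by rw [zpow_one]; exact hw.2) (by omega)
    · refine iff_of_false (fun h' => hw.2 ?_) (by omega)
      have h'' : w ^ 2 = 1 := by rwa [zpow_two, ← pow_two] at h'
      calc w = w ^ 3 := by rw [pow_succ, h'', one_mul]
        _ = 1 := hw3
  have hkill : ∀ r < D.nroots, ∀ s < D.nroots, s ≠ r → s ≠ D.neg r → ∃ (e : ℕ → ℤ) (v : K), v ≠ 0 ∧
      ((v ^ wt D e r = 1 ∧ v ^ wt D e s ≠ 1) ∨ (v ^ wt D e s = 1 ∧ v ^ wt D e r ≠ 1)) := by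
    intro r hr s hs h1 h2'
    rcases hpairs r hr s hs with h | h | h
    · exact absurd h h1
    · exact absurd (h.trans (hV.ng_eq hr).symm) h2'
    · obtain ⟨e, he⟩ := hV.exists_kill hr hs h hv
      exact ⟨e, w, hw.1, he⟩
  have hodd : ∀ C : ℤ, ¬ (2 : ℤ) ∣ C → (C : K) = 1 := fun C hC => by
    obtain ⟨k, rfl⟩ : ∃ k, C = 2 * k + 1 := ⟨C / 2, by omega⟩
    push_cast
    rw [h2, zero_mul, zero_add]
  have hprod1 : ∀ (l : List (ℕ × ℤ × ℕ × ℕ)), (∀ x ∈ l, x.1 < D.nroots ∧ (2 : ℤ) ∣ x.2.1) → ∀ (t u : K),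
      (l.map fun x => S.x x.1 ((x.2.1 : K) * t ^ x.2.2.1 * u ^ x.2.2.2)).prod = 1 := by
    intro l hl t u
    refine List.prod_eq_one fun g hg => ?_
    obtain ⟨x, hx, rfl⟩ := List.mem_map.1 hg
    obtain ⟨k, hk⟩ := (hl x hx).2
    rw [hk]
    push_cast
    rw [h2, zero_mul, zero_mul, zero_mul, S.x_zero (hl x hx).1]
  have hself : ∀ r, r < D.nroots → ∀ t u : K, Commute (y (S.x r t)) (y (S.x r u)) := by
    intro r hr t₀ w₀
    have hd' := (hroots r hr).2
    simp only [Cert.decompB, List.any_eq_true, List.mem_range, hV.nroots_eq, Bool.and_eq_true, Bool.not_eq_true',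
      ← Bool.not_eq_true, Nat.beq_eq, List.all_eq_true, Bool.or_eq_true, dvdB_iff] at hd'
    obtain ⟨d, hd, d', hkey, hn1, hn2, hed, hed', hall, x₀, hx₀, hC, hj, hlen⟩ := hd'
    have hd'lt := (hV.keys_spec hd).2.1 d' hkey
    have hmem : ∀ z, z < D.nroots → c.evenB z r = true → ∀ a : K,
        S.x z a ∈ (Subgroup.centralizer {y (S.x r t₀)}).map p := by
      intro z hz he a
      refine ⟨y (S.x z a), Subgroup.mem_centralizer_iff.2 ?_, hy _⟩
      rintro _ rfl
      simp only [Cert.evenB, Bool.and_eq_true, Bool.not_eq_true', ← Bool.not_eq_true, Nat.beq_eq, List.all_eq_true,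
        dvdB_iff] at he
      obtain ⟨e1, e2, e3⟩ := he
      rw [← hV.ng_eq hz] at e2
      refine (commute_of_kill hD hf hst p hc y hy hz hr (fun t u => Commute.symm ?_) (hkill z hz r hr e1 e2) a t₀).eq
      show Commute (S.x r u) (S.x z t)
      rw [← cm_eq_one, cm, S.comm z hz r hr e1 e2, ChevalleyDatum.commWord, List.map_map, hV.comm_eq hz hr]
      exact hprod1 _ (fun x hx => ⟨hV.comm_lt hz hr hx, e3 x hx⟩) (-t) u
    set Z := (Subgroup.centralizer {y (S.x r t₀)}).map p
    obtain ⟨l₁, l₂, hsplit, hl₁, hl₂⟩ : ∃ l₁ l₂, c.comm d d' = l₁ ++ x₀ :: l₂ ∧ (∀ x ∈ l₁, x.1 ≠ r) ∧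
        ∀ x ∈ l₂, x.1 ≠ r := by
      obtain ⟨hmem₀, hx0r⟩ := List.mem_filter.1 hx₀
      obtain ⟨l₁, l₂, e⟩ := List.append_of_mem hmem₀
      rw [e, List.filter_append, List.filter_cons, if_pos hx0r, List.length_append, List.length_cons] at hlen
      refine ⟨l₁, l₂, e, fun x hx h => ?_, fun x hx h => ?_⟩
      · have : 0 < (l₁.filter fun x => Nat.beq x.1 r).length :=
          List.length_pos_of_mem (List.mem_filter.2 ⟨hx, by simp [h]⟩)
        omega
      · have : 0 < (l₂.filter fun x => Nat.beq x.1 r).length :=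
          List.length_pos_of_mem (List.mem_filter.2 ⟨hx, by simp [h]⟩)
        omega
    have hx0r : x₀.1 = r := by simpa using (List.mem_filter.1 hx₀).2
    set φ : ℕ × ℤ × ℕ × ℕ → D.SteinbergCover K :=
      fun x => S.x x.1 ((x.2.1 : K) * (-1 : K) ^ x.2.2.1 * w₀ ^ x.2.2.2) with hφ
    have hZ : ∀ l : List (ℕ × ℤ × ℕ × ℕ), (∀ x ∈ l, x.1 ≠ r ∧ x ∈ c.comm d d') → (l.map φ).prod ∈ Z :=
      fun l hl => Subgroup.list_prod_mem _ fun g hg => by
        obtain ⟨x, hx, rfl⟩ := List.mem_map.1 hg
        obtain ⟨h1, h2⟩ := hl x hx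
        exact hmem _ (hV.comm_lt hd hd'lt h2) ((hall x h2).resolve_left h1) _
    have hkey' : S.x r w₀ ∈ Z := by
      rw [← hV.ng_eq hd] at hn2
      have e : (S.x d' w₀)⁻¹ * (S.x d 1)⁻¹ * S.x d' w₀ * S.x d 1 =
          (l₁.map φ).prod * S.x r w₀ * (l₂.map φ).prod := by
        rw [S.comm d hd d' hd'lt hn1 hn2, ChevalleyDatum.commWord, List.map_map, hV.comm_eq hd hd'lt, hsplit,
          List.map_append, List.map_cons, List.prod_append, List.prod_cons, ← mul_assoc]
        refine congrArg₂ (· * ·) (congrArg₂ (· * ·) rfl ?_) rfl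
        simp only [Function.comp_apply, hx0r, hj, pow_one, hodd _ hC, one_mul]
        rw [show (-1 : K) = 1 by linear_combination -h2, one_pow, one_mul]
      have hw : S.x r w₀ = ((l₁.map φ).prod)⁻¹ * ((S.x d' w₀)⁻¹ * (S.x d 1)⁻¹ * S.x d' w₀ * S.x d 1) *
          ((l₂.map φ).prod)⁻¹ := by rw [e]; group
      rw [hw]
      refine Subgroup.mul_mem _ (Subgroup.mul_mem _ (Subgroup.inv_mem _ (hZ l₁ fun x hx =>
        ⟨hl₁ x hx, hsplit ▸ List.mem_append_left _ hx⟩)) ?_)
        (Subgroup.inv_mem _ (hZ l₂ fun x hx => ⟨hl₂ x hx, hsplit ▸ List.mem_append_right _ (List.mem_cons_of_mem _ hx)⟩))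
      exact Subgroup.mul_mem _ (Subgroup.mul_mem _ (Subgroup.mul_mem _ (Subgroup.inv_mem _ (hmem _ hd'lt hed' _))
        (Subgroup.inv_mem _ (hmem _ hd hed _))) (hmem _ hd'lt hed' _)) (hmem _ hd hed _)
    exact commute_lift_of_mem hc hkey' (hy _)
  obtain ⟨φ, hφ, hφadd, hφeq⟩ := exists_lifts hD hf hst p hc hθ y hy hperf hp
    (fun r hr => (hV.exists_sel hr (hroots r hr).1 hv).elim fun e he => ⟨e, w, hw.1, he⟩) hself
  exact exists_section_of_lifts hD hf hst p hc hθ y hy φ hφ hφadd hφeq
    (fun r hr s hs h1 h2' => let ⟨b, _, hb1, hb2, _⟩ := hS.pair r hr s hs h1 h2'; ⟨b, hb1, hb2⟩)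
    fun r hr s hs h1 h2' => Or.inr (hkill r hr s hs h1 h2')

theorem chkThree_D4 : D4.cert.chkThree = true := by decide +kernel
theorem chkThree_F4 : F4.cert.chkThree = true := by decide +kernel
theorem chkFour_D4 : D4.cert.chkFour = true := by decide +kernel
theorem chkFour_F4 : F4.cert.chkFour = true := by decide +kernel
theorem chkFour_B2 : B2.cert.chkFour = true := by decide +kernel

end Cfsg.Agent.Chev
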