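/-
Splitting of central extensions of the group of (R1), (R2) of type B₂ over the field with three elements: the
torus centralises the long root subgroups, whose lifts are commutators of lifts of short root elements.
-/
import Cfsg.Agent.Lib.Chev.Steinberg.SmallField

set_option autoImplicit false

namespace Cfsg.Agent.Chev

open Cfsg.Lie
open scoped commutatorElement

namespace Cert

variable (c : Cert)

/-- Two short roots whose commutator is twice the long root `L`. -/
noncomputable def okPair (L d e : ℕ) : Bool :=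
  Nat.blt d c.nroots && (Nat.blt e c.nroots && (!(Nat.beq e d) && (!(Nat.beq e (c.ng d)) &&
    (!(Nat.beq L d) && (!(Nat.beq L (c.ng d)) && (!(Nat.beq L e) && (!(Nat.beq L (c.ng e)) &&
      (c.selB 2 d && (c.selB 2 e && (c.killB 2 d L && (c.killB 2 e L && ((c.comm d L).isEmpty &&
        ((c.comm e L).isEmpty &&
          match c.comm d e with
          | [(k, C, 1, 1)] => Nat.beq k L && intBeq (C * C) 4
          | _ => false)))))))))))))

/-- The pair chosen for a long root. -/
noncomputable def pairOf (L : ℕ) : ℕ × ℕ :=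
  (((List.range c.nroots).flatMap fun d => (c.keys d).map fun e => (d, e)).find?
    fun p => c.okPair L p.1 p.2).getD (0, 0)

/-- A long root commuting with `r`, one of its short roots commuting with `r` too. -/
noncomputable def moveB (r s f g : ℕ) : Bool :=
  !(Nat.beq f r) && (!(Nat.beq f (c.ng r)) && (!(Nat.beq g r) && (!(Nat.beq g (c.ng r)) && ((c.comm r f).isEmpty &&
    (c.killB 2 r f && (c.comm r g).all fun x => Nat.beq x.1 f || Nat.beq x.1 s)))))

/-- The check of type B₂ over three elements. -/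
noncomputable def chkThreeB : Bool :=
  allLt c.nroots (fun r => c.selB 2 r || c.okPair r (c.pairOf r).1 (c.pairOf r).2) &&
    allLt c.nroots fun r => allLt c.nroots fun s => Nat.beq s r || (Nat.beq s (c.ng r) || (c.killB 2 r s ||
      ((match c.comm r s with
        | [(k, _, 1, 1)] => !(c.selB 2 k) && ((Nat.beq r (c.pairOf k).1 && Nat.beq s (c.pairOf k).2) ||
            (Nat.beq s (c.pairOf k).1 && Nat.beq r (c.pairOf k).2))
        | _ => false) ||
      ((c.comm r s).isEmpty && (!(c.selB 2 s) && (c.moveB r s (c.pairOf s).1 (c.pairOf s).2 ||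
        c.moveB r s (c.pairOf s).2 (c.pairOf s).1))))))

end Cert

variable {D : ChevalleyDatum} {c : Cert} {K : Type*} [Field K] {E : Type*} [Group E]

/-- Central extensions of the group of type B₂ split over the field with three elements. -/
theorem exists_section_threeB (hV : Valid D c) {tabs simps : List ℕ} (hf : BNSetup.Facts D tabs simps)
    (hst : StData D) (hS : TorusSplitData D) (h : c.chkThreeB = true) [Fintype K] (hq : Fintype.card K = 3)
    (hperf : commutator (D.SteinbergCover K) = ⊤)
    (p : E →* D.SteinbergCover K) (hp : Function.Surjective p) (hc : p.ker ≤ Subgroup.center E) :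
    ∃ τ : D.SteinbergCover K →* E, ∀ g, p (τ g) = g := by
  classical
  have hD : Good D := ⟨c, hV⟩
  simp only [Cert.chkThreeB, Bool.and_eq_true, allLt_iff, hV.nroots_eq, Bool.or_eq_true, Nat.beq_eq] at h
  obtain ⟨hlong, hpairs⟩ := h
  obtain ⟨θ, -, hθ⟩ := hD.exists_cover_hom (F := K)
  set S : StModel D K (D.SteinbergCover K) := coverModel ((D.group K).subtype.comp θ) hθ with hSdef
  set y : D.SteinbergCover K → E := Function.surjInv hp with hydef
  have hy : ∀ g, p (y g) = g := Function.surjInv_eq hp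
  have h3 : (3 : K) = 0 := by
    have := Nat.cast_card_eq_zero K
    rwa [hq, Nat.cast_ofNat] at this
  have h2 : (2 : K) ≠ 0 := fun h => one_ne_zero (by linear_combination h3 - h : (1 : K) = 0)
  have h11 : (-1 : K) ≠ 1 := fun h => h2 (by linear_combination -h)
  have hv : ∀ z : ℤ, (-1 : K) ^ z = 1 ↔ ((2 : ℕ) : ℤ) ∣ z := fun z => by
    rcases Int.even_or_odd z with hz | hz
    · rw [hz.neg_one_zpow]; exact iff_of_true rfl (even_iff_two_dvd.1 hz)
    · rw [hz.neg_one_zpow]
      exact iff_of_false h11 fun hd => Int.not_even_iff_odd.2 hz (even_iff_two_dvd.2 hd)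
  have hfield : ∀ t : K, t = 0 ∨ t = 1 ∨ t = -1 := fun t => by
    have huniv : ({0, 1, -1} : Finset K) = Finset.univ := by
      refine Finset.eq_univ_of_card _ ?_
      rw [hq, Finset.card_insert_of_notMem (by simp), Finset.card_pair h11.symm]
    have ht : t ∈ ({0, 1, -1} : Finset K) := huniv ▸ Finset.mem_univ t
    simpa using ht
  have hself : ∀ r, r < D.nroots → ∀ t u : K, Commute (y (S.x r t)) (y (S.x r u)) := by
    intro r hr t u
    have hmult : ∀ t : K, ∃ n : ℕ, p (y (S.x r 1) ^ n) = S.x r t := by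
      intro t
      have hn : ∀ n : ℕ, p (y (S.x r 1) ^ n) = S.x r (n : K) := by
        intro n
        induction n with
        | zero => rw [pow_zero, map_one, Nat.cast_zero, S.x_zero hr]
        | succ n ih => rw [pow_succ, map_mul, ih, hy, S.add r hr, Nat.cast_succ]
      rcases hfield t with rfl | rfl | rfl
      · exact ⟨0, by rw [hn, Nat.cast_zero]⟩
      · exact ⟨1, by rw [hn, Nat.cast_one]⟩
      · exact ⟨2, by rw [hn, Nat.cast_ofNat, show (2 : K) = -1 by linear_combination h3]⟩
    obtain ⟨n, hn⟩ := hmult t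
    obtain ⟨k, hk⟩ := hmult u
    rw [← cm_eq_one, cm_congr hc (a' := y (S.x r 1) ^ n) (b' := y (S.x r 1) ^ k) (by rw [hy, hn]) (by rw [hy, hk]),
      cm_eq_one]
    exact ((Commute.refl _).pow_pow n k)
  have hkill : ∀ r s, r < D.nroots → s < D.nroots → s ≠ r → s ≠ c.ng r → c.killB 2 r s = true → c.comm r s = [] →
      ∀ {a b : E} {t u : K}, p a = S.x r t → p b = S.x s u → Commute a b := by
    intro r s hr hs e1 e2 hk he a b t u ha hb
    obtain ⟨e, he'⟩ := hV.exists_kill hr hs hk hv
    have := commute_of_kill hD hf hst p hc y hy hr hs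
      (fun t u => (cm_eq_one.1 (S.cm_orth ⟨hr, hs, e1, by rwa [hV.ng_eq hr], by rw [hV.comm_eq hr hs, he]⟩ t u)).symm)
      ⟨e, -1, neg_ne_zero.2 one_ne_zero, he'⟩ t u
    rw [← cm_eq_one, cm_congr hc (a' := y (S.x r t)) (b' := y (S.x s u)) (by rw [hy, ha]) (by rw [hy, hb]), cm_eq_one]
    exact this.symm
  have hsame : ∀ r, r < D.nroots → ∀ {a b : E} {t u : K}, p a = S.x r t → p b = S.x r u → Commute a b := by
    intro r hr a b t u ha hb
    rw [← cm_eq_one, cm_congr hc (a' := y (S.x r t)) (b' := y (S.x r u)) (by rw [hy, ha]) (by rw [hy, hb]), cm_eq_one]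
    exact hself r hr t u
  obtain ⟨φ₀, h0, h0add, h0eq⟩ := exists_lifts_on hD hf hst p hc hθ y hy (fun r => c.selB 2 r = true) hperf hp
    (fun r hr h => (hV.exists_sel hr h hv).elim fun e he => ⟨e, -1, neg_ne_zero.2 one_ne_zero, he⟩) hself
  replace h0 : ∀ r, r < D.nroots → c.selB 2 r = true → ∀ t, p (φ₀ r t) = S.x r t := h0
  -- the commutators of the pair of a long root
  have hok : ∀ L, L < D.nroots → ¬ c.selB 2 L = true → ∃ C : ℤ, (C : K) ≠ 0 ∧
      (c.pairOf L).1 < D.nroots ∧ (c.pairOf L).2 < D.nroots ∧ c.selB 2 (c.pairOf L).1 = true ∧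
      c.selB 2 (c.pairOf L).2 = true ∧ D.commTerms (c.pairOf L).1 (c.pairOf L).2 = [(L, C, 1, 1)] ∧
      (∀ t u, cm (S.x (c.pairOf L).2 u) (S.x (c.pairOf L).1 t) = S.x L (-((C : K) * t * u))) ∧
      (∀ {a b : E} {t u : K}, p a = S.x (c.pairOf L).1 t → p b = S.x L u → Commute a b) ∧
      (∀ {a b : E} {t u : K}, p a = S.x (c.pairOf L).2 t → p b = S.x L u → Commute a b) := by
    intro L hL hsel
    have h' := (hlong L hL).resolve_left hsel
    simp only [Cert.okPair, Bool.and_eq_true, Nat.blt_eq, hV.nroots_eq, Bool.not_eq_true', ← Bool.not_eq_true,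
      Nat.beq_eq, List.isEmpty_iff] at h'
    generalize hd : (c.pairOf L).1 = d at h' ⊢
    generalize he : (c.pairOf L).2 = e at h' ⊢
    obtain ⟨dl, el, e1, e2, a1, a2, b1, b2, sd, se, kd, ke, cd, ce, hm⟩ := h'
    split at hm
    · next k C heq =>
      rw [Bool.and_eq_true, Nat.beq_eq, intBeq_iff] at hm
      obtain ⟨rfl, hC⟩ := hm
      have hC0 : (C : K) ≠ 0 := fun h0 => by
        have h4 : ((C * C : ℤ) : K) = 4 := by rw [hC]; norm_num
        rw [Int.cast_mul, h0, mul_zero] at h4
        exact one_ne_zero (by linear_combination -h4 - h3 : (1 : K) = 0)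
      refine ⟨C, hC0, dl, el, sd, se, by rw [hV.comm_eq dl el, heq], fun t u => ?_,
        fun ha hb => hkill _ _ dl hL a1 a2 kd cd ha hb, fun ha hb => hkill _ _ el hL b1 b2 ke ce ha hb⟩
      rw [cm, S.comm d dl e el e1 (by rwa [hV.ng_eq dl]), ChevalleyDatum.commWord, hV.comm_eq dl el, heq]
      simp only [List.map_cons, List.map_nil, List.prod_cons, List.prod_nil, mul_one, pow_one]
      congr 1; ring
    · exact absurd hm (by simp)
  set B : ℕ → K → K → E := fun L u t => cm (φ₀ (c.pairOf L).2 u) (φ₀ (c.pairOf L).1 t) with hBdef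
  have hB : ∀ L, L < D.nroots → ¬ c.selB 2 L = true → ∃ C : ℤ, (C : K) ≠ 0 ∧
      D.commTerms (c.pairOf L).1 (c.pairOf L).2 = [(L, C, 1, 1)] ∧
      (∀ u t, p (B L u t) = S.x L (-((C : K) * t * u))) ∧
      (∀ u u' t, B L (u + u') t = B L u t * B L u' t) ∧ ∀ u t, B L u t = B L (u * t) 1 := by
    intro L hL hsel
    obtain ⟨C, hC0, dl, el, sd, se, hterm, hword, cd, ce⟩ := hok L hL hsel
    have hp' : ∀ u t, p (B L u t) = S.x L (-((C : K) * t * u)) := fun u t => by
      rw [hBdef, map_cm, h0 _ el se, h0 _ dl sd, hword]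
    have hl : ∀ u u' t, B L (u + u') t = B L u t * B L u' t := fun u u' t => by
      show cm _ _ = _
      rw [← h0add _ el se, cm_mul_left]
      have := ce (h0 _ el se u') (hp' u t)
      rw [show cm (φ₀ (c.pairOf L).2 u) (φ₀ (c.pairOf L).1 t) = B L u t from rfl, mul_assoc _ (B L u t), ← this.eq,
        inv_mul_cancel_left]
    have hr : ∀ u t t', B L u (t + t') = B L u t * B L u t' := fun u t t' => by
      show cm _ _ = _
      rw [← h0add _ dl sd, cm_mul_right]
      have := cd (h0 _ dl sd t') (hp' u t)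
      rw [show cm (φ₀ (c.pairOf L).2 u) (φ₀ (c.pairOf L).1 t) = B L u t from rfl, mul_assoc _ (B L u t), ← this.eq,
        inv_mul_cancel_left]
      exact (hsame L hL (hp' u t') (hp' u t)).eq
    have h1 : ∀ u, B L u 0 = 1 := fun u => by
      have := hr u 0 0
      rwa [add_zero, left_eq_mul] at this
    have h2 : ∀ t, B L 0 t = 1 := fun t => by
      have := hl 0 0 t
      rwa [add_zero, left_eq_mul] at this
    refine ⟨C, hC0, hterm, hp', hl, fun u t => ?_⟩
    rcases hfield t with rfl | rfl | rfl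
    · rw [h1, mul_zero, h2]
    · rw [mul_one]
    · have e1 := hr u 1 (-1)
      rw [add_neg_cancel, h1] at e1
      have e2 := hl u (-u) 1
      rw [add_neg_cancel, h2] at e2
      rw [mul_neg_one]
      exact (eq_inv_of_mul_eq_one_right e1.symm).trans (eq_inv_of_mul_eq_one_right e2.symm).symm
  choose! CL hCL hterm hBp hBl hBb using hB
  set φ : ℕ → K → E := fun r v => if c.selB 2 r = true then φ₀ r v else B r (-(v / (CL r : K))) 1 with hφdef
  have hφs : ∀ r, c.selB 2 r = true → ∀ v, φ r v = φ₀ r v := fun r h v => if_pos h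
  have hφl : ∀ r, ¬ c.selB 2 r = true → ∀ v, φ r v = B r (-(v / (CL r : K))) 1 := fun r h v => if_neg h
  have hφ : ∀ r, r < D.nroots → ∀ t, p (φ r t) = S.x r t := by
    intro r hr t
    by_cases h : c.selB 2 r = true
    · rw [hφs r h, h0 r hr h]
    · rw [hφl r h, hBp r hr h]
      congr 1
      have := hCL r hr h
      field_simp
  have hφadd : ∀ r, r < D.nroots → ∀ t u, φ r t * φ r u = φ r (t + u) := by
    intro r hr t u
    by_cases h : c.selB 2 r = true
    · rw [hφs r h, hφs r h, hφs r h, h0add r hr h]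
    · rw [hφl r h, hφl r h, hφl r h, ← hBl r hr h]
      congr 1; ring
  have hφeq : ∀ (a : ℕ → ℤ) (v : K), v ≠ 0 → ∀ r, r < D.nroots → ∀ t,
      y (S.torusWord a v) * φ r t * (y (S.torusWord a v))⁻¹ = φ r (v ^ wt D a r * t) := by
    intro a v hv0 r hr t
    by_cases h : c.selB 2 r = true
    · rw [hφs r h, hφs r h]; exact h0eq a v hv0 r hr h t
    · obtain ⟨C, -, dl, el, sd, se, -⟩ := hok r hr h
      have hwt : wt D a r = wt D a (c.pairOf r).1 + wt D a (c.pairOf r).2 := by
        have hm : (r, CL r, 1, 1) ∈ D.commTerms (c.pairOf r).1 (c.pairOf r).2 := by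
          rw [hterm r hr h]; exact List.mem_cons_self
        have := (hD.wt_commTerms a dl el hm).1
        simpa using this
      rw [hφl r h, hφl r h, hBdef,
        show ∀ g a b : E, g * cm a b * g⁻¹ = cm (g * a * g⁻¹) (g * b * g⁻¹) from fun g a b => by
          simp only [cm]; group, h0eq a v hv0 _ el se, h0eq a v hv0 _ dl sd]
      show B r _ _ = B r _ _
      rw [hBb r hr h]
      congr 1
      rw [hwt, zpow_add₀ hv0]
      ring
  refine exists_section_of_lifts hD hf hst p hc hθ y hy φ hφ hφadd hφeq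
    (fun r hr s hs h1 h2 => let ⟨b, _, hb1, hb2, _⟩ := hS.pair r hr s hs h1 h2; ⟨b, hb1, hb2⟩)
    fun r hr s hs h1 h2 => ?_
  rcases hpairs r hr s hs with h' | h' | h' | h' | h'
  · exact absurd h' h1
  · exact absurd (h'.trans (hV.ng_eq hr).symm) h2
  · obtain ⟨e, he'⟩ := hV.exists_kill hr hs h' hv
    exact Or.inr ⟨e, -1, neg_ne_zero.2 one_ne_zero, he'⟩
  · -- two short roots with long sum
    refine Or.inl fun t u => ?_
    split at h'
    · next k C heq =>
      simp only [Bool.and_eq_true, Bool.or_eq_true, Nat.beq_eq, Bool.not_eq_true', ← Bool.not_eq_true] at h'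
      obtain ⟨hk, hrs⟩ := h'
      have hkl : k < D.nroots := hV.comm_lt hr hs (heq ▸ List.mem_cons_self)
      obtain ⟨C', hC', dl, el, sd, se, -, -⟩ := hok k hkl hk
      obtain ⟨w, hw⟩ : ∃ w, cm (φ s u) (φ r t) = φ k w := by
        have hform : ∀ w, B k w 1 = φ k (-((CL k : K) * w)) := fun w => by
          rw [hφl k hk]
          congr 1
          have := hCL k hkl hk
          field_simp
        rcases hrs with ⟨e1, e2⟩ | ⟨e1, e2⟩
        · refine ⟨_, Eq.trans ?_ (hform (u * t))⟩
          rw [← hBb k hkl hk, e1, e2, hφs _ se, hφs _ sd]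
        · refine ⟨_, Eq.trans ?_ (hform (-(t * u)))⟩
          rw [e1, e2, hφs _ se, hφs _ sd,
            show ∀ a b : E, cm a b = (cm b a)⁻¹ from fun a b => by simp only [cm]; group,
            show cm (φ₀ (c.pairOf k).2 t) (φ₀ (c.pairOf k).1 u) = B k t u from rfl, hBb k hkl hk]
          have := hBl k hkl hk (t * u) (-(t * u)) 1
          rw [add_neg_cancel] at this
          have h0' := hBl k hkl hk 0 0 1
          rw [add_zero, left_eq_mul] at h0'
          rw [h0'] at this
          exact (eq_inv_of_mul_eq_one_right this.symm).symm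
      rw [hw, ChevalleyDatum.commWord, hV.comm_eq hr hs, heq]
      simp only [List.map_cons, List.map_nil, List.prod_cons, List.prod_nil, mul_one]
      congr 1
      have h5 := congrArg p hw
      rw [map_cm, hφ s hs, hφ r hr, hφ k hkl, cm, S.comm r hr s hs h1 h2, ChevalleyDatum.commWord,
        hV.comm_eq hr hs, heq] at h5
      simp only [List.map_cons, List.map_nil, List.prod_cons, List.prod_nil, mul_one] at h5
      have h6 := congrArg S.θ h5
      rw [S.map_x k hkl, S.map_x k hkl] at h6
      exact (hD.xg_injective hf hkl h6).symm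
    · exact absurd h' (by simp)
  · -- two commuting long roots
    refine Or.inl fun t u => ?_
    simp only [Bool.and_eq_true, Bool.or_eq_true, List.isEmpty_iff, Bool.not_eq_true', ← Bool.not_eq_true] at h'
    obtain ⟨hcomm, hsL, hmove⟩ := h'
    rw [ChevalleyDatum.commWord, hV.comm_eq hr hs, hcomm, List.map_nil, List.map_nil, List.prod_nil, cm_eq_one]
    obtain ⟨C, -, dl, el, sd, se, -, -, cd, ce⟩ := hok s hs hsL
    suffices H : ∀ f g, f < D.nroots → g < D.nroots → c.selB 2 f = true → c.selB 2 g = true →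
        c.moveB r s f g = true → (∀ {a b : E} {t u : K}, p a = S.x f t → p b = S.x s u → Commute a b) →
        ∀ a b, (∃ z, p (cm (φ₀ g a) (φ₀ f b)) = S.x s z) → Commute (φ r t) (cm (φ₀ g a) (φ₀ f b)) by
      rw [hφl s hsL]
      rcases hmove with hm | hm
      · exact (H _ _ dl el sd se hm (fun ha hb => cd ha hb) _ _ ⟨_, hBp s hs hsL _ _⟩).symm
      · have hz : ∃ z, p (cm (φ₀ (c.pairOf s).1 1) (φ₀ (c.pairOf s).2 (-(u / (CL s : K))))) = S.x s z := by
          rw [show ∀ a b : E, cm a b = (cm b a)⁻¹ from fun a b => by simp only [cm]; group, map_inv]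
          exact ⟨-_, (congrArg Inv.inv (hBp s hs hsL _ _)).trans (S.x_inv hs _)⟩
        have h9 := (H _ _ el dl se sd hm (fun ha hb => ce ha hb) 1 _ hz).inv_right
        rw [show ∀ a b : E, (cm a b)⁻¹ = cm b a from fun a b => by simp only [cm]; group] at h9
        exact h9.symm
    intro f g hf' hg' sf sg hm hfs a b hz
    obtain ⟨z, hz⟩ := hz
    simp only [Cert.moveB, Bool.and_eq_true, Bool.not_eq_true', ← Bool.not_eq_true, Nat.beq_eq, List.isEmpty_iff,
      List.all_eq_true, Bool.or_eq_true] at hm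
    obtain ⟨f1, f2, g1, g2, hcf, hkf, hall⟩ := hm
    set R := φ r t
    set G := φ₀ g a
    set F := φ₀ f b
    set Z := cm G F
    have hRF : Commute R F := hkill r f hr hf' f1 f2 hkf hcf (hφ r hr t) (h0 f hf' sf b)
    set X := G⁻¹ * R * G * R⁻¹ with hX
    have hpX : p X ∈ (Subgroup.centralizer {F} ⊓ Subgroup.centralizer {Z}).map p := by
      have e : p X = cm (S.x g a) (S.x r (-t)) := by
        rw [hX, map_mul, map_mul, map_mul, map_inv, map_inv, hφ r hr t, h0 g hg' sg a, cm, S.x_inv hr, S.x_inv hr,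
          neg_neg]
      rw [e, cm, S.comm r hr g hg' g1 (by rwa [hV.ng_eq hr]), ChevalleyDatum.commWord, List.map_map,
        hV.comm_eq hr hg']
      refine Subgroup.list_prod_mem _ fun m hm' => ?_
      obtain ⟨x, hx, rfl⟩ := List.mem_map.1 hm'
      refine ⟨y (S.x x.1 _), Subgroup.mem_inf.2 ?_, hy _⟩
      rcases hall x hx with e | e <;> rw [e]
      · exact ⟨Subgroup.mem_centralizer_iff.2 fun w hw => by
            rw [Set.mem_singleton_iff.1 hw]; exact (hsame f hf' (h0 f hf' sf b) (hy _)).eq,
          Subgroup.mem_centralizer_iff.2 fun w hw => by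
            rw [Set.mem_singleton_iff.1 hw]; exact (hfs (hy _) hz).eq.symm⟩
      · exact ⟨Subgroup.mem_centralizer_iff.2 fun w hw => by
            rw [Set.mem_singleton_iff.1 hw]; exact (hfs (h0 f hf' sf b) (hy _)).eq,
          Subgroup.mem_centralizer_iff.2 fun w hw => by
            rw [Set.mem_singleton_iff.1 hw]; exact (hsame s hs hz (hy _)).eq⟩
    have hXF : Commute F X := commute_lift_of_mem hc (Subgroup.map_mono inf_le_left hpX) rfl
    have hXZ : Commute Z X := commute_lift_of_mem hc (Subgroup.map_mono inf_le_right hpX) rfl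
    have key : R * Z * R⁻¹ = Z := by
      rw [show R * Z * R⁻¹ = cm (R * G * R⁻¹) (R * F * R⁻¹) by simp only [Z, cm]; group,
        show R * G * R⁻¹ = G * X by rw [hX]; group, hRF.eq, mul_inv_cancel_right, cm_mul_left,
        mul_assoc _ (cm G F) X, hXZ.eq, inv_mul_cancel_left, cm_eq_one.2 hXF.symm, mul_one]
    exact mul_inv_eq_iff_eq_mul.1 key

theorem chkThreeB_B2 : B2.cert.chkThreeB = true := by decide +kernel

end Cfsg.Agent.Chev
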