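/-
Splitting over three and four elements put together with the torus case, and the multiplier of a split cover.
-/
import Cfsg.Agent.Lib.Chev.Steinberg.SmallB2
import Cfsg.Agent.Lib.Chev.Steinberg.TorusMultiplier

set_option autoImplicit false

namespace Cfsg.Agent.Chev

open Cfsg.Lie
open scoped commutatorElement

universe u

variable {D : ChevalleyDatum} {K : Type u} [Field K] [Fintype K]

theorem card_three_or_four_or (h : 3 ≤ Fintype.card K) :
    Fintype.card K = 3 ∨ Fintype.card K = 4 ∨ ∃ s : Finset K, 4 < s.card := by
  rcases Nat.lt_or_ge 4 (Fintype.card K) with h' | h'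
  · exact Or.inr (Or.inr ⟨Finset.univ, by rwa [Finset.card_univ]⟩)
  · omega

/-- Central extensions split for B₂, D₄, F₄ over at least three elements. -/
theorem splitsCover_three_le (hD : D ∈ [chevB2, chevD4, chevF4]) (hK : 3 ≤ Fintype.card K)
    (hperf : commutator (D.SteinbergCover K) = ⊤) : SplitsCover D K := by
  have hD7 : D ∈ [chevG2, chevB2, chevD4, chevF4, chevE6, chevE7, chevE8] := by
    simp only [List.mem_cons, List.not_mem_nil, or_false] at hD ⊢; tauto
  obtain ⟨tabs, simps, hf⟩ := BNSetup.exists_facts hD7
  have hst := stData_of_mem D hD7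
  have hS := torusSplitData_of_mem hD7
  rcases card_three_or_four_or hK with h | h | h
  · intro E G₁ _ _ π h1 h2 σ
    refine exists_lift_of_sections π h1 h2 σ fun P q hq hqc => ?_
    simp only [List.mem_cons, List.not_mem_nil, or_false] at hD
    rcases hD with rfl | rfl | rfl
    exacts [exists_section_threeB B2.valid hf hst hS chkThreeB_B2 h hperf q hq hqc,
      exists_section_three D4.valid hf hst hS chkThree_D4 h hperf q hq hqc,
      exists_section_three F4.valid hf hst hS chkThree_F4 h hperf q hq hqc]
  · intro E G₁ _ _ π h1 h2 σ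
    refine exists_lift_of_sections π h1 h2 σ fun P q hq hqc => ?_
    simp only [List.mem_cons, List.not_mem_nil, or_false] at hD
    rcases hD with rfl | rfl | rfl
    exacts [exists_section_four B2.valid hf hst hS chkFour_B2 h hperf q hq hqc,
      exists_section_four D4.valid hf hst hS chkFour_D4 h hperf q hq hqc,
      exists_section_four F4.valid hf hst hS chkFour_F4 h hperf q hq hqc]
  · exact splitsCover_torus hD7 h hperf

/-- The group of (R1), (R2) over a finite field is finite. -/
theorem finite_cover (hD : Good D) {tabs simps : List ℕ} (hf : BNSetup.Facts D tabs simps) (hst : StData D) :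
    Finite (D.SteinbergCover K) := by
  classical
  obtain ⟨θ, hs, hθ⟩ := hD.exists_cover_hom (F := K)
  let S := coverModel ((D.group K).subtype.comp θ) hθ
  have hgen := closure_scGen D K
  have hm := S.mulRel_of_finite hD hf hst (S.ker_le_center hD hf hst hgen)
  have e : θ.ker = S.θ.ker := by
    show θ.ker = ((D.group K).subtype.comp θ).ker
    rw [MonoidHom.ker_comp_of_injective _ _ (Subgroup.subtype_injective _)]
  have hfk : Finite θ.ker := by
    rw [e, S.ker_eq_map hD hf hst hm hgen]
    exact Set.Finite.to_subtype ((Set.toFinite _).image _)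
  have : Finite (D.SteinbergCover K ⧸ θ.ker) :=
    Finite.of_equiv _ (QuotientGroup.quotientKerEquivOfSurjective θ hs).toEquiv.symm
  exact Finite.of_equiv _ (Subgroup.groupEquivQuotientProdSubgroup (s := θ.ker)).symm

omit [Fintype K] in
/-- A finite perfect group whose central extensions split has trivial multiplier, as has any isomorphic group. -/
theorem multiplier_trivial_of_iso (hfin : Finite (D.SteinbergCover K)) (hsplit : SplitsCover D K) {G : Type u}
    [Group G] (e : D.SteinbergCover K ≃* G) : Cfsg.HasCyclicSchurMultiplier G 1 := by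
  have : Finite G := Finite.of_equiv _ e.toEquiv
  refine ⟨⟨G, inferInstance, inferInstance, MonoidHom.id G,
    ⟨Function.surjective_id, ?_, ?_⟩, ⟨?_⟩⟩, ?_⟩
  · rw [MonoidHom.ker_id]; exact bot_le
  · rw [MonoidHom.ker_id]; exact bot_le
  · rw [MonoidHom.ker_id]; exact MulEquiv.ofUnique
  · intro Γ _ _ π hπ
    obtain ⟨τ, hτ⟩ := hsplit Γ G π hπ.1 hπ.2.1 e.toMonoidHom
    have hτ' : ∀ x, π (τ x) = e x := fun x => DFunLike.congr_fun hτ x
    have hle : commutator Γ ≤ τ.range := by
      rw [commutator_def, Subgroup.commutator_le]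
      rintro a - b -
      exact ⟨⁅e.symm (π a), e.symm (π b)⁆, (map_commutatorElement τ _ _).trans
        (Schur.commutator_congr hπ.2.1 ((hτ' _).trans (e.apply_symm_apply _))
          ((hτ' _).trans (e.apply_symm_apply _)))⟩
    have hbot : ∀ k ∈ π.ker, k = 1 := fun k hk => by
      obtain ⟨s, rfl⟩ := hle (hπ.2.2 hk)
      rw [MonoidHom.mem_ker, hτ', ← map_one e, e.injective.eq_iff] at hk
      rw [hk, map_one]
    exact ⟨1, fun k => ⟨1, Subtype.ext (hbot k.1 k.2).symm⟩⟩

end Cfsg.Agent.Chev
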